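import Groth.Agent.NodalQ.MaxOpen

/-!
# Nodal families as morphisms all of whose points are nodal points
-/

set_option autoImplicit false
set_option linter.style.haveILetI false
set_option backward.isDefEq.respectTransparency false
set_option backward.isDefEq.respectTransparency.types false
set_option maxHeartbeats 1000000

universe u

open CategoryTheory CategoryTheory.Limits AlgebraicGeometry TopologicalSpace Groth.Agent

noncomputable section

namespace Groth.Agent.NodalQ

variable {X S : Scheme.{u}} (f : X ⟶ S) [Flat f] [LocallyOfFinitePresentation f]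

theorem isNodalFamily_iff_univ : Curv2.IsNodalFamily f ↔ nodalPts f = Set.univ := by
  constructor
  · rintro ⟨-, -, h⟩
    refine Set.eq_univ_of_forall fun x => ⟨fibreDimAt_eq_one f x (h _).1, ?_⟩
    exact (atWorstNodal_fibre_iff f (isOpen_smoothOrNode _ fun s => (h s).1) _).1 (h _).2 x rfl
  · intro hO
    have hmem : ∀ y : X, y ∈ nodalPts f := fun y => hO.ge (Set.mem_univ y)
    have hfib : ∀ s, ∀ Z ∈ irreducibleComponents (↥(f.fiber s) : Type u), topologicalKrullDim Z = 1 := by
      intro s Z hZ
      have hm : topologicalKrullDim Z ∈ (fun Z : Set ↥(f.fiber s) => topologicalKrullDim ↥Z) ''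
          irreducibleComponents ↥(f.fiber s) := ⟨Z, hZ, rfl⟩
      rw [FibDim.fiber_component_dims] at hm
      obtain ⟨z, ⟨-, hz⟩, he⟩ := hm
      rw [← he]
      exact ((FibDim.fibreDimAt_eq_rd f hz).symm.trans (hmem z).1)
    refine ⟨inferInstance, inferInstance, fun s => ⟨hfib s, ?_⟩⟩
    exact (atWorstNodal_fibre_iff f (isOpen_smoothOrNode _ hfib) s).2 fun y _ => (hmem y).2

end Groth.Agent.NodalQ
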