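import Groth.Agent.NodalQ.Completion
import Groth.Agent.NodalLib.FieldExt
import Mathlib.RingTheory.RegularLocalRing.Defs
import Mathlib.RingTheory.KrullDimension.Zero

/-!
# A node lies unramified over a singular point

If an ordinary double point is flat over a singular one-dimensional local ring, with zero-dimensional closed fibre,
then the closed fibre is reduced: on the two branches the orders `a, b` of the extended maximal ideal `J` satisfy
`a + b ≤ e + 1` and `ℓ(J^n) ≤ n(a + b) + 1`, while `ℓ(J^n) ≥ e(2n − 1)` by flatness, `e` being the colength of `J`.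
-/

set_option autoImplicit false
set_option linter.style.haveILetI false
set_option linter.unusedSectionVars false
set_option backward.isDefEq.respectTransparency false
set_option backward.isDefEq.respectTransparency.types false
set_option maxHeartbeats 1000000

universe u

open IsLocalRing Groth.Agent.NodalLib

noncomputable section

namespace Groth.Agent.NodalQ

section Axes

variable {C : Type u} [CommRing C] [IsLocalRing C] {X Y : C} (hspan : Ideal.span {X, Y} = maximalIdeal C)
  (hXY : X * Y = 0) (hX : ¬ IsNilpotent X)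
include hspan hXY

theorem dich {a : ℕ} {f : C} (hf : f ∉ Ideal.span {X ^ a, Y}) :
    ∃ i < a, ∃ u : C, IsUnit u ∧ f - u * X ^ i ∈ Ideal.span {Y} := by
  induction a with
  | zero =>
    refine absurd ?_ hf
    rw [pow_zero]
    exact Ideal.mem_span_pair.2 ⟨f, 0, by ring⟩
  | succ a ih =>
    by_cases h : f ∈ Ideal.span {X ^ a, Y}
    · obtain ⟨s, t, rfl⟩ := Ideal.mem_span_pair.1 h
      by_cases hs : IsUnit s
      · exact ⟨a, by omega, s, hs, Ideal.mem_span_singleton'.2 ⟨t, by ring⟩⟩
      · refine absurd ?_ hf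
        have hs' : s ∈ Ideal.span {X, Y} := hspan.symm ▸ (mem_maximalIdeal s).2 hs
        obtain ⟨p, q, rfl⟩ := Ideal.mem_span_pair.1 hs'
        exact Ideal.mem_span_pair.2 ⟨p, q * X ^ a + t, by ring⟩
    · obtain ⟨i, hi, r⟩ := ih h
      exact ⟨i, by omega, r⟩

include hX

theorem notMem_span {i a : ℕ} (hi : i < a) : X ^ i ∉ Ideal.span {X ^ a, Y} := fun h => by
  obtain ⟨p, q, hpq⟩ := Ideal.mem_span_pair.1 h
  obtain ⟨d, rfl⟩ := Nat.exists_eq_add_of_lt hi
  have hu : IsUnit (1 - p * X ^ (d + 1)) := IsLocalRing.isUnit_one_sub_self_of_mem_nonunits _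
    (Ideal.mul_mem_left _ _ (Ideal.pow_mem_of_mem _ (x_mem hspan) _ (by omega)))
  refine hX ⟨i + 1, hu.mul_right_eq_zero.1 ?_⟩
  linear_combination (-X) * hpq + q * hXY

theorem exists_order {J : Ideal C} (hJ : J ≤ maximalIdeal C) (hN : ∃ N, maximalIdeal C ^ N ≤ J) :
    ∃ a : ℕ, 0 < a ∧ J ≤ Ideal.span {X ^ a, Y} ∧ ∀ n : ℕ, X ^ (n * a + 1) ∈ J ^ n := by
  classical
  obtain ⟨N, hN⟩ := hN
  have hex : ∃ i : ℕ, ∃ f ∈ J, X ^ i - f ∈ Ideal.span {Y} :=
    ⟨N, X ^ N, hN (Ideal.pow_mem_pow (x_mem hspan) _), by simp⟩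
  obtain ⟨f, hf, hfa⟩ := Nat.find_spec hex
  set a := Nat.find hex
  have ha : 0 < a := by
    refine Nat.pos_of_ne_zero fun h0 => ?_
    rw [h0, pow_zero] at hfa
    have h1 : (1 : C) ∈ maximalIdeal C := by
      rw [show (1 : C) = (1 - f) + f by ring]
      exact add_mem (Ideal.span_le.2 (Set.singleton_subset_iff.2 (y_mem hspan)) hfa) (hJ hf)
    exact (mem_maximalIdeal _).1 h1 isUnit_one
  refine ⟨a, ha, fun g hg => ?_, fun n => ?_⟩
  · by_contra hga
    obtain ⟨i, hi, w, hw, hgi⟩ := dich hspan hXY hga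
    obtain ⟨v, hv⟩ := hw.exists_left_inv
    refine Nat.find_min hex hi ⟨v * g, Ideal.mul_mem_left _ _ hg, ?_⟩
    obtain ⟨t, ht⟩ := Ideal.mem_span_singleton'.1 hgi
    exact Ideal.mem_span_singleton'.2 ⟨-(v * t), by linear_combination (-v) * ht + (X ^ i) * hv⟩
  · obtain ⟨r, hr⟩ := Ideal.mem_span_singleton'.1 hfa
    induction n with
    | zero => simp
    | succ n ih =>
      rw [show X ^ ((n + 1) * a + 1) = f * X ^ (n * a + 1) by
        rw [show (n + 1) * a + 1 = a + (n * a + 1) by ring, pow_add, pow_succ']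
        linear_combination (-(X * X ^ (n * a))) * hr + r * X ^ (n * a) * hXY, pow_succ']
      exact Ideal.mul_mem_mul hf ih

theorem ell_axes (hY : ¬ IsNilpotent Y) (i j : ℕ) : ell (Ideal.span {X ^ (i + 1), Y ^ (j + 1)}) = (i + j + 1 : ℕ) := by
  induction i generalizing j with
  | zero =>
    induction j with
    | zero => rw [zero_add, pow_one, pow_one, hspan, ell_maximal]; simp
    | succ j ih =>
      have h := (ell_step (J := Ideal.span {X ^ (0 + 1), Y ^ (j + 1 + 1)}) (Y ^ (j + 1))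
        (I := Ideal.span {X ^ (0 + 1), Y ^ (j + 1)}) ?_ ?_).2 ?_
      · rw [h, ih]; norm_cast
      · refine le_antisymm (Ideal.span_le.2 ?_) (sup_le (Ideal.span_le.2 ?_) (Ideal.span_mono (by simp)))
        · rintro z (rfl | rfl)
          · exact Submodule.mem_sup_left (Ideal.subset_span (by simp))
          · exact Submodule.mem_sup_right (Ideal.mem_span_singleton_self _)
        · rintro z (rfl | rfl)
          · exact Ideal.subset_span (by simp)
          · exact Ideal.mem_span_pair.2 ⟨0, Y, by ring⟩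
      · intro t ht
        rw [← hspan, Ideal.mem_span_pair] at ht
        obtain ⟨p, q, rfl⟩ := ht
        refine Ideal.mem_span_pair.2 ⟨0, q, ?_⟩
        linear_combination (-(p * Y ^ j)) * hXY
      · rw [zero_add, pow_one, Set.pair_comm]
        exact notMem_span (by rw [Set.pair_comm, hspan]) (by rw [mul_comm, hXY]) hY (Nat.lt_succ_self _)
  | succ i ih =>
    have h := (ell_step (J := Ideal.span {X ^ (i + 1 + 1), Y ^ (j + 1)}) (X ^ (i + 1))
      (I := Ideal.span {X ^ (i + 1), Y ^ (j + 1)}) ?_ ?_).2 ?_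
    · rw [h, ih j]; push_cast; ring
    · refine le_antisymm (Ideal.span_le.2 ?_) (sup_le (Ideal.span_le.2 ?_) (Ideal.span_mono (by simp)))
      · rintro z (rfl | rfl)
        · exact Submodule.mem_sup_right (Ideal.mem_span_singleton_self _)
        · exact Submodule.mem_sup_left (Ideal.subset_span (by simp))
      · rintro z (rfl | rfl)
        · exact Ideal.mem_span_pair.2 ⟨X, 0, by ring⟩
        · exact Ideal.subset_span (by simp)
    · intro t ht
      rw [← hspan, Ideal.mem_span_pair] at ht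
      obtain ⟨p, q, rfl⟩ := ht
      refine Ideal.mem_span_pair.2 ⟨p, 0, ?_⟩
      linear_combination (-(q * X ^ i)) * hXY
    · refine fun hmem => notMem_span hspan hXY hX (Nat.lt_succ_self (i + 1)) ?_
      obtain ⟨p, q, hpq⟩ := Ideal.mem_span_pair.1 hmem
      exact Ideal.mem_span_pair.2 ⟨p, q * Y ^ j, by rw [Nat.succ_eq_add_one]; linear_combination hpq⟩

theorem ell_bounds (hY : ¬ IsNilpotent Y) {J : Ideal C} (hJ : J ≤ maximalIdeal C) (hN : ∃ N, maximalIdeal C ^ N ≤ J) :
    ∃ a b : ℕ, ((a + b : ℕ) : ℕ∞) ≤ ell J + 1 ∧ ∀ n : ℕ, ell (J ^ n) ≤ (n * (a + b) + 1 : ℕ) := by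
  have hspan' : Ideal.span {Y, X} = maximalIdeal C := by rw [Set.pair_comm, hspan]
  have hYX : Y * X = 0 := by rw [mul_comm, hXY]
  obtain ⟨a, ha, hJa, hpa⟩ := exists_order hspan hXY hX hJ hN
  obtain ⟨b, hb, hJb, hpb⟩ := exists_order hspan' hYX hY hJ hN
  obtain ⟨a, rfl⟩ := Nat.exists_eq_add_one.2 ha
  obtain ⟨b, rfl⟩ := Nat.exists_eq_add_one.2 hb
  refine ⟨a + 1, b + 1, ?_, fun n => ?_⟩
  · have hle : J ≤ Ideal.span {X ^ (a + 1), Y ^ (b + 1)} := fun f hf => by
      obtain ⟨s, t, rfl⟩ := Ideal.mem_span_pair.1 (hJa hf)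
      have htY : t * Y ∈ Ideal.span {Y ^ (b + 1), X} := by
        have h1 : s * X ^ (a + 1) ∈ Ideal.span {Y ^ (b + 1), X} :=
          Ideal.mem_span_pair.2 ⟨0, s * X ^ a, by ring⟩
        simpa using sub_mem (hJb hf) h1
      have ht : t ∈ Ideal.span {Y ^ b, X} := by
        by_contra ht
        obtain ⟨i, hi, w, hw, hwi⟩ := dich hspan' hYX ht
        obtain ⟨r, hr⟩ := Ideal.mem_span_singleton'.1 hwi
        refine notMem_span hspan' hYX hY (show i + 1 < b + 1 by omega) ((Ideal.unit_mul_mem_iff_mem _ hw).1 ?_)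
        rwa [show w * Y ^ (i + 1) = t * Y by linear_combination Y * hr - r * hXY]
      obtain ⟨q, p, hqp⟩ := Ideal.mem_span_pair.1 ht
      exact Ideal.mem_span_pair.2 ⟨s, q, by linear_combination Y * hqp - p * hXY⟩
    have h := ell_antitone hle
    rw [ell_axes hspan hXY hX hY] at h
    calc ((a + 1 + (b + 1) : ℕ) : ℕ∞) = ((a + b + 1 : ℕ) : ℕ∞) + 1 := by push_cast; ring
      _ ≤ _ := by gcongr
  · have hle : Ideal.span {X ^ (n * (a + 1) + 1), Y ^ (n * (b + 1) + 1)} ≤ J ^ n := by
      rw [Ideal.span_le]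
      rintro z (rfl | rfl)
      exacts [hpa n, hpb n]
    refine (ell_antitone hle).trans (le_of_eq ?_)
    rw [ell_axes hspan hXY hX hY]
    push_cast; ring

end Axes

section Lower

variable {A : Type u} [CommRing A] [IsLocalRing A] [IsNoetherianRing A] [IsReduced A]

theorem eq_zero_of_pow_mul (hne : maximalIdeal A ≠ ⊥) (n : ℕ) (z : A)
    (h : ∀ t ∈ maximalIdeal A ^ n, t * z = 0) : z = 0 := by
  induction n generalizing z with
  | zero => simpa using h 1 (by simp)
  | succ n ih =>
    refine ih z fun t ht => ?_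
    by_cases hu : IsUnit (t * z)
    · refine absurd ?_ hne
      rw [eq_bot_iff]
      intro r hr
      exact hu.mul_left_eq_zero.1 (by rw [← mul_assoc]; exact h _ (by rw [pow_succ']; exact Ideal.mul_mem_mul hr ht))
    · refine IsNilpotent.eq_zero ⟨2, ?_⟩
      rw [sq]
      have : t * z * t ∈ maximalIdeal A ^ (n + 1) := by
        rw [pow_succ']; exact Ideal.mul_mem_mul ((mem_maximalIdeal _).2 hu) ht
      linear_combination h _ this

/-- A power of the maximal ideal of a reduced local ring is principal only if the maximal ideal is. -/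
theorem isPrincipal_of_pow (hne : maximalIdeal A ≠ ⊥) (n : ℕ) {f : A}
    (hf : maximalIdeal A ^ (n + 1) = Ideal.span {f}) : (maximalIdeal A).IsPrincipal := by
  have hfreg : ∀ z, f * z = 0 → z = 0 := fun z hz => eq_zero_of_pow_mul hne (n + 1) z fun t ht => by
    rw [hf, Ideal.mem_span_singleton'] at ht
    obtain ⟨c, rfl⟩ := ht
    rw [mul_assoc, hz, mul_zero]
  obtain ⟨a, ha, b, hb, c, hc, hab⟩ : ∃ a ∈ maximalIdeal A, ∃ b ∈ maximalIdeal A ^ n, ∃ c, IsUnit c ∧ a * b = c * f := by
    by_contra! hcon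
    have hle : maximalIdeal A * maximalIdeal A ^ n ≤ maximalIdeal A * Ideal.span {f} := Ideal.mul_le.2 fun a ha b hb => by
      have hab : a * b ∈ Ideal.span {f} := hf ▸ (pow_succ' (maximalIdeal A) n).symm ▸ Ideal.mul_mem_mul ha hb
      obtain ⟨c, hc⟩ := Ideal.mem_span_singleton'.1 hab
      rw [← hc]
      refine Ideal.mul_mem_mul ((mem_maximalIdeal c).2 fun hcu => hcon a ha b hb c hcu hc.symm) ?_
      exact Ideal.mem_span_singleton_self f
    have hfm : f ∈ maximalIdeal A * Ideal.span {f} := hle (by rw [← pow_succ', hf]; exact Ideal.mem_span_singleton_self f)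
    obtain ⟨t, ht, htf⟩ := Ideal.mem_mul_span_singleton.1 hfm
    have hu : IsUnit (1 - t) := IsLocalRing.isUnit_one_sub_self_of_mem_nonunits _ ht
    have hf0 : f = 0 := hu.mul_right_eq_zero.1 (by linear_combination -htf)
    exact one_ne_zero (hfreg 1 (by rw [hf0, zero_mul]))
  obtain ⟨v, hv⟩ := hc.exists_left_inv
  refine ⟨a, le_antisymm (fun z hz => ?_) (Ideal.span_le.2 (Set.singleton_subset_iff.2 ha))⟩
  have hzb : z * b ∈ Ideal.span {f} := hf ▸ (pow_succ' (maximalIdeal A) n).symm ▸ Ideal.mul_mem_mul hz hb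
  obtain ⟨r, hr⟩ := Ideal.mem_span_singleton'.1 hzb
  refine Ideal.mem_span_singleton'.2 ⟨r * v, ?_⟩
  refine sub_eq_zero.1 (hfreg _ ?_)
  linear_combination v * a * hr + v * z * hab + z * f * hv

theorem two_mul_add_one_le_ell (hnp : ¬ (maximalIdeal A).IsPrincipal) (n : ℕ) :
    ((2 * n + 1 : ℕ) : ℕ∞) ≤ ell (maximalIdeal A ^ (n + 1)) := by
  induction n with
  | zero => rw [zero_add, pow_one, ell_maximal]; simp
  | succ n ih =>
    have hne : maximalIdeal A ≠ ⊥ := fun h => hnp (h ▸ bot_isPrincipal)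
    set I := maximalIdeal A ^ (n + 1)
    set J := maximalIdeal A ^ (n + 2)
    have hJI : J ≤ I := Ideal.pow_le_pow_right (by omega)
    have hkey : ∀ f ∈ I, ∃ z ∈ I, z ∉ J ⊔ Ideal.span {f} := fun f hf => by
      by_contra! hcon
      refine hnp (isPrincipal_of_pow hne n (f := f) (le_antisymm ?_ (Ideal.span_le.2 (Set.singleton_subset_iff.2 hf))))
      refine Submodule.le_of_le_smul_of_le_jacobson_bot (I := maximalIdeal A) (IsNoetherian.noetherian _)
        (maximalIdeal_le_jacobson _) ?_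
      rw [smul_eq_mul, ← pow_succ', sup_comm]
      exact hcon
    obtain ⟨v, hvI, hv⟩ := hkey 0 (zero_mem _)
    rw [show J ⊔ Ideal.span {(0 : A)} = J by simp] at hv
    obtain ⟨w, hwI, hw⟩ := hkey v hvI
    have e1 := (ell_step (J := J) v rfl (mul_mem_pow_succ hvI)).2 hv
    have e2 := (ell_step (J := J ⊔ Ideal.span {v}) w rfl fun t ht => Submodule.mem_sup_left (mul_mem_pow_succ hwI t ht)).2 hw
    have e3 : ell I ≤ ell (J ⊔ Ideal.span {v} ⊔ Ideal.span {w}) :=
      ell_antitone (sup_le (sup_le hJI (Ideal.span_le.2 (Set.singleton_subset_iff.2 hvI)))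
        (Ideal.span_le.2 (Set.singleton_subset_iff.2 hwI)))
    calc ((2 * (n + 1) + 1 : ℕ) : ℕ∞) = ((2 * n + 1 : ℕ) : ℕ∞) + 1 + 1 := by push_cast; ring
      _ ≤ ell (J ⊔ Ideal.span {v} ⊔ Ideal.span {w}) + 1 + 1 := by gcongr; exact ih.trans e3
      _ = ell J := by rw [← e2, ← e1]

theorem isRegularLocalRing_of_isPrincipal (h : (maximalIdeal A).IsPrincipal) : IsRegularLocalRing A := by
  obtain ⟨g, hg⟩ := h
  refine IsRegularLocalRing.of_spanFinrank_maximalIdeal_le _ ?_
  by_cases hne : maximalIdeal A = ⊥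
  · rw [hne, Submodule.spanFinrank_bot]
    exact_mod_cast ringKrullDim_nonneg_of_nontrivial
  · have h1 : (maximalIdeal A).spanFinrank ≤ 1 := by
      rw [hg]
      exact (Submodule.spanFinrank_span_le_ncard_of_finite (Set.finite_singleton _)).trans (by simp)
    have h2 : ¬ Ring.KrullDimLE 0 A := fun hd =>
      hne (IsLocalRing.isField_iff_maximalIdeal_eq.1 Ring.KrullDimLE.isField_of_isReduced)
    rw [Ring.krullDimLE_iff, not_le] at h2
    refine le_trans (show ((maximalIdeal A).spanFinrank : WithBot ℕ∞) ≤ (1 : ℕ) by exact_mod_cast h1) ?_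
    have h3 : (0 : WithBot ℕ∞) < ringKrullDim A := by exact_mod_cast h2
    obtain ⟨d, hd⟩ := WithBot.ne_bot_iff_exists.1 (ne_bot_of_gt h3)
    rw [← hd] at h3 ⊢
    exact_mod_cast Order.one_le_iff_pos.2 (WithBot.coe_pos.1 h3)

end Lower

section Fibre

variable {A B : Type u} [CommRing A] [CommRing B] [IsLocalRing A] [IsLocalRing B] (φ : A →+* B) [IsLocalHom φ]

theorem ell_map_mul (hflat : φ.Flat) (J : Ideal A) :
    ell (J.map φ) = ell J * ell ((maximalIdeal A).map φ) := by
  algebraize [φ]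
  haveI : IsLocalHom (algebraMap A B) := ‹IsLocalHom φ›
  have h := IsLocalRing.length_baseChange A B (A ⧸ J)
  exact ((Algebra.TensorProduct.quotIdealMapEquivTensorQuot B J).toLinearEquiv.length_eq).trans h

/-- An ordinary double point over a singular reduced point has reduced closed fibre. -/
theorem map_maximalIdeal_of_crit [IsNoetherianRing A] [IsNoetherianRing B] [IsReduced A] (hflat : φ.Flat)
    (hA : ¬ (maximalIdeal A).IsPrincipal) (hprim : ∃ N, maximalIdeal B ^ N ≤ (maximalIdeal A).map φ)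
    (hB : Crit B) : (maximalIdeal A).map φ = maximalIdeal B := by
  let C := AdicCompletion (maximalIdeal B) B
  let g := algebraMap B C
  haveI : IsNoetherianRing C := LC.Canon.isNoetherianRing_completion (R := B)
  haveI : IsAdicComplete (maximalIdeal C) C := NodeLib.isAdicComplete_maximalIdeal B
  obtain ⟨x, y, hspan, hxy, hl⟩ := Crit.map g completion_flat completion_map hB
  obtain ⟨X, Y, hXY, hmul⟩ := exists_mul_eq_zero hspan hxy
  have hnil : ∀ {X Y : C}, Ideal.span {X, Y} = maximalIdeal C → X * Y = 0 → ¬ IsNilpotent X := by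
    rintro X Y hsp hm ⟨N, hN⟩
    have hX0 : X ^ (N + 1) = 0 := by rw [pow_succ, hN, zero_mul]
    have h := indep_of_ell (I := maximalIdeal C ^ (N + 1)) (J := maximalIdeal C ^ (N + 2))
      (u := X ^ (N + 1)) (v := Y ^ (N + 1)) ?_ (mul_mem_pow_succ (Ideal.pow_mem_pow (x_mem hsp) _))
      (mul_mem_pow_succ (Ideal.pow_mem_pow (y_mem hsp) _)) (2 * N + 1) (hl N) (hl (N + 1)) (s := 1) (t := 0)
      (by rw [one_mul, zero_mul, add_zero, hX0]; exact zero_mem _)
    · exact (mem_maximalIdeal _).1 h.1 isUnit_one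
    · rw [← pow_eq_of_mul_eq_zero hsp hm N, eq_comm, sup_eq_right]
      exact Ideal.pow_le_pow_right (by omega)
  set JB := (maximalIdeal A).map φ
  set J := JB.map g
  have hJm : J ≤ maximalIdeal C := (Ideal.map_mono (IsLocalRing.map_maximalIdeal_le φ)).trans completion_map.le
  obtain ⟨N, hN⟩ := hprim
  have hNJ : maximalIdeal C ^ N ≤ J := by
    rw [← map_pow_maximalIdeal g completion_flat completion_map]
    exact Ideal.map_mono hN
  obtain ⟨a, b, hab, hup⟩ := ell_bounds hXY hmul (hnil hXY hmul)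
    (hnil (by rw [Set.pair_comm, hXY]) (by rw [mul_comm, hmul])) hJm ⟨N, hNJ⟩
  haveI : IsLocalHom (g.comp φ) := inferInstance
  have hpow : ell (J ^ 4) = ell (maximalIdeal A ^ 4) * ell J := by
    rw [show J ^ 4 = (maximalIdeal A ^ 4).map (g.comp φ) by
      rw [Ideal.map_pow, ← Ideal.map_map], ell_map_mul (g.comp φ) (hflat.comp completion_flat), ← Ideal.map_map]
  have hfin : ell J ≠ ⊤ := by
    refine ne_top_of_le_ne_top ?_ (ell_antitone hNJ)
    rcases N with _ | N
    · rw [pow_zero, Ideal.one_eq_top, ell, Module.length_eq_zero_iff.2 inferInstance]; simp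
    · rw [hl N]; exact ENat.natCast_ne_top _
  obtain ⟨e, he⟩ := WithTop.ne_top_iff_exists.1 hfin
  have he' : ell J = (e : ℕ∞) := he.symm
  have h7 : ((7 * e : ℕ) : ℕ∞) ≤ (4 * (a + b) + 1 : ℕ) := by
    refine le_trans ?_ (hup 4)
    rw [hpow, he']
    push_cast
    gcongr
    exact_mod_cast two_mul_add_one_le_ell hA 3
  rw [he'] at hab
  norm_cast at hab h7
  have he1 : e ≤ 1 := by omega
  have hJ1 : ell J = 1 := by
    rw [he']
    refine le_antisymm (by exact_mod_cast he1) ?_
    rw [← he', ← ell_maximal (R := C)]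
    exact ell_antitone hJm
  have hJeq : J = maximalIdeal C := by
    haveI : IsSimpleModule C (C ⧸ J) := Module.length_eq_one_iff.1 hJ1
    exact IsLocalRing.eq_maximalIdeal ⟨isSimpleModule_iff_isCoatom.1 this⟩
  haveI : Module.FaithfullyFlat B C := Module.FaithfullyFlat.of_flat_of_isLocalHom
  rw [← Ideal.comap_map_eq_self_of_faithfullyFlat (B := C) JB]
  show J.comap g = _
  rw [hJeq]
  exact IsLocalRing.maximalIdeal_comap g

end Fibre

end Groth.Agent.NodalQ
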