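import Groth.Agent.NodalQ.Model
import Mathlib.RingTheory.Etale.Field
import Mathlib.RingTheory.Smooth.AdicCompletion

/-!
# The completion of a ring satisfying the criterion

With separable residue field it is `κ[[U, V]]` modulo a nondegenerate quadratic form, compatibly with the base field.
-/

set_option autoImplicit false
set_option linter.style.haveILetI false
set_option linter.unusedSectionVars false
set_option backward.isDefEq.respectTransparency false
set_option backward.isDefEq.respectTransparency.types false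
set_option maxHeartbeats 1000000

universe u

open IsLocalRing Groth.Agent.NodalLib

noncomputable section

namespace Groth.Agent.NodalQ

variable {R : Type u} [CommRing R] [IsLocalRing R]

/-- In a complete local ring the generators can be corrected to satisfy the relation exactly. -/
theorem exists_exact [IsNoetherianRing R] [IsAdicComplete (maximalIdeal R) R] {x y a b c : R}
    (hspan : Ideal.span {x, y} = maximalIdeal R) (hdisc : IsUnit (4 * a * c - b ^ 2))
    (hrel : a * x ^ 2 + b * x * y + c * y ^ 2 ∈ maximalIdeal R ^ 3) :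
    ∃ x' y' : R, Ideal.span {x', y'} = maximalIdeal R ∧ a * x' ^ 2 + b * x' * y' + c * y' ^ 2 = 0 := by
  obtain ⟨w, hw⟩ := hdisc.exists_left_inv
  let q : R × R → R := fun s => a * s.1 ^ 2 + b * s.1 * s.2 + c * s.2 ^ 2
  let St : ℕ → R × R → Prop := fun n s =>
    Ideal.span {s.1, s.2} = maximalIdeal R ∧ q s ∈ maximalIdeal R ^ (n + 3)
  -- moving the generators by a power of the maximal ideal keeps them generators
  have hgen : ∀ {s t δ ε : R} {n : ℕ}, Ideal.span {s, t} = maximalIdeal R → δ ∈ maximalIdeal R ^ (n + 2) →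
      ε ∈ maximalIdeal R ^ (n + 2) → Ideal.span {s + δ, t + ε} = maximalIdeal R := by
    intro s t δ ε n hs hδ hε
    refine le_antisymm ?_ (PSQuad.maximalIdeal_le_of_le_sup_sq ?_)
    · rw [Ideal.span_le]
      rintro z (hz | hz) <;> rw [hz]
      · exact add_mem (x_mem hs) (Ideal.pow_le_self (by omega) hδ)
      · exact add_mem (y_mem hs) (Ideal.pow_le_self (by omega) hε)
    · conv_lhs => rw [← hs]
      rw [Ideal.span_le]
      rintro z (hz | hz) <;> rw [hz]
      · exact Submodule.mem_sup.2 ⟨s + δ, Ideal.subset_span (by simp), -δ,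
          neg_mem (Ideal.pow_le_pow_right (by omega) hδ), by ring⟩
      · exact Submodule.mem_sup.2 ⟨t + ε, Ideal.subset_span (by simp), -ε,
          neg_mem (Ideal.pow_le_pow_right (by omega) hε), by ring⟩
  have hnext : ∀ (n : ℕ) (s : R × R), St n s → ∃ s' : R × R, St (n + 1) s' ∧
      s'.1 - s.1 ∈ maximalIdeal R ^ (n + 2) ∧ s'.2 - s.2 ∈ maximalIdeal R ^ (n + 2) := by
    rintro n ⟨s, t⟩ ⟨hs, hq⟩
    change Ideal.span {s, t} = _ at hs
    set l₁ := 2 * a * s + b * t
    set l₂ := b * s + 2 * c * t
    have hl : maximalIdeal R ≤ Ideal.span {l₁, l₂} := by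
      rw [← hs, Ideal.span_le]
      rintro z (hz | hz) <;> rw [hz, SetLike.mem_coe, Ideal.mem_span_pair]
      · exact ⟨2 * c * w, -(b * w), by simp only [l₁, l₂]; linear_combination s * hw⟩
      · exact ⟨-(b * w), 2 * a * w, by simp only [l₁, l₂]; linear_combination t * hw⟩
    have hq' : q (s, t) ∈ Ideal.span {l₁, l₂} * maximalIdeal R ^ (n + 2) := by
      refine Ideal.mul_mono_left hl ?_
      rwa [← pow_succ']
    rw [Ideal.span_insert, Ideal.sup_mul, Submodule.mem_sup] at hq'
    obtain ⟨u, hu, v, hv, huv⟩ := hq'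
    obtain ⟨p, hp, rfl⟩ := Ideal.mem_span_singleton_mul.1 hu
    obtain ⟨r, hr, rfl⟩ := Ideal.mem_span_singleton_mul.1 hv
    refine ⟨(s + -p, t + -r), ⟨hgen hs (neg_mem hp) (neg_mem hr), ?_⟩, by simpa using neg_mem hp,
      by simpa using neg_mem hr⟩
    have he : q (s + -p, t + -r) = a * (p * p) + b * (p * r) + c * (r * r) := by
      change l₁ * p + l₂ * r = a * s ^ 2 + b * s * t + c * t ^ 2 at huv
      simp only [q, l₁, l₂] at huv ⊢
      linear_combination -huv
    show q (s + -p, t + -r) ∈ _
    rw [he]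
    have h2 : ∀ {u v : R}, u ∈ maximalIdeal R ^ (n + 2) → v ∈ maximalIdeal R ^ (n + 2) →
        u * v ∈ maximalIdeal R ^ (n + 1 + 3) := fun hu hv =>
      Ideal.pow_le_pow_right (by omega) ((pow_add (maximalIdeal R) (n + 2) (n + 2)).symm ▸ Ideal.mul_mem_mul hu hv)
    exact add_mem (add_mem (Ideal.mul_mem_left _ _ (h2 hp hp)) (Ideal.mul_mem_left _ _ (h2 hp hr)))
      (Ideal.mul_mem_left _ _ (h2 hr hr))
  choose! next hN1 hN2 hN3 using hnext
  let s : ℕ → R × R := fun n => Nat.rec (x, y) (fun n p => next n p) n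
  have hs : ∀ n, St n (s n) := by
    intro n
    induction n with
    | zero => exact ⟨hspan, hrel⟩
    | succ n ih => exact hN1 n (s n) ih
  have lim : ∀ (f : ℕ → R), (∀ n, f (n + 1) - f n ∈ maximalIdeal R ^ (n + 2)) →
      ∃ L, ∀ n, f n - L ∈ maximalIdeal R ^ n := by
    intro f hf
    have hc : ∀ {m n}, m ≤ n → f m ≡ f n [SMOD (maximalIdeal R ^ m • ⊤ : Submodule R R)] := by
      intro m n hmn
      rw [SModEq.sub_mem, smul_eq_mul, Ideal.mul_top]
      induction hmn with
      | refl => simp
      | @step l hml ih =>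
        rw [← sub_add_sub_cancel (f m) (f l) (f (l + 1))]
        refine add_mem ih (Ideal.pow_le_pow_right (show m ≤ l + 2 from le_add_right hml) ?_)
        rw [← neg_sub]
        exact neg_mem (hf l)
    obtain ⟨L, hL⟩ := IsPrecomplete.prec' (I := maximalIdeal R) f hc
    exact ⟨L, fun n => by simpa [SModEq.sub_mem, smul_eq_mul] using hL n⟩
  obtain ⟨X, hX⟩ := lim (fun n => (s n).1) fun n => hN2 n _ (hs n)
  obtain ⟨Y, hY⟩ := lim (fun n => (s n).2) fun n => hN3 n _ (hs n)
  refine ⟨X, Y, ?_, ?_⟩
  · rw [show X = (s 2).1 + -((s 2).1 - X) by ring, show Y = (s 2).2 + -((s 2).2 - Y) by ring]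
    exact hgen (n := 0) (hs 2).1 (neg_mem (hX 2)) (neg_mem (hY 2))
  · refine IsHausdorff.haus (I := maximalIdeal R) (M := R) inferInstance _ fun n => ?_
    rw [SModEq.zero, smul_eq_mul, Ideal.mul_top]
    have h1 : Ideal.Quotient.mk (maximalIdeal R ^ n) (s n).1 = Ideal.Quotient.mk _ X := Ideal.Quotient.eq.2 (hX n)
    have h2 : Ideal.Quotient.mk (maximalIdeal R ^ n) (s n).2 = Ideal.Quotient.mk _ Y := Ideal.Quotient.eq.2 (hY n)
    rw [← Ideal.Quotient.eq_zero_iff_mem, map_add, map_add, map_mul, map_mul, map_mul, map_mul, map_pow, map_pow,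
      ← h1, ← h2, ← map_pow, ← map_pow, ← map_mul, ← map_mul, ← map_mul, ← map_mul, ← map_add, ← map_add,
      Ideal.Quotient.eq_zero_iff_mem]
    exact Ideal.pow_le_pow_right (by omega) (hs n).2

/-- A surjection which does not lower any colength of a power of the maximal ideal is injective. -/
theorem injective_of_ell {S T : Type u} [CommRing S] [IsLocalRing S] [IsNoetherianRing S] [CommRing T] [IsLocalRing T]
    (ψ : S →+* T) (hψ : Function.Surjective ψ) (N : ℕ → ℕ)
    (hS : ∀ n, ell (maximalIdeal S ^ (n + 1)) ≤ (N n : ℕ∞)) (hT : ∀ n, ell (maximalIdeal T ^ (n + 1)) = (N n : ℕ∞)) :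
    Function.Injective ψ := by
  refine (injective_iff_map_eq_zero _).2 fun q hq => ?_
  have key : ∀ n, q ∈ maximalIdeal S ^ n := fun n => by
    rcases n with _ | n
    · simp
    set I := maximalIdeal S ^ (n + 1)
    have hmap : I.map ψ = maximalIdeal T ^ (n + 1) := by
      rw [Ideal.map_pow, map_maximalIdeal_of_surjective ψ hψ]
    by_contra hqI
    let J := I ⊔ RingHom.ker ψ
    have h1 : ell J = ell (maximalIdeal T ^ (n + 1)) := by
      rw [ell, ell, ← hmap]
      let g : S →+* T ⧸ I.map ψ := (Ideal.Quotient.mk _).comp ψ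
      have hg : Function.Surjective g := Ideal.Quotient.mk_surjective.comp hψ
      have hgk : RingHom.ker g = J := by
        show RingHom.ker ((Ideal.Quotient.mk _).comp ψ) = J
        rw [← RingHom.comap_ker, Ideal.mk_ker, Ideal.comap_map_of_surjective ψ hψ]
        rfl
      letI : Algebra S T := ψ.toAlgebra
      rw [← Module.length_eq_of_surjective (S := S) (R := T) (M := T ⧸ I.map ψ) hψ]
      let L : S →ₗ[S] T ⧸ I.map ψ := Algebra.linearMap S (T ⧸ I.map ψ)
      have hL : LinearMap.ker L = J := hgk
      exact ((Submodule.quotEquivOfEq _ _ hL.symm).trans (L.quotKerEquivOfSurjective hg)).length_eq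
    have hIJ : I < J := lt_of_le_of_ne le_sup_left fun he =>
      hqI (he ▸ Submodule.mem_sup_right (RingHom.mem_ker.2 hq))
    have h3 : ell J + 1 ≤ ell I := by
      rw [ell, ell]
      have hex := Module.length_eq_add_of_exact (Submodule.subtype (Submodule.map (Submodule.mkQ I) J))
        (Submodule.factor (le_sup_left : I ≤ J)) (Submodule.injective_subtype _) (Submodule.factor_surjective _) (by
          intro z
          obtain ⟨r, rfl⟩ := Submodule.mkQ_surjective I z
          constructor
          · intro hr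
            exact ⟨⟨_, Submodule.mem_map_of_mem ((Submodule.Quotient.mk_eq_zero _).1 hr)⟩, rfl⟩
          · rintro ⟨⟨w, hw⟩, hw'⟩
            obtain ⟨j, hj, rfl⟩ := Submodule.mem_map.1 hw
            rw [← hw']
            exact (Submodule.Quotient.mk_eq_zero _).2 hj)
      rw [hex, add_comm]
      gcongr
      refine ENat.one_le_iff_ne_zero.2 ?_
      rw [Ne, Module.length_eq_zero_iff, Submodule.subsingleton_iff_eq_bot]
      intro hbot
      refine hIJ.not_ge fun z hz => ?_
      have := Submodule.mem_map_of_mem (f := Submodule.mkQ I) hz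
      rw [hbot] at this
      exact (Submodule.Quotient.mk_eq_zero _).1 this
    rw [h1, hT] at h3
    have h4 := h3.trans (hS n)
    norm_cast at h4
    omega
  have hbot := Ideal.iInf_pow_eq_bot_of_isLocalRing (maximalIdeal S) (maximalIdeal.isMaximal S).ne_top
  exact (Submodule.mem_bot S).1 (hbot ▸ Submodule.mem_iInf _ |>.2 key)

section Iso

variable (A : Type u) [CommRing A] [IsLocalRing A] [IsNoetherianRing A]

theorem completion_dense (n : ℕ) (z : AdicCompletion (maximalIdeal A) A) :
    ∃ r : A, z - algebraMap A _ r ∈ maximalIdeal (AdicCompletion (maximalIdeal A) A) ^ n := by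
  obtain ⟨s, hs⟩ := Adic7.exists_sub_algebraMap_mem (maximalIdeal A) (IsNoetherian.noetherian _) z n
  rw [completion_map] at hs
  exact ⟨s, hs⟩

variable {A}

/-- The normal form of the completion. -/
theorem exists_iso (k : Type u) [Field k] [Algebra k A] [Algebra.IsSeparable k (ResidueField A)] (h : QCrit A) :
    ∃ a b c : ResidueField A, 4 * a * c - b ^ 2 ≠ 0 ∧
      ∃ e : AdicCompletion (maximalIdeal A) A ≃+* (MvPowerSeries (Fin 2) (ResidueField A) ⧸
          Ideal.span {qf (ResidueField A) a b c}),
        ∀ t : k, e (algebraMap A _ (algebraMap k A t)) =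
          Ideal.Quotient.mk _ (MvPowerSeries.C (algebraMap A (ResidueField A) (algebraMap k A t))) := by
  let C := AdicCompletion (maximalIdeal A) A
  let κ := ResidueField A
  haveI : IsNoetherianRing C := LC.Canon.isNoetherianRing_completion (R := A)
  haveI : IsAdicComplete (maximalIdeal C) C := NodeLib.isAdicComplete_maximalIdeal A
  -- a coefficient field containing `k`
  haveI : Algebra.FormallyEtale k κ := Algebra.FormallyEtale.of_isSeparable k κ
  let f : κ →ₐ[k] C ⧸ maximalIdeal C :=
    { ResidueField.map (algebraMap A C) with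
      commutes' := fun t => by
        show ResidueField.map (algebraMap A C) (residue A (algebraMap k A t)) = _
        rw [ResidueField.map_residue]
        rfl }
  obtain ⟨σ, hσ⟩ := Algebra.FormallySmooth.exists_mkₐ_comp_eq_of_isAdicComplete f
  have hσ' : ∀ r : A, σ (residue A r) - algebraMap A C r ∈ maximalIdeal C := fun r =>
    Ideal.Quotient.eq.1 (AlgHom.congr_fun hσ (residue A r))
  have hqA := h
  obtain ⟨x, y, a, b, c, hspan, hdisc, hrel, hl⟩ := h
  let π := Ideal.Quotient.mk (maximalIdeal C ^ 3)
  obtain ⟨X, Y, hspan', hdisc', hl', hrel'⟩ : ∃ X Y : C, Ideal.span {X, Y} = maximalIdeal C ∧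
      IsUnit (4 * σ (residue A a) * σ (residue A c) - σ (residue A b) ^ 2) ∧
      (∀ n, ell (maximalIdeal C ^ (n + 1)) = (2 * n + 1 : ℕ)) ∧
      σ (residue A a) * X ^ 2 + σ (residue A b) * X * Y + σ (residue A c) * Y ^ 2 ∈ maximalIdeal C ^ 3 := by
    let g := algebraMap A C
    refine ⟨g x, g y, by rw [← Set.image_pair, ← Ideal.map_span, hspan, completion_map], ?_, fun n => ?_, ?_⟩
    · have := ((residue_ne_zero_iff_isUnit _).1 hdisc).map (residue A) |>.map σ
      simpa only [map_sub, map_mul, map_pow, map_ofNat] using this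
    · rw [← map_pow_maximalIdeal g completion_flat completion_map, ell_map g completion_flat completion_map, hl]
    · have hgx : g x ∈ maximalIdeal C := completion_map.le (Ideal.mem_map_of_mem g (x_mem hspan))
      have hgy : g y ∈ maximalIdeal C := completion_map.le (Ideal.mem_map_of_mem g (y_mem hspan))
      have h3 : ∀ {d u v : C}, d ∈ maximalIdeal C → u ∈ maximalIdeal C → v ∈ maximalIdeal C →
          d * (u * v) ∈ maximalIdeal C ^ 3 := fun hd hu hv => by
        rw [pow_succ', sq]; exact Ideal.mul_mem_mul hd (Ideal.mul_mem_mul hu hv)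
      rw [show σ (residue A a) * g x ^ 2 + σ (residue A b) * g x * g y + σ (residue A c) * g y ^ 2 =
          g (a * x ^ 2 + b * x * y + c * y ^ 2) + ((σ (residue A a) - g a) * (g x * g x) +
            (σ (residue A b) - g b) * (g x * g y) + (σ (residue A c) - g c) * (g y * g y)) by
        simp only [map_add, map_mul, map_pow]; ring]
      refine add_mem ((mem_pow_iff g completion_flat completion_map _ _).2 hrel) ?_
      exact add_mem (add_mem (h3 (hσ' a) hgx hgx) (h3 (hσ' b) hgx hgy)) (h3 (hσ' c) hgy hgy)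
  obtain ⟨X', Y', hXY, hzero⟩ := exists_exact hspan' hdisc' hrel'
  letI : Algebra κ C := σ.toRingHom.toAlgebra
  have hbm : ∀ i : Fin 2, ![X', Y'] i ∈ maximalIdeal C := fun i => by
    fin_cases i <;> exact hXY ▸ Ideal.subset_span (by simp)
  obtain ⟨Ψ, hΨ⟩ := PSLib.exists_algHom (R := κ) (maximalIdeal C) _ hbm
  have hres : Function.Surjective ((residue C).comp (algebraMap κ C)) := fun r => by
    obtain ⟨z, rfl⟩ := residue_surjective r
    obtain ⟨s, hs⟩ := completion_dense A 1 z
    rw [pow_one] at hs
    refine ⟨residue A s, ?_⟩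
    show residue C (σ (residue A s)) = residue C z
    rw [← sub_eq_zero, ← map_sub, residue_eq_zero_iff,
      show σ (residue A s) - z = (σ (residue A s) - algebraMap A C s) - (z - algebraMap A C s) by ring]
    exact sub_mem (hσ' s) hs
  have hsurj : Function.Surjective Ψ := by
    refine PSLib.surjective_of_span (K := κ) (n := 2) (R := C) hres Ψ (fun i => (hΨ i).symm ▸ hbm i) ?_
    refine le_trans ?_ le_sup_left
    conv_lhs => rw [← hXY]
    refine Ideal.span_mono ?_
    rintro z (hz | hz) <;> rw [hz]
    · exact ⟨0, by simp [hΨ]⟩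
    · exact ⟨1, by simp [hΨ]⟩
  set a' := residue A a
  set b' := residue A b
  set c' := residue A c
  have hd : 4 * a' * c' - b' ^ 2 ≠ 0 := by
    simpa only [map_sub, map_mul, map_pow, map_ofNat] using hdisc
  have hC : ∀ r : κ, Ψ (MvPowerSeries.C r) = σ r := fun r => by
    have := Ψ.commutes r
    rwa [MvPowerSeries.algebraMap_apply, Algebra.algebraMap_self, RingHom.id_apply] at this
  have hker : ∀ p ∈ Ideal.span {qf κ a' b' c'}, Ψ.toRingHom p = 0 := fun p hp => by
    obtain ⟨d, rfl⟩ := Ideal.mem_span_singleton'.1 hp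
    show Ψ (d * qf κ a' b' c') = 0
    have : Ψ (qf κ a' b' c') = 0 := by
      simp only [qf, map_add, map_mul, map_pow, hΨ, hC]
      simpa using hzero
    rw [map_mul, this, mul_zero]
  let ψ := Ideal.Quotient.lift _ Ψ.toRingHom hker
  have hψ : Function.Surjective ψ := Ideal.Quotient.lift_surjective_of_surjective _ _ hsurj
  obtain ⟨⟨-, -, -, -, -, -, -, -, hlQ⟩, -⟩ := model_spec a' b' c' hd
  have hinj : Function.Injective ψ :=
    injective_of_ell ψ hψ (fun n => 2 * n + 1) (fun n => (hlQ n).le) hl'
  let e := RingEquiv.ofBijective ψ ⟨hinj, hψ⟩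
  refine ⟨a', b', c', hd, e.symm, fun t => ?_⟩
  rw [RingEquiv.symm_apply_eq]
  show algebraMap A C (algebraMap k A t) = Ψ (MvPowerSeries.C (algebraMap A κ (algebraMap k A t)))
  rw [hC, ← IsScalarTower.algebraMap_apply k A C, ← σ.commutes t]
  rfl

/-- A ring whose completion is the model satisfies the criterion and is reduced. -/
theorem qcrit_of_iso {κ : Type u} [Field κ] {a b c : κ} (hd : 4 * a * c - b ^ 2 ≠ 0)
    (e : AdicCompletion (maximalIdeal A) A ≃+* (MvPowerSeries (Fin 2) κ ⧸ Ideal.span {qf κ a b c})) :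
    QCrit A ∧ IsReduced A := by
  let C := AdicCompletion (maximalIdeal A) A
  obtain ⟨hQ, hred⟩ := model_spec a b c hd
  haveI := hred
  haveI : IsLocalHom (e.symm : (MvPowerSeries (Fin 2) κ ⧸ Ideal.span {qf κ a b c}) →+* C) := inferInstance
  have hC : QCrit C := QCrit.map (e.symm : (MvPowerSeries (Fin 2) κ ⧸ Ideal.span {qf κ a b c}) →+* C) (RingHom.Flat.of_bijective e.symm.bijective)
    (map_maximalIdeal_of_surjective _ e.symm.surjective) hQ
  haveI : _root_.IsReduced C := isReduced_of_injective e.toRingHom e.injective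
  haveI : Module.FaithfullyFlat A C := Module.FaithfullyFlat.of_flat_of_isLocalHom
  exact ⟨QCrit.comap (algebraMap A C) completion_flat completion_map (completion_dense A) hC,
    isReduced_of_injective (algebraMap A C) (FaithfulSMul.algebraMap_injective A _)⟩

end Iso

end Groth.Agent.NodalQ
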