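import Groth.Agent.NodalLib.CritODP

/-!
# A quadratic criterion for nodes with arbitrary residue field

A Noetherian local ring satisfies `QCrit` if its maximal ideal has two generators satisfying a
nondegenerate quadratic relation modulo the cube and the colengths of its powers are `1, 3, 5, …`.
-/

set_option autoImplicit false
set_option linter.style.haveILetI false
set_option linter.unusedSectionVars false
set_option backward.isDefEq.respectTransparency false
set_option backward.isDefEq.respectTransparency.types false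
set_option maxHeartbeats 1000000

universe u

open IsLocalRing Groth.Agent.NodalLib

noncomputable section

namespace Groth.Agent.NodalQ

variable {R : Type u} [CommRing R] [IsLocalRing R]

/-- Two generators with a nondegenerate quadratic relation modulo the cube, and colengths `1, 3, 5, …`. -/
def QCrit (R : Type u) [CommRing R] [IsLocalRing R] : Prop :=
  ∃ x y a b c : R, Ideal.span {x, y} = maximalIdeal R ∧ residue R (4 * a * c - b ^ 2) ≠ 0 ∧
    a * x ^ 2 + b * x * y + c * y ^ 2 ∈ maximalIdeal R ^ 3 ∧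
    ∀ n : ℕ, ell (maximalIdeal R ^ (n + 1)) = (2 * n + 1 : ℕ)

theorem mul_mem_pow_succ {z : R} {n : ℕ} (hz : z ∈ maximalIdeal R ^ n) :
    ∀ t ∈ maximalIdeal R, t * z ∈ maximalIdeal R ^ (n + 1) := fun t ht => by
  rw [pow_succ']
  exact Ideal.mul_mem_mul ht hz

section Pair

variable {I J : Ideal R} {u v : R} (hI : I = J ⊔ Ideal.span {u, v})
  (hu : ∀ t ∈ maximalIdeal R, t * u ∈ J) (hv : ∀ t ∈ maximalIdeal R, t * v ∈ J)
include hI hu hv

theorem pair_step : ell J ≤ ell I + 2 ∧
    ((∀ s t : R, s * u + t * v ∈ J → s ∈ maximalIdeal R ∧ t ∈ maximalIdeal R) → ell J = ell I + 2) := by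
  have s1 := ell_step v (I := J ⊔ Ideal.span {v}) rfl hv
  have hI' : I = (J ⊔ Ideal.span {v}) ⊔ Ideal.span {u} := by
    rw [hI, Ideal.span_insert, sup_assoc, sup_comm (Ideal.span {u})]
  have s2 := ell_step u hI' fun t ht => Submodule.mem_sup_left (hu t ht)
  refine ⟨?_, fun h => ?_⟩
  · calc ell J ≤ ell (J ⊔ Ideal.span {v}) + 1 := s1.1
      _ ≤ ell I + 1 + 1 := by gcongr; exact s2.1
      _ = _ := by rw [add_assoc, one_add_one_eq_two]
  · have h1 : v ∉ J := fun hc => (mem_maximalIdeal _).1 (h 0 1 (by simpa using hc)).2 isUnit_one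
    have h2 : u ∉ J ⊔ Ideal.span {v} := fun hc => by
      obtain ⟨j, hj, w, hw, hjw⟩ := Submodule.mem_sup.1 hc
      obtain ⟨t, rfl⟩ := Ideal.mem_span_singleton'.1 hw
      refine (mem_maximalIdeal _).1 (h 1 (-t) ?_).1 isUnit_one
      rwa [show (1 : R) * u + -t * v = j by linear_combination -hjw]
    rw [s1.2 h1, s2.2 h2, add_assoc, one_add_one_eq_two]

theorem indep_of_ell (m : ℕ) (hm : ell I = (m : ℕ∞)) (hJ : ell J = (m + 2 : ℕ)) {s t : R}
    (h : s * u + t * v ∈ J) : s ∈ maximalIdeal R ∧ t ∈ maximalIdeal R := by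
  suffices key : ∀ {u v s t : R}, I = J ⊔ Ideal.span {u, v} → (∀ r ∈ maximalIdeal R, r * v ∈ J) →
      s * u + t * v ∈ J → s ∈ maximalIdeal R by
    exact ⟨key hI hv h, key (u := v) (v := u) (s := t) (t := s) (by rw [Set.pair_comm, hI]) hu
      (by rwa [add_comm])⟩
  intro u v s t hI hv h
  by_contra hs
  have hsu : IsUnit s := by
    by_contra h'
    exact hs ((mem_maximalIdeal s).2 h')
  have huv : u ∈ J ⊔ Ideal.span {v} := by
    refine (Ideal.unit_mul_mem_iff_mem _ hsu).1 ?_
    rw [show s * u = (s * u + t * v) + (-t) * v by ring]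
    exact Submodule.add_mem_sup h (Ideal.mem_span_singleton'.2 ⟨-t, rfl⟩)
  have hI' : I = J ⊔ Ideal.span {v} := by
    rw [hI, Ideal.span_insert, sup_left_comm, sup_eq_right, Ideal.span_le, Set.singleton_subset_iff]
    exact huv
  have h1 := (ell_step v hI' hv).1
  rw [hm, hJ] at h1
  norm_cast at h1
  omega

end Pair

section Gen

variable {x y : R} (hspan : Ideal.span {x, y} = maximalIdeal R)
include hspan

theorem x_mem : x ∈ maximalIdeal R := hspan ▸ Ideal.subset_span (by simp)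

theorem y_mem : y ∈ maximalIdeal R := hspan ▸ Ideal.subset_span (by simp)

theorem sq_eq : maximalIdeal R ^ 2 = Ideal.span {x * x, x * y, y * x, y * y} := by
  rw [sq, ← hspan, Ideal.span_pair_mul_span_pair]

variable (hx2 : x * x ∈ Ideal.span {x * y, y * y})
include hx2

theorem pow_eq (n : ℕ) : maximalIdeal R ^ (n + 1) = Ideal.span {x * y ^ n, y ^ (n + 1)} := by
  induction n with
  | zero => rw [zero_add, pow_one, pow_one, pow_zero, mul_one, hspan]
  | succ n ih =>
    refine le_antisymm ?_ ?_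
    · rw [pow_succ, ih]
      conv_lhs => rw [← hspan]
      rw [Ideal.span_pair_mul_span_pair, Ideal.span_le]
      intro z hz
      simp only [Set.mem_insert_iff, Set.mem_singleton_iff] at hz
      rw [SetLike.mem_coe, Ideal.mem_span_pair]
      rcases hz with rfl | rfl | rfl | rfl
      · obtain ⟨p, q, hpq⟩ := Ideal.mem_span_pair.1 hx2
        exact ⟨p, q, by linear_combination (y ^ n) * hpq⟩
      · exact ⟨1, 0, by ring⟩
      · exact ⟨1, 0, by ring⟩
      · exact ⟨0, 1, by ring⟩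
    · rw [Ideal.span_le]
      intro z hz
      simp only [Set.mem_insert_iff, Set.mem_singleton_iff] at hz
      rcases hz with rfl | rfl
      · rw [SetLike.mem_coe, show n + 1 + 1 = 1 + (n + 1) by omega, pow_add, pow_one]
        exact Ideal.mul_mem_mul (x_mem hspan) (Ideal.pow_mem_pow (y_mem hspan) _)
      · exact Ideal.pow_mem_pow (y_mem hspan) _

theorem pow_sup (n : ℕ) : maximalIdeal R ^ (n + 1) =
    maximalIdeal R ^ (n + 2) ⊔ Ideal.span {x * y ^ n, y ^ (n + 1)} := by
  rw [← pow_eq hspan hx2 n, eq_comm, sup_eq_right]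
  exact Ideal.pow_le_pow_right (by omega)

theorem step_mem_x (n : ℕ) : ∀ t ∈ maximalIdeal R, t * (x * y ^ n) ∈ maximalIdeal R ^ (n + 2) := by
  refine mul_mem_pow_succ ?_
  rw [pow_eq hspan hx2 n]
  exact Ideal.subset_span (by simp)

theorem step_mem_y (n : ℕ) : ∀ t ∈ maximalIdeal R, t * y ^ (n + 1) ∈ maximalIdeal R ^ (n + 2) :=
  mul_mem_pow_succ (Ideal.pow_mem_pow (y_mem hspan) _)

theorem ell_le (n : ℕ) : ell (maximalIdeal R ^ (n + 1)) ≤ (2 * n + 1 : ℕ) := by
  induction n with
  | zero => rw [zero_add, pow_one, ell_maximal]; simp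
  | succ n ih =>
    refine (pair_step (pow_sup hspan hx2 n) (step_mem_x hspan hx2 n) (step_mem_y hspan hx2 n)).1.trans ?_
    calc ell (maximalIdeal R ^ (n + 1)) + 2 ≤ ((2 * n + 1 : ℕ) : ℕ∞) + 2 := by gcongr
      _ = _ := by norm_cast

theorem ell_eq_of_indep (hind : ∀ (n : ℕ) (s t : R), s * (x * y ^ n) + t * y ^ (n + 1) ∈ maximalIdeal R ^ (n + 2) →
    s ∈ maximalIdeal R ∧ t ∈ maximalIdeal R) (n : ℕ) : ell (maximalIdeal R ^ (n + 1)) = (2 * n + 1 : ℕ) := by
  induction n with
  | zero => rw [zero_add, pow_one, ell_maximal]; simp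
  | succ n ih =>
    rw [(pair_step (pow_sup hspan hx2 n) (step_mem_x hspan hx2 n) (step_mem_y hspan hx2 n)).2 (hind n), ih]
    norm_cast

end Gen

/-- Linear independence of the generators modulo the square. -/
theorem indep_of_span {x y : R} (hspan : Ideal.span {x, y} = maximalIdeal R)
    (h2 : ell (maximalIdeal R ^ 2) = (3 : ℕ)) {s t : R} (h : s * x + t * y ∈ maximalIdeal R ^ 2) :
    s ∈ maximalIdeal R ∧ t ∈ maximalIdeal R := by
  refine indep_of_ell (I := maximalIdeal R) (J := maximalIdeal R ^ 2) ?_ ?_ ?_ 1 ?_ h2 h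
  · rw [hspan, eq_comm, sup_eq_right]
    exact Ideal.pow_le_self two_ne_zero
  · exact mul_mem_pow_succ (n := 1) (by rw [pow_one]; exact x_mem hspan)
  · exact mul_mem_pow_succ (n := 1) (by rw [pow_one]; exact y_mem hspan)
  · rw [ell_maximal]; simp

/-- Colength three of the square gives two generators. -/
theorem exists_pair [IsNoetherianRing R] (h2 : ell (maximalIdeal R ^ 2) = (3 : ℕ)) :
    ∃ x y : R, Ideal.span {x, y} = maximalIdeal R := by
  obtain ⟨x, hx, hx2⟩ : ∃ x ∈ maximalIdeal R, x ∉ maximalIdeal R ^ 2 := by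
    by_contra! hc
    rw [← le_antisymm (show maximalIdeal R ≤ _ from hc) (Ideal.pow_le_self two_ne_zero), ell_maximal] at h2
    norm_cast at h2
  have hstep : ∀ a ∈ maximalIdeal R, ∀ t ∈ maximalIdeal R, t * a ∈ maximalIdeal R ^ 2 := fun a ha =>
    mul_mem_pow_succ (n := 1) (by rwa [pow_one])
  have hsx : Ideal.span {x} ≤ maximalIdeal R := Ideal.span_le.2 (Set.singleton_subset_iff.2 hx)
  set I₁ := maximalIdeal R ^ 2 ⊔ Ideal.span {x}
  have h1 : ell (maximalIdeal R ^ 2) = ell I₁ + 1 := (ell_step x rfl (hstep x hx)).2 hx2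
  obtain ⟨y, hy, hy1⟩ : ∃ y ∈ maximalIdeal R, y ∉ I₁ := by
    by_contra! hc
    rw [← le_antisymm (show maximalIdeal R ≤ I₁ from hc) (sup_le (Ideal.pow_le_self two_ne_zero) hsx), h2,
      ell_maximal] at h1
    norm_cast at h1
  have hsy : Ideal.span {y} ≤ maximalIdeal R := Ideal.span_le.2 (Set.singleton_subset_iff.2 hy)
  set I₂ := I₁ ⊔ Ideal.span {y}
  have e2 : ell I₁ = ell I₂ + 1 := (ell_step y rfl fun t ht => Submodule.mem_sup_left (hstep y hy t ht)).2 hy1
  have hI₂ : maximalIdeal R ≤ I₂ := by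
    by_contra hc
    obtain ⟨z, hz, hz2⟩ := SetLike.not_le_iff_exists.1 hc
    have e3 : ell I₂ = ell (I₂ ⊔ Ideal.span {z}) + 1 :=
      (ell_step z rfl fun t ht => Submodule.mem_sup_left (Submodule.mem_sup_left (hstep z hz t ht))).2 hz2
    have h4 : ell (maximalIdeal R) ≤ ell (I₂ ⊔ Ideal.span {z}) := ell_antitone (sup_le (sup_le (sup_le
      (Ideal.pow_le_self two_ne_zero) hsx) hsy) (Ideal.span_le.2 (Set.singleton_subset_iff.2 hz)))
    rw [ell_maximal] at h4
    have h5 : ell (I₂ ⊔ Ideal.span {z}) + 1 + 1 + 1 = (3 : ℕ) := by rw [← e3, ← e2, ← h1, h2]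
    have h6 : (1 : ℕ∞) + 1 + 1 + 1 ≤ (3 : ℕ) := by rw [← h5]; gcongr
    norm_cast at h6
  refine ⟨x, y, le_antisymm (Ideal.span_le.2 ?_) (PSQuad.maximalIdeal_le_of_le_sup_sq (hI₂.trans ?_))⟩
  · rintro z (rfl | rfl)
    exacts [hx, hy]
  · exact sup_le (sup_le le_sup_right (le_sup_of_le_left (Ideal.span_mono (by simp))))
      (le_sup_of_le_left (Ideal.span_mono (by simp)))

theorem isUnit_of_residue {r : R} (h : residue R r ≠ 0) : IsUnit r :=
  (residue_ne_zero_iff_isUnit r).1 h

/-- A linear change of generators makes the first coefficient a unit. -/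
theorem exists_isUnit {x y a b c : R} (hdisc : residue R (4 * a * c - b ^ 2) ≠ 0) :
    ∃ x' y' a' b' c' : R, Ideal.span {x', y'} = Ideal.span {x, y} ∧ IsUnit a' ∧
      residue R (4 * a' * c' - b' ^ 2) ≠ 0 ∧
      a' * x' ^ 2 + b' * x' * y' + c' * y' ^ 2 = a * x ^ 2 + b * x * y + c * y ^ 2 := by
  by_cases ha : IsUnit a
  · exact ⟨x, y, a, b, c, rfl, ha, hdisc, rfl⟩
  by_cases hc : IsUnit c
  · exact ⟨y, x, c, b, a, by rw [Set.pair_comm], hc,
      by rwa [show 4 * c * a - b ^ 2 = 4 * a * c - b ^ 2 by ring], by ring⟩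
  refine ⟨x, y - x, a + b + c, b + 2 * c, c, ?_, ?_,
    by rwa [show 4 * (a + b + c) * c - (b + 2 * c) ^ 2 = 4 * a * c - b ^ 2 by ring], by ring⟩
  · refine le_antisymm ?_ ?_ <;> rw [Ideal.span_le] <;> intro z hz <;>
      simp only [Set.mem_insert_iff, Set.mem_singleton_iff] at hz <;>
      rw [SetLike.mem_coe, Ideal.mem_span_pair] <;> rcases hz with hz | hz <;> rw [hz]
    · exact ⟨1, 0, by ring⟩
    · exact ⟨-1, 1, by ring⟩
    · exact ⟨1, 0, by ring⟩
    · exact ⟨1, 1, by ring⟩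
  · have ha' : residue R a = 0 := (residue_eq_zero_iff a).2 ((mem_maximalIdeal a).2 ha)
    have hc' : residue R c = 0 := (residue_eq_zero_iff c).2 ((mem_maximalIdeal c).2 hc)
    refine isUnit_of_residue ?_
    rw [map_add, map_add, ha', hc', zero_add, add_zero]
    intro hb
    exact hdisc (by simp [map_sub, map_mul, map_pow, ha', hb])

theorem mul_self_mem_of_rel [IsNoetherianRing R] {x y a b c : R} (hspan : Ideal.span {x, y} = maximalIdeal R)
    (ha : IsUnit a) (hrel : a * x ^ 2 + b * x * y + c * y ^ 2 ∈ maximalIdeal R ^ 3) :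
    x * x ∈ Ideal.span {x * y, y * y} := by
  have hle : maximalIdeal R ^ 2 ≤ Ideal.span {x * y, y * y} := by
    refine Submodule.le_of_le_smul_of_le_jacobson_bot (I := maximalIdeal R) (IsNoetherian.noetherian _)
      (maximalIdeal_le_jacobson _) ?_
    rw [smul_eq_mul, ← pow_succ', sq_eq hspan, Ideal.span_le]
    intro z hz
    simp only [Set.mem_insert_iff, Set.mem_singleton_iff] at hz
    rcases hz with rfl | rfl | rfl | rfl
    · refine (Ideal.unit_mul_mem_iff_mem _ ha).1 ?_
      rw [show a * (x * x) = -(b * (x * y) + c * (y * y)) + (a * x ^ 2 + b * x * y + c * y ^ 2) by ring]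
      exact Submodule.add_mem_sup (neg_mem (Ideal.mem_span_pair.2 ⟨b, c, rfl⟩)) hrel
    · exact Submodule.mem_sup_left (Ideal.subset_span (by simp))
    · exact Submodule.mem_sup_left (Ideal.subset_span (by simp [mul_comm]))
    · exact Submodule.mem_sup_left (Ideal.subset_span (by simp))
  exact hle (by rw [sq]; exact Ideal.mul_mem_mul (x_mem hspan) (x_mem hspan))

/-- Without socle, two independent generators and a nondegenerate relation give the criterion. -/
theorem qcrit_of_socle [IsNoetherianRing R] {x y a b c : R} (hspan : Ideal.span {x, y} = maximalIdeal R)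
    (hind : ∀ s t : R, s * x + t * y ∈ maximalIdeal R ^ 2 → s ∈ maximalIdeal R ∧ t ∈ maximalIdeal R)
    (hdisc : residue R (4 * a * c - b ^ 2) ≠ 0)
    (hrel : a * x ^ 2 + b * x * y + c * y ^ 2 ∈ maximalIdeal R ^ 3)
    (hsoc : ∀ z : R, (∀ t ∈ maximalIdeal R, t * z = 0) → z = 0) : QCrit R := by
  obtain ⟨x', y', a', b', c', hsp, ha, hd, hq⟩ := exists_isUnit (x := x) (y := y) hdisc
  rw [hspan] at hsp
  refine ⟨x', y', a', b', c', hsp, hd, hq ▸ hrel, ?_⟩
  have hind' : ∀ s t : R, s * x' + t * y' ∈ maximalIdeal R ^ 2 → s ∈ maximalIdeal R ∧ t ∈ maximalIdeal R :=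
    fun s t h => indep_of_span hsp (by
      have := (pair_step (I := maximalIdeal R) (J := maximalIdeal R ^ 2) (u := x) (v := y)
        (by rw [hspan, eq_comm, sup_eq_right]; exact Ideal.pow_le_self two_ne_zero)
        (mul_mem_pow_succ (n := 1) (by rw [pow_one]; exact x_mem hspan))
        (mul_mem_pow_succ (n := 1) (by rw [pow_one]; exact y_mem hspan))).2 hind
      rw [this, ell_maximal]; norm_num) h
  have hx2 := mul_self_mem_of_rel hsp ha (hq ▸ hrel)
  have hreg : ∀ z : R, y' * z = 0 → z = 0 := fun z hz => by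
    refine hsoc z fun t ht => hsoc _ fun r hr => ?_
    have hrt : r * t ∈ Ideal.span {x' * y' ^ 1, y' ^ (1 + 1)} := by
      rw [← pow_eq hsp hx2 1, sq]
      exact Ideal.mul_mem_mul hr ht
    obtain ⟨p, q, hpq⟩ := Ideal.mem_span_pair.1 hrt
    rw [← mul_assoc, ← hpq]
    linear_combination (p * x' + q * y') * hz
  refine ell_eq_of_indep hsp hx2 fun n s t h => ?_
  rw [pow_eq hsp hx2 (n + 1), Ideal.mem_span_pair] at h
  obtain ⟨p, q, hpq⟩ := h
  have h0 : y' ^ n * ((s - p * y') * x' + (t - q * y') * y') = 0 := by linear_combination -hpq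
  have hpow : ∀ (m : ℕ) (w : R), y' ^ m * w = 0 → w = 0 := fun m => by
    induction m with
    | zero => intro w hw; simpa using hw
    | succ m ih => exact fun w hw => ih w (hreg _ (by rw [← mul_assoc, ← pow_succ', hw]))
  have h1 := hpow n _ h0
  obtain ⟨hs, ht⟩ := hind' _ _ (h1 ▸ zero_mem _)
  exact ⟨by simpa using add_mem hs (Ideal.mul_mem_left _ p (y_mem hsp)),
    by simpa using add_mem ht (Ideal.mul_mem_left _ q (y_mem hsp))⟩

namespace QCrit

/-- Normalised form: first coefficient a unit. -/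
theorem normal [IsNoetherianRing R] (h : QCrit R) : ∃ x y a b c : R, Ideal.span {x, y} = maximalIdeal R ∧
    IsUnit a ∧ residue R (4 * a * c - b ^ 2) ≠ 0 ∧
    a * x ^ 2 + b * x * y + c * y ^ 2 ∈ maximalIdeal R ^ 3 ∧ x * x ∈ Ideal.span {x * y, y * y} := by
  obtain ⟨x, y, a, b, c, hspan, hdisc, hrel, -⟩ := h
  obtain ⟨x', y', a', b', c', hsp, ha, hd, hq⟩ := exists_isUnit (x := x) (y := y) hdisc
  rw [hspan] at hsp
  exact ⟨x', y', a', b', c', hsp, ha, hd, hq ▸ hrel, mul_self_mem_of_rel hsp ha (hq ▸ hrel)⟩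

theorem ell_two (h : QCrit R) : ell (maximalIdeal R ^ 2) = (3 : ℕ) := by
  obtain ⟨x, y, a, b, c, -, -, -, hl⟩ := h
  exact hl 1

/-- Over an algebraically closed residue field the quadratic relation splits. -/
theorem crit [IsNoetherianRing R] [IsAlgClosed (ResidueField R)] (h : QCrit R) : Crit R := by
  obtain ⟨x, y, a, b, c, hspan, ha, hdisc, hrel, -⟩ := h.normal
  obtain ⟨-, -, -, -, -, -, -, -, hl⟩ := h
  obtain ⟨v, hv⟩ := ha.exists_left_inv
  obtain ⟨s, hs⟩ : ∃ s : ResidueField R,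
      residue R a * (s * s) + residue R b * s + residue R c = 0 := by
    obtain ⟨s, hs⟩ := IsAlgClosed.exists_root
      (Polynomial.C (residue R a) * Polynomial.X ^ 2 + Polynomial.C (residue R b) * Polynomial.X +
        Polynomial.C (residue R c))
      (by rw [Polynomial.degree_quadratic ((residue_ne_zero_iff_isUnit a).2 ha)]; norm_num)
    refine ⟨s, ?_⟩
    simp only [Polynomial.IsRoot, Polynomial.eval_add, Polynomial.eval_mul, Polynomial.eval_pow,
      Polynomial.eval_C, Polynomial.eval_X] at hs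
    linear_combination hs
  obtain ⟨r, rfl⟩ := residue_surjective s
  have hroot : a * (r * r) + b * r + c ∈ maximalIdeal R := by
    rw [← residue_eq_zero_iff]; simpa [map_add, map_mul] using hs
  let r' := -(v * b) - r
  have hy2 : y * y ∈ maximalIdeal R ^ 2 := by rw [sq]; exact Ideal.mul_mem_mul (y_mem hspan) (y_mem hspan)
  have hmul : (x - r * y) * (x - r' * y) ∈ maximalIdeal R ^ 3 := by
    rw [show (x - r * y) * (x - r' * y) =
      v * (a * x ^ 2 + b * x * y + c * y ^ 2) - v * ((a * (r * r) + b * r + c) * (y * y)) by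
        simp only [r']; linear_combination (r * r * y * y - x * x) * hv]
    exact sub_mem (Ideal.mul_mem_left _ _ hrel) (Ideal.mul_mem_left _ _ (mul_mem_pow_succ hy2 _ hroot))
  have hd : IsUnit (r - r') := by
    refine isUnit_of_residue fun h0 => hdisc ?_
    rw [residue_eq_zero_iff] at h0 ⊢
    rw [show 4 * a * c - b ^ 2 = 4 * a * (a * (r * r) + b * r + c) - (a * (r - r')) ^ 2 by
      simp only [r']
      linear_combination (b * b * (v * a + 1) + 4 * a * b * r) * hv]
    exact sub_mem (Ideal.mul_mem_left _ _ hroot) (Ideal.pow_mem_of_mem _ (Ideal.mul_mem_left _ _ h0) 2 two_pos)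
  obtain ⟨w, hw⟩ := hd.exists_left_inv
  refine ⟨x - r * y, x - r' * y, ?_, hmul, hl⟩
  rw [← hspan]
  refine le_antisymm ?_ ?_ <;> rw [Ideal.span_le] <;> intro z hz <;>
    simp only [Set.mem_insert_iff, Set.mem_singleton_iff] at hz <;>
    rw [SetLike.mem_coe, Ideal.mem_span_pair] <;> rcases hz with hz | hz <;> rw [hz]
  · exact ⟨1, -r, by ring⟩
  · exact ⟨1, -r', by ring⟩
  · exact ⟨1 - w * r, w * r, by linear_combination r * y * hw⟩
  · exact ⟨-w, w, by linear_combination y * hw⟩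

end QCrit

section Transfer

variable {A B : Type u} [CommRing A] [CommRing B] [IsLocalRing A] [IsLocalRing B]
  (φ : A →+* B) [IsLocalHom φ] (hflat : φ.Flat) (hm : (maximalIdeal A).map φ = maximalIdeal B)
include hflat hm

theorem residue_ne_zero_map {r : A} (h : residue A r ≠ 0) : residue B (φ r) ≠ 0 :=
  (residue_ne_zero_iff_isUnit _).2 (((residue_ne_zero_iff_isUnit r).1 h).map φ)

theorem QCrit.map (h : QCrit A) : QCrit B := by
  obtain ⟨x, y, a, b, c, hspan, hdisc, hrel, hl⟩ := h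
  refine ⟨φ x, φ y, φ a, φ b, φ c, ?_, ?_, ?_, fun n => ?_⟩
  · rw [← Set.image_pair, ← Ideal.map_span, hspan, hm]
  · have := residue_ne_zero_map φ hflat hm hdisc
    simpa only [map_sub, map_mul, map_pow, map_ofNat] using this
  · rw [← map_pow_maximalIdeal φ hflat hm]
    simpa only [map_add, map_mul, map_pow] using Ideal.mem_map_of_mem φ hrel
  · rw [← map_pow_maximalIdeal φ hflat hm, ell_map φ hflat hm, hl]

/-- Descent along a map that is surjective modulo each power of the maximal ideal. -/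
theorem QCrit.comap [IsNoetherianRing A] (hdense : ∀ (n : ℕ) (z : B), ∃ r : A, z - φ r ∈ maximalIdeal B ^ n)
    (h : QCrit B) : QCrit A := by
  obtain ⟨X, Y, a', b', c', hspan, hdisc, hrel, hl⟩ := h
  obtain ⟨x, hx⟩ := hdense 3 X
  obtain ⟨y, hy⟩ := hdense 3 Y
  obtain ⟨a, ha⟩ := hdense 3 a'
  obtain ⟨b, hb⟩ := hdense 3 b'
  obtain ⟨c, hc⟩ := hdense 3 c'
  let π := Ideal.Quotient.mk (maximalIdeal B ^ 3)
  have e : ∀ {p q : B}, p - q ∈ maximalIdeal B ^ 3 → π p = π q := fun h => Ideal.Quotient.eq.2 h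
  refine ⟨x, y, a, b, c, ?_, ?_, ?_, fun n => by
    rw [← ell_map φ hflat hm, map_pow_maximalIdeal φ hflat hm, hl]⟩
  · have hxm : x ∈ maximalIdeal A := by
      rw [← pow_one (maximalIdeal A), ← mem_pow_iff φ hflat hm, pow_one, ← sub_sub_cancel X (φ x)]
      exact sub_mem (x_mem hspan) (Ideal.pow_le_self three_ne_zero hx)
    have hym : y ∈ maximalIdeal A := by
      rw [← pow_one (maximalIdeal A), ← mem_pow_iff φ hflat hm, pow_one, ← sub_sub_cancel Y (φ y)]
      exact sub_mem (y_mem hspan) (Ideal.pow_le_self three_ne_zero hy)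
    refine le_antisymm (Ideal.span_le.2 ?_) (PSQuad.maximalIdeal_le_of_le_sup_sq ?_)
    · rintro z (rfl | rfl)
      exacts [hxm, hym]
    · intro z hz
      have hz' : φ z ∈ maximalIdeal B := hm ▸ Ideal.mem_map_of_mem φ hz
      rw [← hspan, Ideal.mem_span_pair] at hz'
      obtain ⟨s', t', hst⟩ := hz'
      obtain ⟨s, hs⟩ := hdense 1 s'
      obtain ⟨t, ht⟩ := hdense 1 t'
      rw [pow_one] at hs ht
      refine Submodule.mem_sup.2 ⟨s * x + t * y, Ideal.mem_span_pair.2 ⟨s, t, rfl⟩, z - (s * x + t * y), ?_,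
        add_sub_cancel _ _⟩
      rw [← mem_pow_iff φ hflat hm, map_sub, map_add, map_mul, map_mul, ← hst,
        show s' * X + t' * Y - (φ s * φ x + φ t * φ y) =
          (s' - φ s) * X + (t' - φ t) * Y + (φ s * (X - φ x) + φ t * (Y - φ y)) by ring]
      refine add_mem ?_ (Ideal.pow_le_pow_right (by omega) (add_mem (Ideal.mul_mem_left _ _ hx) (Ideal.mul_mem_left _ _ hy)))
      rw [sq]
      exact add_mem (Ideal.mul_mem_mul hs (x_mem hspan)) (Ideal.mul_mem_mul ht (y_mem hspan))
  · intro h0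
    apply hdisc
    rw [residue_eq_zero_iff] at h0 ⊢
    have h1 : φ (4 * a * c - b ^ 2) ∈ maximalIdeal B := hm ▸ Ideal.mem_map_of_mem φ h0
    have h2 : π (4 * a' * c' - b' ^ 2) = π (φ (4 * a * c - b ^ 2)) := by
      simp only [map_sub, map_mul, map_pow, map_ofNat, e ha, e hb, e hc]
    rw [← sub_add_cancel (4 * a' * c' - b' ^ 2) (φ (4 * a * c - b ^ 2))]
    exact add_mem (Ideal.pow_le_self three_ne_zero (Ideal.Quotient.eq.1 h2)) h1
  · rw [← mem_pow_iff φ hflat hm, ← Ideal.Quotient.eq_zero_iff_mem]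
    have h2 : π (φ (a * x ^ 2 + b * x * y + c * y ^ 2)) = π (a' * X ^ 2 + b' * X * Y + c' * Y ^ 2) := by
      simp only [map_add, map_mul, map_pow, e ha, e hb, e hc, e hx, e hy]
    exact h2.trans (Ideal.Quotient.eq_zero_iff_mem.2 hrel)

/-- Descent from an ordinary double point: the relation in the smaller ring is automatically nondegenerate. -/
theorem QCrit.of_crit [IsNoetherianRing A] (h : Crit B) : QCrit A := by
  obtain ⟨X, Y, hXY, hXYm, hl⟩ := h
  have hlA : ∀ n, ell (maximalIdeal A ^ (n + 1)) = (2 * n + 1 : ℕ) := fun n => by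
    rw [← ell_map φ hflat hm, map_pow_maximalIdeal φ hflat hm, hl]
  obtain ⟨x, y, hspan⟩ := exists_pair (hlA 1)
  have hxxm : x * x ∈ maximalIdeal A ^ 2 := by rw [sq]; exact Ideal.mul_mem_mul (x_mem hspan) (x_mem hspan)
  have hxym : x * y ∈ maximalIdeal A ^ 2 := by rw [sq]; exact Ideal.mul_mem_mul (x_mem hspan) (y_mem hspan)
  have hyym : y * y ∈ maximalIdeal A ^ 2 := by rw [sq]; exact Ideal.mul_mem_mul (y_mem hspan) (y_mem hspan)
  obtain ⟨a, b, c, hne, hrel⟩ : ∃ a b c : A, (IsUnit a ∨ IsUnit b ∨ IsUnit c) ∧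
      a * x ^ 2 + b * x * y + c * y ^ 2 ∈ maximalIdeal A ^ 3 := by
    by_contra! hcon
    set J := maximalIdeal A ^ 3
    have h1 : y * y ∉ J := fun h => hcon 0 0 1 (.inr (.inr isUnit_one)) (by simpa [sq] using h)
    have h2 : x * y ∉ J ⊔ Ideal.span {y * y} := fun h => by
      obtain ⟨j, hj, w, hw, hjw⟩ := Submodule.mem_sup.1 h
      obtain ⟨t, rfl⟩ := Ideal.mem_span_singleton'.1 hw
      refine hcon 0 1 (-t) (.inr (.inl isUnit_one)) ?_
      rwa [show 0 * x ^ 2 + 1 * x * y + -t * y ^ 2 = j by linear_combination -hjw]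
    have h3 : x * x ∉ J ⊔ Ideal.span {y * y} ⊔ Ideal.span {x * y} := fun h => by
      obtain ⟨j', hj', w, hw, hjw'⟩ := Submodule.mem_sup.1 h
      obtain ⟨j, hj, v, hv, hjv⟩ := Submodule.mem_sup.1 hj'
      obtain ⟨s, rfl⟩ := Ideal.mem_span_singleton'.1 hw
      obtain ⟨t, rfl⟩ := Ideal.mem_span_singleton'.1 hv
      refine hcon 1 (-s) (-t) (.inl isUnit_one) ?_
      rwa [show 1 * x ^ 2 + -s * x * y + -t * y ^ 2 = j by linear_combination -hjw' - hjv]
    have e1 := (ell_step (J := J) (y * y) rfl (mul_mem_pow_succ hyym)).2 h1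
    have e2 := (ell_step (J := J ⊔ Ideal.span {y * y}) (x * y) rfl
      fun t ht => Submodule.mem_sup_left (mul_mem_pow_succ hxym t ht)).2 h2
    have e3 := (ell_step (I := maximalIdeal A ^ 2) (J := J ⊔ Ideal.span {y * y} ⊔ Ideal.span {x * y}) (x * x)
      (by
        refine le_antisymm ?_ (sup_le (sup_le (sup_le (Ideal.pow_le_pow_right (by omega)) ?_) ?_) ?_)
        · rw [sq_eq hspan, Ideal.span_le]
          intro z hz
          simp only [Set.mem_insert_iff, Set.mem_singleton_iff] at hz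
          rcases hz with rfl | rfl | rfl | rfl
          · exact Submodule.mem_sup_right (Ideal.mem_span_singleton_self _)
          · exact Submodule.mem_sup_left (Submodule.mem_sup_right (Ideal.mem_span_singleton_self _))
          · exact Submodule.mem_sup_left (Submodule.mem_sup_right (by rw [mul_comm y x]; exact Ideal.mem_span_singleton_self _))
          · exact Submodule.mem_sup_left (Submodule.mem_sup_left (Submodule.mem_sup_right (Ideal.mem_span_singleton_self _)))
        all_goals rw [Ideal.span_le, Set.singleton_subset_iff]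
        exacts [hyym, hxym, hxxm])
      fun t ht => Submodule.mem_sup_left (Submodule.mem_sup_left (mul_mem_pow_succ hxxm t ht))).2 h3
    rw [e2, e3] at e1
    change ell (maximalIdeal A ^ 3) = _ at e1
    rw [hlA 2, show ell (maximalIdeal A ^ 2) = (3 : ℕ) from hlA 1] at e1
    norm_cast at e1
  refine ⟨x, y, a, b, c, hspan, fun hdisc => ?_, hrel, hlA⟩
  have hxB : φ x ∈ Ideal.span {X, Y} := hXY ▸ hm ▸ Ideal.mem_map_of_mem φ (x_mem hspan)
  have hyB : φ y ∈ Ideal.span {X, Y} := hXY ▸ hm ▸ Ideal.mem_map_of_mem φ (y_mem hspan)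
  obtain ⟨p, r, hpr⟩ := Ideal.mem_span_pair.1 hxB
  obtain ⟨s, t, hst⟩ := Ideal.mem_span_pair.1 hyB
  set a' := φ a
  set b' := φ b
  set c' := φ c
  set D := p * t - r * s
  have hspanB : Ideal.span {φ x, φ y} = maximalIdeal B := by
    rw [← Set.image_pair, ← Ideal.map_span, hspan, hm]
  have hindB : ∀ {u v : B}, u * φ x + v * φ y ∈ maximalIdeal B ^ 2 → u ∈ maximalIdeal B ∧ v ∈ maximalIdeal B :=
    fun h => indep_of_span hspanB (hl 1) h
  have hD : IsUnit D := by
    by_contra hD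
    have hDm : D ∈ maximalIdeal B := (mem_maximalIdeal _).2 hD
    obtain ⟨ht, hr⟩ := hindB (u := t) (v := -r) (by
      rw [show t * φ x + -r * φ y = D * X by rw [← hpr, ← hst]; ring, sq]
      exact Ideal.mul_mem_mul hDm (x_mem hXY))
    obtain ⟨hs, hp⟩ := hindB (u := s) (v := -p) (by
      rw [show s * φ x + -p * φ y = D * -Y by rw [← hpr, ← hst]; ring, sq]
      exact Ideal.mul_mem_mul hDm (neg_mem (y_mem hXY)))
    have h0 : (1 : B) * φ x + 0 * φ y ∈ maximalIdeal B ^ 2 := by
      rw [one_mul, zero_mul, add_zero, ← hpr, sq]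
      exact add_mem (Ideal.mul_mem_mul (by simpa using hp) (x_mem hXY))
        (Ideal.mul_mem_mul (by simpa using hr) (y_mem hXY))
    exact (mem_maximalIdeal _).1 (hindB h0).1 isUnit_one
  set Q₁ := a' * p ^ 2 + b' * p * s + c' * s ^ 2
  set Q₂ := a' * r ^ 2 + b' * r * t + c' * t ^ 2
  set β := 2 * a' * p * r + b' * (p * t + r * s) + 2 * c' * s * t
  have hQ : Q₁ * (X * X) + Q₂ * (Y * Y) ∈ maximalIdeal B ^ 3 := by
    have h0 : φ (a * x ^ 2 + b * x * y + c * y ^ 2) ∈ maximalIdeal B ^ 3 := (mem_pow_iff φ hflat hm _ _).2 hrel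
    rw [show Q₁ * (X * X) + Q₂ * (Y * Y) = φ (a * x ^ 2 + b * x * y + c * y ^ 2) - β * (X * Y) by
      simp only [map_add, map_mul, map_pow, ← hpr, ← hst, Q₁, Q₂, β, a', b', c']; ring]
    exact sub_mem h0 (Ideal.mul_mem_left _ _ hXYm)
  obtain ⟨h1, h2⟩ : Q₁ ∈ maximalIdeal B ∧ Q₂ ∈ maximalIdeal B := by
    refine indep_of_ell (I := maximalIdeal B ^ 2) (J := maximalIdeal B ^ 3) ?_
      (mul_mem_pow_succ (by rw [sq]; exact Ideal.mul_mem_mul (x_mem hXY) (x_mem hXY)))
      (mul_mem_pow_succ (by rw [sq]; exact Ideal.mul_mem_mul (y_mem hXY) (y_mem hXY))) 3 (hl 1) (hl 2) hQ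
    refine le_antisymm ?_ (sup_le (Ideal.pow_le_pow_right (by omega)) ?_)
    · rw [sq_eq hXY, Ideal.span_le]
      intro z hz
      simp only [Set.mem_insert_iff, Set.mem_singleton_iff] at hz
      rcases hz with rfl | rfl | rfl | rfl
      · exact Submodule.mem_sup_right (Ideal.subset_span (by simp))
      · exact Submodule.mem_sup_left hXYm
      · exact Submodule.mem_sup_left (by rwa [mul_comm])
      · exact Submodule.mem_sup_right (Ideal.subset_span (by simp))
    · rw [sq_eq hXY]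
      refine Ideal.span_mono ?_
      intro z hz
      simp only [Set.mem_insert_iff, Set.mem_singleton_iff] at hz ⊢
      tauto
  have hdB : 4 * a' * c' - b' ^ 2 ∈ maximalIdeal B := by
    have := hm ▸ Ideal.mem_map_of_mem φ ((residue_eq_zero_iff _).1 hdisc)
    simpa only [map_sub, map_mul, map_pow, map_ofNat] using this
  have hβ : β ∈ maximalIdeal B := by
    refine (maximalIdeal.isMaximal B).isPrime.mem_of_pow_mem 2 ?_
    rw [show β ^ 2 = 4 * Q₂ * Q₁ - D ^ 2 * (4 * a' * c' - b' ^ 2) by simp only [Q₁, Q₂, β, D]; ring]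
    exact sub_mem (Ideal.mul_mem_left _ _ h1) (Ideal.mul_mem_left _ _ hdB)
  have hz : ∀ {e : A}, D ^ 2 * φ e ∈ maximalIdeal B → ¬ IsUnit e := fun {e} he hu =>
    (mem_maximalIdeal _).1 he ((hD.pow 2).mul (hu.map φ))
  rcases hne with hu | hu | hu
  · refine hz ?_ hu
    rw [show D ^ 2 * a' = t ^ 2 * Q₁ - t * s * β + s ^ 2 * Q₂ by simp only [Q₁, Q₂, β, D]; ring]
    exact add_mem (sub_mem (Ideal.mul_mem_left _ _ h1) (Ideal.mul_mem_left _ _ hβ)) (Ideal.mul_mem_left _ _ h2)
  · refine hz ?_ hu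
    rw [show D ^ 2 * b' = -2 * r * t * Q₁ + (p * t + r * s) * β + -2 * p * s * Q₂ by simp only [Q₁, Q₂, β, D]; ring]
    exact add_mem (add_mem (Ideal.mul_mem_left _ _ h1) (Ideal.mul_mem_left _ _ hβ)) (Ideal.mul_mem_left _ _ h2)
  · refine hz ?_ hu
    rw [show D ^ 2 * c' = r ^ 2 * Q₁ - p * r * β + p ^ 2 * Q₂ by simp only [Q₁, Q₂, β, D]; ring]
    exact add_mem (sub_mem (Ideal.mul_mem_left _ _ h1) (Ideal.mul_mem_left _ _ hβ)) (Ideal.mul_mem_left _ _ h2)

end Transfer

end Groth.Agent.NodalQ
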