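import Groth.Agent.NodalQ.Completion
import Groth.Agent.NodeLib.Completion
import Groth.Agent.S9231

/-!
# Deformations of the nondegenerate quadratic double point

A flat local algebra whose closed fibre has the relation `aX² + bXY + cY²` modulo the cube and colengths `1, 3, 5, …`
has completion `Â⟦X, Y⟧/(aX² + bXY + cY² - h)`.
-/

set_option autoImplicit false
set_option linter.style.haveILetI false
set_option linter.unusedSectionVars false
set_option backward.isDefEq.respectTransparency false
set_option backward.isDefEq.respectTransparency.types false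
set_option maxHeartbeats 1600000

universe u

open IsLocalRing Groth.Agent.NodalLib

noncomputable section

namespace Groth.Agent.NodalQ

/-- Colengths along a surjection. -/
theorem ell_map_of_surjective {S T : Type u} [CommRing S] [CommRing T] (ψ : S →+* T) (hψ : Function.Surjective ψ)
    (I : Ideal S) : ell (I.map ψ) = ell (I ⊔ RingHom.ker ψ) := by
  let g : S →+* T ⧸ I.map ψ := (Ideal.Quotient.mk _).comp ψ
  have hg : Function.Surjective g := Ideal.Quotient.mk_surjective.comp hψ
  have hgk : RingHom.ker g = I ⊔ RingHom.ker ψ := by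
    show RingHom.ker ((Ideal.Quotient.mk _).comp ψ) = _
    rw [← RingHom.comap_ker, Ideal.mk_ker, Ideal.comap_map_of_surjective ψ hψ]
    rfl
  letI : Algebra S T := ψ.toAlgebra
  rw [ell, ell, ← Module.length_eq_of_surjective (S := S) (R := T) (M := T ⧸ I.map ψ) hψ]
  let L : S →ₗ[S] T ⧸ I.map ψ := Algebra.linearMap S (T ⧸ I.map ψ)
  have hL : LinearMap.ker L = (I ⊔ RingHom.ker ψ : Ideal S) := hgk
  exact ((Submodule.quotEquivOfEq _ _ hL.symm).trans (L.quotKerEquivOfSurjective hg)).symm.length_eq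

section Family

variable {T C : Type u} [CommRing T] [IsLocalRing T] [IsNoetherianRing T] [IsAdicComplete (maximalIdeal T) T]
  [CommRing C] [IsLocalRing C] [IsNoetherianRing C] [IsAdicComplete (maximalIdeal C) C]
  [Algebra T C] [IsLocalHom (algebraMap T C)]

/-- The equation `aX² + bXY + cY² - h`. -/
def quadEq {T : Type u} [CommRing T] (a b c h : T) : Ideal (MvPowerSeries (Fin 2) T) :=
  Ideal.span {(MvPowerSeries.C a * MvPowerSeries.X 0 ^ 2 + MvPowerSeries.C b * MvPowerSeries.X 0 * MvPowerSeries.X 1 +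
    MvPowerSeries.C c * MvPowerSeries.X 1 ^ 2 - MvPowerSeries.C h : MvPowerSeries (Fin 2) T)}

theorem exists_family (a b c : T) (hdisc : IsUnit (4 * a * c - b ^ 2))
    (hres : ∀ z : C, ∃ t : T, z - algebraMap T C t ∈ maximalIdeal C)
    (X₀ Y₀ : C) (hq : algebraMap T C a * X₀ ^ 2 + algebraMap T C b * X₀ * Y₀ + algebraMap T C c * Y₀ ^ 2 ∈
      (maximalIdeal T).map (algebraMap T C))
    (hgen : maximalIdeal C = Ideal.span {X₀, Y₀} ⊔ (maximalIdeal T).map (algebraMap T C)) :
    ∃ (h : T) (ψ : (MvPowerSeries (Fin 2) T ⧸ quadEq a b c h) →ₐ[T] C),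
      h ∈ maximalIdeal T ∧ Function.Surjective ψ := by
  classical
  set M := (maximalIdeal T).map (algebraMap T C) with hM
  have hMm : M ≤ maximalIdeal C := map_maximalIdeal_le (algebraMap T C)
  set a' := algebraMap T C a
  set b' := algebraMap T C b
  set c' := algebraMap T C c
  obtain ⟨w, hw⟩ : ∃ w : C, w * (4 * a' * c' - b' ^ 2) = 1 := by
    have := hdisc.map (algebraMap T C)
    simp only [map_sub, map_mul, map_pow, map_ofNat] at this
    exact this.exists_left_inv
  let q : C → C → C := fun s t => a' * s ^ 2 + b' * s * t + c' * t ^ 2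
  let St : ℕ → T × C × C → Prop := fun n s =>
    s.1 ∈ maximalIdeal T ∧ s.2.1 - X₀ ∈ M ∧ s.2.2 - Y₀ ∈ M ∧ q s.2.1 s.2.2 - algebraMap T C s.1 ∈ M ^ (n + 1)
  have hnext : ∀ (n : ℕ) (s : T × C × C), St n s → ∃ s' : T × C × C, St (n + 1) s' ∧
      s'.1 - s.1 ∈ maximalIdeal T ^ (n + 1) ∧ s'.2.1 - s.2.1 ∈ M ^ (n + 1) ∧ s'.2.2 - s.2.2 ∈ M ^ (n + 1) := by
    rintro n ⟨g, s, t⟩ ⟨hg, h₁, h₂, hz⟩
    set l₁ := 2 * a' * s + b' * t
    set l₂ := b' * s + 2 * c' * t
    have hdec : ∀ z : C, ∃ (r : T) (p p' : C), z - (algebraMap T C r + l₁ * p + l₂ * p') ∈ M := by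
      intro z
      obtain ⟨r, hr⟩ := hres z
      rw [hgen, Submodule.mem_sup] at hr
      obtain ⟨y, hy, m, hm, hym⟩ := hr
      obtain ⟨p, p', rfl⟩ := Ideal.mem_span_pair.mp hy
      refine ⟨r, p * (2 * c' * w) - p' * (b' * w), -(p * (b' * w)) + p' * (2 * a' * w), ?_⟩
      have he : z - (algebraMap T C r + l₁ * (p * (2 * c' * w) - p' * (b' * w)) +
          l₂ * (-(p * (b' * w)) + p' * (2 * a' * w))) = m - p * (s - X₀) - p' * (t - Y₀) := by
        simp only [l₁, l₂]
        linear_combination -hym - (p * s + p' * t) * hw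
      rw [he]
      exact sub_mem (sub_mem hm (Ideal.mul_mem_left _ _ h₁)) (Ideal.mul_mem_left _ _ h₂)
    obtain ⟨r, δ, ε, hr, hδ, hε, h⟩ := NodeLib.step hdec (n + 1) _ hz
    refine ⟨(g + r, s - δ, t - ε), ⟨add_mem hg (Ideal.pow_le_self n.succ_ne_zero hr), ?_, ?_, ?_⟩,
      by simpa using hr, ?_, ?_⟩
    · show s - δ - X₀ ∈ M
      rw [sub_right_comm]; exact sub_mem h₁ (Ideal.pow_le_self n.succ_ne_zero hδ)
    · show t - ε - Y₀ ∈ M
      rw [sub_right_comm]; exact sub_mem h₂ (Ideal.pow_le_self n.succ_ne_zero hε)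
    · have hsq : ∀ {u v : C}, u ∈ M ^ (n + 1) → v ∈ M ^ (n + 1) → u * v ∈ M ^ (n + 1 + 1) := fun hu hv =>
        Ideal.pow_le_pow_right (by omega) ((pow_add M (n + 1) (n + 1)).symm ▸ Ideal.mul_mem_mul hu hv)
      show q (s - δ) (t - ε) - algebraMap T C (g + r) ∈ M ^ (n + 1 + 1)
      rw [show q (s - δ) (t - ε) - algebraMap T C (g + r) =
          (q s t - algebraMap T C g - (algebraMap T C r + l₁ * δ + l₂ * ε)) +
            (a' * (δ * δ) + b' * (δ * ε) + c' * (ε * ε)) by simp only [q, l₁, l₂, map_add]; ring]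
      exact add_mem h (add_mem (add_mem (Ideal.mul_mem_left _ _ (hsq hδ hδ)) (Ideal.mul_mem_left _ _ (hsq hδ hε)))
        (Ideal.mul_mem_left _ _ (hsq hε hε)))
    · show s - δ - s ∈ M ^ (n + 1)
      rw [sub_sub_cancel_left]; exact neg_mem hδ
    · show t - ε - t ∈ M ^ (n + 1)
      rw [sub_sub_cancel_left]; exact neg_mem hε
  have h0 : St 0 (0, X₀, Y₀) := ⟨zero_mem _, by simp, by simp, by simpa [q] using hq⟩
  choose! next hN1 hN2 hN3 hN4 using hnext
  let s : ℕ → T × C × C := fun n => Nat.rec (0, X₀, Y₀) (fun n p => next n p) n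
  have hs : ∀ n, St n (s n) := by
    intro n
    induction n with
    | zero => exact h0
    | succ n ih => exact hN1 n (s n) ih
  haveI : IsAdicComplete M C := S0546.result C M (maximalIdeal C) hMm (IsNoetherian.noetherian _) C
  have lim : ∀ {R : Type u} [CommRing R] (J : Ideal R) [IsAdicComplete J R] (f : ℕ → R),
      (∀ n, f (n + 1) - f n ∈ J ^ (n + 1)) → ∃ L, ∀ n, f n - L ∈ J ^ n := by
    intro R _ J _ f hf
    have hc : ∀ {m n}, m ≤ n → f m ≡ f n [SMOD (J ^ m • ⊤ : Submodule R R)] := by
      intro m n hmn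
      rw [SModEq.sub_mem, smul_eq_mul, Ideal.mul_top]
      induction hmn with
      | refl => simp
      | @step l hml ih =>
        rw [← sub_add_sub_cancel (f m) (f l) (f (l + 1))]
        exact add_mem ih (Ideal.pow_le_pow_right (le_trans hml (Nat.le_succ l)) (by rw [← neg_sub]; exact neg_mem (hf l)))
    obtain ⟨L, hL⟩ := IsPrecomplete.prec' (I := J) f hc
    exact ⟨L, fun n => by simpa [SModEq.sub_mem, smul_eq_mul] using hL n⟩
  obtain ⟨g, hg⟩ := lim (maximalIdeal T) (fun n => (s n).1) fun n => hN2 n _ (hs n)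
  obtain ⟨X, hX⟩ := lim M (fun n => (s n).2.1) fun n => hN3 n _ (hs n)
  obtain ⟨Y, hY⟩ := lim M (fun n => (s n).2.2) fun n => hN4 n _ (hs n)
  have hgm : g ∈ maximalIdeal T := by
    have h := hg 1
    rw [pow_one] at h
    simpa using sub_mem (hs 1).1 h
  have hXX : X - X₀ ∈ M := by
    have h := hX 1
    rw [pow_one] at h
    simpa using sub_mem (hs 1).2.1 h
  have hYY : Y - Y₀ ∈ M := by
    have h := hY 1
    rw [pow_one] at h
    simpa using sub_mem (hs 1).2.2.1 h
  have hprod : q X Y = algebraMap T C g := by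
    rw [← sub_eq_zero]
    refine IsHausdorff.haus' (I := M) _ fun n => ?_
    rw [SModEq.zero, smul_eq_mul, Ideal.mul_top, ← Ideal.Quotient.eq_zero_iff_mem]
    have e1 : Ideal.Quotient.mk (M ^ n) (s n).2.1 = Ideal.Quotient.mk _ X := Ideal.Quotient.eq.2 (hX n)
    have e2 : Ideal.Quotient.mk (M ^ n) (s n).2.2 = Ideal.Quotient.mk _ Y := Ideal.Quotient.eq.2 (hY n)
    have e3 : Ideal.Quotient.mk (M ^ n) (algebraMap T C (s n).1) = Ideal.Quotient.mk _ (algebraMap T C g) := by
      rw [Ideal.Quotient.eq, ← map_sub, hM, ← Ideal.map_pow]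
      exact Ideal.mem_map_of_mem _ (hg n)
    have e4 : Ideal.Quotient.mk (M ^ n) (q (s n).2.1 (s n).2.2 - algebraMap T C (s n).1) = 0 :=
      Ideal.Quotient.eq_zero_iff_mem.2 (Ideal.pow_le_pow_right n.le_succ (hs n).2.2.2)
    simp only [q, map_sub, map_add, map_mul, map_pow, e1, e2, e3] at e4 ⊢
    exact e4
  -- the map
  have hX₀ : X₀ ∈ maximalIdeal C := hgen ▸ Ideal.mem_sup_left (Ideal.subset_span (by simp))
  have hY₀ : Y₀ ∈ maximalIdeal C := hgen ▸ Ideal.mem_sup_left (Ideal.subset_span (by simp))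
  have hXm : X ∈ maximalIdeal C := by simpa using add_mem (hMm hXX) hX₀
  have hYm : Y ∈ maximalIdeal C := by simpa using add_mem (hMm hYY) hY₀
  obtain ⟨φ, hφ⟩ := PSLib.exists_algHom (R := T) (maximalIdeal C) ![X, Y] (by
    intro i; fin_cases i <;> simp [hXm, hYm])
  have hφ0 : φ (MvPowerSeries.X 0) = X := by simpa using hφ 0
  have hφ1 : φ (MvPowerSeries.X 1) = Y := by simpa using hφ 1
  let J : Ideal C := Ideal.span {X, Y}
  have hJm : J ≤ maximalIdeal C := Ideal.span_le.mpr (by simp [Set.insert_subset_iff, hXm, hYm])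
  have hmC : maximalIdeal C = J ⊔ M := by
    refine le_antisymm ?_ (sup_le hJm hMm)
    rw [hgen]
    refine sup_le (Ideal.span_le.mpr ?_) le_sup_right
    rintro x (rfl | rfl)
    · rw [SetLike.mem_coe, ← sub_sub_cancel X x]
      exact sub_mem (Ideal.mem_sup_left (Ideal.subset_span (by simp))) (Ideal.mem_sup_right hXX)
    · rw [SetLike.mem_coe, ← sub_sub_cancel Y x]
      exact sub_mem (Ideal.mem_sup_left (Ideal.subset_span (by simp))) (Ideal.mem_sup_right hYY)
  haveI : Nontrivial (C ⧸ J) := Ideal.Quotient.nontrivial_iff.mpr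
    (fun h => (maximalIdeal.isMaximal C).ne_top (top_le_iff.mp (h ▸ hJm)))
  haveI : IsLocalRing (C ⧸ J) := IsLocalRing.of_surjective' (Ideal.Quotient.mk J) Ideal.Quotient.mk_surjective
  have hMJ : (maximalIdeal T).map ((Ideal.Quotient.mk J).comp (algebraMap T C)) = maximalIdeal (C ⧸ J) := by
    rw [← Ideal.map_map, ← map_maximalIdeal_of_surjective _ (Ideal.Quotient.mk_surjective (I := J)), hmC,
      Ideal.map_sup, Ideal.map_quotient_self, bot_sup_eq]
  haveI : IsHausdorff (maximalIdeal (C ⧸ J)) (C ⧸ J) := by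
    constructor
    intro x hx
    rw [← Ideal.mem_bot, ← Ideal.iInf_pow_eq_bot_of_isLocalRing (maximalIdeal (C ⧸ J))
      (maximalIdeal.isMaximal _).ne_top, Submodule.mem_iInf]
    exact fun n => by simpa [SModEq.zero, smul_eq_mul] using hx n
  have hTJ : Function.Surjective ((Ideal.Quotient.mk J).comp (algebraMap T C)) :=
    PSLib.surjective_of_first_order _ (I := maximalIdeal T) (J := maximalIdeal (C ⧸ J))
      (IsNoetherian.noetherian _) (IsLocalRing.maximalIdeal_le_jacobson _) hMJ.le (le_sup_of_le_left hMJ.ge)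
      fun z => by
        obtain ⟨z, rfl⟩ := Ideal.Quotient.mk_surjective z
        obtain ⟨t, ht⟩ := hres z
        refine ⟨t, ?_⟩
        rw [RingHom.comp_apply, ← map_sub, ← map_maximalIdeal_of_surjective _ (Ideal.Quotient.mk_surjective (I := J))]
        exact Ideal.mem_map_of_mem _ ht
  haveI : IsHausdorff J C := by
    constructor
    intro x hx
    rw [← Ideal.mem_bot, ← Ideal.iInf_pow_eq_bot_of_isLocalRing J
      (fun h => (maximalIdeal.isMaximal C).ne_top (top_le_iff.mp (h ▸ hJm))), Submodule.mem_iInf]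
    exact fun n => by simpa [SModEq.zero, smul_eq_mul] using hx n
  have hvJ : (PSLib.vars 2 T).map φ.toRingHom = J := by
    rw [PSLib.vars, Ideal.map_span, ← Set.range_comp]
    congr 1
    ext x
    simp [Fin.exists_fin_two, hφ0, hφ1, eq_comm]
  have hφs : Function.Surjective φ.toRingHom :=
    PSLib.surjective_of_first_order φ.toRingHom (I := PSLib.vars 2 T) (J := J)
      (IsNoetherian.noetherian _) (hJm.trans (IsLocalRing.maximalIdeal_le_jacobson _)) hvJ.le
      (le_sup_of_le_left hvJ.ge) fun z => by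
        obtain ⟨t, ht⟩ := hTJ (Ideal.Quotient.mk J z)
        refine ⟨algebraMap T _ t, ?_⟩
        show z - φ (algebraMap T _ t) ∈ J
        rw [φ.commutes, ← Ideal.Quotient.eq]
        exact ht.symm
  have hC : ∀ t : T, φ (MvPowerSeries.C t) = algebraMap T C t := fun t => φ.commutes t
  have hkill : ∀ x ∈ quadEq a b c g, φ x = 0 := by
    intro x hx
    obtain ⟨y, rfl⟩ := Ideal.mem_span_singleton'.mp hx
    simp only [map_mul, map_sub, map_add, map_pow, hφ0, hφ1, hC]
    rw [show a' * X ^ 2 + b' * X * Y + c' * Y ^ 2 = algebraMap T C g from hprod, sub_self, mul_zero]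
  exact ⟨g, Ideal.Quotient.liftₐ _ φ hkill, hgm, Ideal.Quotient.lift_surjective_of_surjective _ _ hφs⟩

end Family

/-- The completion of a flat deformation of a nondegenerate quadratic double point. -/
theorem exists_deformation (A B : Type u) [CommRing A] [IsLocalRing A] [IsNoetherianRing A]
    [CommRing B] [IsLocalRing B] [IsNoetherianRing B] [Algebra A B] [IsLocalHom (algebraMap A B)] [Module.Flat A B]
    (hres : ∀ z : B, ∃ r : A, z - algebraMap A B r ∈ maximalIdeal B) (a b c : A)
    (hdisc : residue A (4 * a * c - b ^ 2) ≠ 0) (x y : B)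
    (hgen : maximalIdeal B = Ideal.span {x, y} ⊔ (maximalIdeal A).map (algebraMap A B))
    (hq : algebraMap A B a * x ^ 2 + algebraMap A B b * x * y + algebraMap A B c * y ^ 2 ∈
      (maximalIdeal A).map (algebraMap A B) ⊔ maximalIdeal B ^ 3)
    (hell : ∀ n : ℕ, ell ((maximalIdeal A).map (algebraMap A B) ⊔ maximalIdeal B ^ (n + 1)) = (2 * n + 1 : ℕ)) :
    ∃ h ∈ maximalIdeal (AdicCompletion (maximalIdeal A) A),
      ∃ e : AdicCompletion (maximalIdeal B) B ≃+* (MvPowerSeries (Fin 2) (AdicCompletion (maximalIdeal A) A) ⧸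
          quadEq (algebraMap A (AdicCompletion (maximalIdeal A) A) a) (algebraMap A _ b) (algebraMap A _ c) h),
        ∀ r : A, e (algebraMap B _ (algebraMap A B r)) =
          Ideal.Quotient.mk _ (MvPowerSeries.C (algebraMap A (AdicCompletion (maximalIdeal A) A) r)) := by
  classical
  let T := AdicCompletion (maximalIdeal A) A
  let C := AdicCompletion (maximalIdeal B) B
  haveI : IsNoetherianRing T := LC.Canon.isNoetherianRing_completion (R := A)
  haveI : IsNoetherianRing C := LC.Canon.isNoetherianRing_completion (R := B)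
  haveI : IsAdicComplete (maximalIdeal T) T := NodeLib.isAdicComplete_maximalIdeal A
  haveI : IsAdicComplete (maximalIdeal C) C := NodeLib.isAdicComplete_maximalIdeal B
  have hmT : maximalIdeal T = (maximalIdeal A).map (algebraMap A T) := AdicCompletion.maximalIdeal_eq_map
  have hmC : maximalIdeal C = (maximalIdeal B).map (algebraMap B C) := AdicCompletion.maximalIdeal_eq_map
  have hAC : algebraMap A C = (algebraMap B C).comp (algebraMap A B) := IsScalarTower.algebraMap_eq A B C
  have hAmC : (maximalIdeal A).map (algebraMap A C) ≤ maximalIdeal C := by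
    rw [hAC, ← Ideal.map_map, hmC]
    exact Ideal.map_mono (map_maximalIdeal_le (algebraMap A B))
  obtain ⟨ι, hι⟩ := Adic7.exists_lift_completion (R := A) (S := A) (B := C) (maximalIdeal A) (maximalIdeal C)
    (Algebra.ofId A C) hAmC
  letI : Algebra T C := ι.toRingHom.toAlgebra
  haveI : IsScalarTower A T C := IsScalarTower.of_algebraMap_eq fun a => (hι a).symm
  haveI : Module.Flat T C := (S9231.result A B ι.toRingHom (RingHom.ext fun a =>
    (hι a).trans (IsScalarTower.algebraMap_apply A B C a))).mpr (RingHom.flat_algebraMap_iff.mpr inferInstance)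
  set M := (maximalIdeal T).map (algebraMap T C) with hMdef
  have hTC : M = ((maximalIdeal A).map (algebraMap A B)).map (algebraMap B C) := by
    rw [hMdef, hmT, Ideal.map_map, ← IsScalarTower.algebraMap_eq, hAC, Ideal.map_map]
  have hMm : M ≤ maximalIdeal C := by
    rw [hTC, hmC]
    exact Ideal.map_mono (map_maximalIdeal_le (algebraMap A B))
  haveI : IsLocalHom (algebraMap T C) := ⟨fun z hz => by
    by_contra h
    exact (show algebraMap T C z ∈ maximalIdeal C from
      hMm (Ideal.mem_map_of_mem _ ((mem_maximalIdeal _).mpr h))) hz⟩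
  have hresC : ∀ z : C, ∃ t : T, z - algebraMap T C t ∈ maximalIdeal C := by
    intro z
    obtain ⟨s, hs⟩ := completion_dense B 1 z
    rw [pow_one] at hs
    obtain ⟨r, hr⟩ := hres s
    refine ⟨algebraMap A T r, ?_⟩
    rw [← IsScalarTower.algebraMap_apply A T C, IsScalarTower.algebraMap_apply A B C,
      ← sub_add_sub_cancel z (algebraMap B C s) _, ← map_sub]
    exact add_mem hs (hmC ▸ Ideal.mem_map_of_mem _ hr)
  -- the closed fibre
  let D := C ⧸ M
  haveI : Nontrivial D := Ideal.Quotient.nontrivial_iff.2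
    (fun h => (maximalIdeal.isMaximal C).ne_top (top_le_iff.1 (h ▸ hMm)))
  haveI : IsLocalRing D := IsLocalRing.of_surjective' (Ideal.Quotient.mk M) Ideal.Quotient.mk_surjective
  haveI : IsAdicComplete (maximalIdeal D) D := CILib.isAdicComplete_quotient M
  have hmD : maximalIdeal D = (maximalIdeal C).map (Ideal.Quotient.mk M) :=
    (map_maximalIdeal_of_surjective _ Ideal.Quotient.mk_surjective).symm
  have hellD : ∀ n : ℕ, ell (maximalIdeal D ^ (n + 1)) = (2 * n + 1 : ℕ) := by
    intro n
    rw [hmD, ← Ideal.map_pow, ell_map_of_surjective _ Ideal.Quotient.mk_surjective, Ideal.mk_ker, sup_comm, hTC,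
      ← map_pow_maximalIdeal (algebraMap B C) completion_flat completion_map, ← Ideal.map_sup,
      ell_map (algebraMap B C) completion_flat completion_map]
    exact hell n
  let g : B →+* D := (Ideal.Quotient.mk M).comp (algebraMap B C)
  have hgA : ∀ r : A, g (algebraMap A B r) = Ideal.Quotient.mk M (algebraMap T C (algebraMap A T r)) := fun r => by
    show Ideal.Quotient.mk M (algebraMap B C (algebraMap A B r)) = _
    rw [← IsScalarTower.algebraMap_apply A B C, ← IsScalarTower.algebraMap_apply A T C]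
  have hgM : ∀ z ∈ (maximalIdeal A).map (algebraMap A B), g z = 0 := fun z hz =>
    Ideal.Quotient.eq_zero_iff_mem.2 (hTC ▸ Ideal.mem_map_of_mem _ hz)
  have hspanD : Ideal.span {g x, g y} = maximalIdeal D := by
    rw [hmD, hmC, Ideal.map_map]
    refine Eq.trans ?_ (congrArg (Ideal.map g) hgen).symm
    rw [Ideal.map_sup, Ideal.map_span, Set.image_pair,
      (Ideal.map_eq_bot_iff_le_ker g).2 fun z hz => hgM z hz, sup_bot_eq]
  have hdT : IsUnit (4 * algebraMap A T a * algebraMap A T c - algebraMap A T b ^ 2) := by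
    have := ((residue_ne_zero_iff_isUnit _).1 hdisc).map (algebraMap A T)
    simpa only [map_sub, map_mul, map_pow, map_ofNat] using this
  let π : T →+* D := (Ideal.Quotient.mk M).comp (algebraMap T C)
  have hqD : π (algebraMap A T a) * g x ^ 2 + π (algebraMap A T b) * g x * g y +
      π (algebraMap A T c) * g y ^ 2 ∈ maximalIdeal D ^ 3 := by
    obtain ⟨u, hu, v, hv, huv⟩ := Submodule.mem_sup.1 hq
    have hgv : g v ∈ maximalIdeal D ^ 3 := by
      have h1 : (maximalIdeal B).map g ≤ maximalIdeal D := by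
        rw [hmD, hmC, Ideal.map_map]
      have h2 := Ideal.mem_map_of_mem g hv
      rw [Ideal.map_pow] at h2
      exact Ideal.pow_right_mono h1 3 h2
    have := congrArg g huv
    simp only [map_add, map_mul, map_pow, hgM u hu, zero_add, hgA] at this
    show π _ * _ + _ + _ ∈ _
    rw [show π (algebraMap A T a) * g x ^ 2 + π (algebraMap A T b) * g x * g y +
      π (algebraMap A T c) * g y ^ 2 = g v from this.symm]
    exact hgv
  obtain ⟨X₁, Y₁, hXY, hzero⟩ := exists_exact hspanD (by
    have := hdT.map π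
    simpa only [map_sub, map_mul, map_pow, map_ofNat] using this) hqD
  obtain ⟨X₀, rfl⟩ := Ideal.Quotient.mk_surjective X₁
  obtain ⟨Y₀, rfl⟩ := Ideal.Quotient.mk_surjective Y₁
  have hgenC : maximalIdeal C = Ideal.span {X₀, Y₀} ⊔ M := by
    have h1 : (maximalIdeal C).map (Ideal.Quotient.mk M) = (Ideal.span {X₀, Y₀}).map (Ideal.Quotient.mk M) := by
      rw [← hmD, Ideal.map_span, Set.image_pair, hXY]
    have h2 := congrArg (Ideal.comap (Ideal.Quotient.mk M)) h1
    rw [Ideal.comap_map_of_surjective _ Ideal.Quotient.mk_surjective,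
      Ideal.comap_map_of_surjective _ Ideal.Quotient.mk_surjective, ← RingHom.ker_eq_comap_bot, Ideal.mk_ker,
      sup_eq_left.2 hMm] at h2
    exact h2
  obtain ⟨h, ψ, hh, hψ⟩ := exists_family (algebraMap A T a) (algebraMap A T b) (algebraMap A T c) hdT hresC X₀ Y₀
    (Ideal.Quotient.eq_zero_iff_mem.1 (by
      rw [map_add, map_add, map_mul, map_mul, map_mul, map_mul, map_pow, map_pow]
      exact hzero))
    hgenC
  refine ⟨h, hh, ?_⟩
  let I := quadEq (algebraMap A T a) (algebraMap A T b) (algebraMap A T c) h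
  let P := MvPowerSeries (Fin 2) T
  let k := ResidueField T
  let a₀ := residue T (algebraMap A T a)
  let b₀ := residue T (algebraMap A T b)
  let c₀ := residue T (algebraMap A T c)
  have hd₀ : 4 * a₀ * c₀ - b₀ ^ 2 ≠ 0 := by
    have := (residue_ne_zero_iff_isUnit _).2 hdT
    simpa only [map_sub, map_mul, map_pow, map_ofNat] using this
  -- reduction of the model
  let red : P →+* MvPowerSeries (Fin 2) k ⧸ Ideal.span {qf k a₀ b₀ c₀} :=
    (Ideal.Quotient.mk _).comp (MvPowerSeries.map (residue T))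
  have hmap : Function.Surjective (MvPowerSeries.map (σ := Fin 2) (residue T)) := fun f => by
    choose d hd using fun i => residue_surjective (MvPowerSeries.coeff i f)
    let p : P := d
    exact ⟨p, MvPowerSeries.ext fun i => by rw [MvPowerSeries.coeff_map]; exact hd i⟩
  have hreds : Function.Surjective red := Ideal.Quotient.mk_surjective.comp hmap
  have hredk : RingHom.ker red ≤ (maximalIdeal T).map MvPowerSeries.C ⊔ I := by
    intro p hp
    obtain ⟨d, hd⟩ := Ideal.mem_span_singleton'.mp (Ideal.Quotient.eq_zero_iff_mem.mp hp)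
    obtain ⟨d', rfl⟩ := hmap d
    let Fq : P := MvPowerSeries.C (algebraMap A T a) * MvPowerSeries.X 0 ^ 2 +
      MvPowerSeries.C (algebraMap A T b) * MvPowerSeries.X 0 * MvPowerSeries.X 1 +
      MvPowerSeries.C (algebraMap A T c) * MvPowerSeries.X 1 ^ 2 - MvPowerSeries.C h
    have hF : MvPowerSeries.map (residue T) Fq = qf k a₀ b₀ c₀ := by
      simp only [Fq, qf, map_sub, map_add, map_mul, map_pow, MvPowerSeries.map_X, MvPowerSeries.map_C,
        (residue_eq_zero_iff h).2 hh, map_zero, sub_zero]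
      rfl
    have h0 : MvPowerSeries.map (residue T) (p - d' * Fq) = 0 := by
      rw [map_sub, map_mul, hF, hd, sub_self]
    rw [← sub_add_cancel p (d' * Fq)]
    refine add_mem (Ideal.mem_sup_left (NodeLib.mem_map_C _ (IsNoetherian.noetherian _) _ fun i => ?_))
      (Ideal.mem_sup_right (Ideal.mul_mem_left _ _ (Ideal.subset_span rfl)))
    rw [← residue_eq_zero_iff, ← MvPowerSeries.coeff_map, h0, map_zero]
  let G : P →+* D := (Ideal.Quotient.mk M).comp (ψ.toRingHom.comp (Ideal.Quotient.mk I))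
  have hGs : Function.Surjective G :=
    Ideal.Quotient.mk_surjective.comp (hψ.comp Ideal.Quotient.mk_surjective)
  have hψC : ∀ t : T, ψ (Ideal.Quotient.mk I (MvPowerSeries.C t)) = algebraMap T C t := fun t => ψ.commutes t
  have hGk : RingHom.ker red ≤ RingHom.ker G := hredk.trans (sup_le
    (Ideal.map_le_iff_le_comap.mpr fun t ht => by
      show Ideal.Quotient.mk M (ψ (Ideal.Quotient.mk I (MvPowerSeries.C t))) = 0
      rw [hψC, Ideal.Quotient.eq_zero_iff_mem]
      exact Ideal.mem_map_of_mem _ ht)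
    (fun z hz => by
      show Ideal.Quotient.mk M (ψ (Ideal.Quotient.mk I z)) = 0
      rw [Ideal.Quotient.eq_zero_iff_mem.mpr hz, map_zero, map_zero]))
  let σ := RingHom.liftOfSurjective red hreds ⟨G, hGk⟩
  have hσ : ∀ p, σ (red p) = G p := RingHom.liftOfRightInverse_comp_apply _ _ _ _
  have hσs : Function.Surjective σ := fun z => by
    obtain ⟨p, rfl⟩ := hGs z
    exact ⟨red p, hσ p⟩
  obtain ⟨⟨-, -, -, -, -, -, -, -, hlQ⟩, -⟩ := model_spec a₀ b₀ c₀ hd₀
  have hσi : Function.Injective σ :=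
    injective_of_ell σ hσs (fun n => 2 * n + 1) (fun n => (hlQ n).le) hellD
  haveI : Nontrivial (P ⧸ I) := ψ.toRingHom.domain_nontrivial
  haveI : IsLocalRing (P ⧸ I) := IsLocalRing.of_surjective' (Ideal.Quotient.mk I) Ideal.Quotient.mk_surjective
  have hJle : (maximalIdeal T).map (algebraMap T (P ⧸ I)) ≤ Ideal.jacobson ⊥ := by
    refine le_trans (Ideal.map_le_iff_le_comap.mpr fun t ht => ?_) (IsLocalRing.maximalIdeal_le_jacobson _)
    refine (IsLocalRing.mem_maximalIdeal _).mpr fun hu => ?_
    refine (IsLocalRing.mem_maximalIdeal _).mp (hMm (Ideal.mem_map_of_mem (algebraMap T C) ht)) ?_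
    rw [← ψ.commutes t]
    exact hu.map ψ
  have hker : RingHom.ker ψ ≤ (maximalIdeal T).map (algebraMap T (P ⧸ I)) := by
    intro z hz
    obtain ⟨p, rfl⟩ := Ideal.Quotient.mk_surjective z
    have hGp : G p = 0 := by
      show Ideal.Quotient.mk M (ψ (Ideal.Quotient.mk I p)) = 0
      rw [show ψ (Ideal.Quotient.mk I p) = 0 from hz, map_zero]
    have hp : p ∈ RingHom.ker red := RingHom.mem_ker.mpr (hσi (by rw [hσ, hGp, map_zero]))
    have := Ideal.mem_map_of_mem (Ideal.Quotient.mk I) (hredk hp)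
    rw [Ideal.map_sup, Ideal.map_quotient_self, sup_bot_eq, Ideal.map_map] at this
    exact this
  have hinj : Function.Injective ψ := NodeLib.injective_of_flat_of_ker_le ψ hψ _ hJle hker
  let e := RingEquiv.ofBijective ψ.toRingHom ⟨hinj, hψ⟩
  refine ⟨e.symm, fun r => ?_⟩
  rw [RingEquiv.symm_apply_eq]
  show algebraMap B C (algebraMap A B r) = ψ (Ideal.Quotient.mk I (MvPowerSeries.C (algebraMap A T r)))
  rw [hψC, ← IsScalarTower.algebraMap_apply A B C, ← IsScalarTower.algebraMap_apply A T C]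

end Groth.Agent.NodalQ
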