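import Groth.Agent.NodalQ.Deform
import Groth.Agent.FibFlat.Stalk
import Mathlib.AlgebraicGeometry.Morphisms.FiniteType

/-!
# Completion of a family at a point with nondegenerate quadratic double point in its fibre
-/

set_option autoImplicit false
set_option linter.style.haveILetI false
set_option linter.unusedSectionVars false
set_option backward.isDefEq.respectTransparency false
set_option backward.isDefEq.respectTransparency.types false
set_option maxHeartbeats 1000000

universe u

open CategoryTheory CategoryTheory.Limits AlgebraicGeometry IsLocalRing Groth.Agent.NodalLib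

noncomputable section

namespace Groth.Agent.NodalQ

/-- An algebra with the model as completion has generators satisfying the equation modulo the cube. -/
theorem exists_approx {K F : Type u} [Field K] [CommRing F] [IsLocalRing F] [IsNoetherianRing F] [Algebra K F]
    {a b c : K} (hd : 4 * a * c - b ^ 2 ≠ 0)
    (e : AdicCompletion (maximalIdeal F) F ≃+* (MvPowerSeries (Fin 2) K ⧸ Ideal.span {qf K a b c}))
    (he : ∀ r : K, e (algebraMap F _ (algebraMap K F r)) = Ideal.Quotient.mk _ (MvPowerSeries.C r)) :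
    (∀ z : F, ∃ r : K, z - algebraMap K F r ∈ maximalIdeal F) ∧
      (∀ n : ℕ, ell (maximalIdeal F ^ (n + 1)) = (2 * n + 1 : ℕ)) ∧
      ∃ x y : F, Ideal.span {x, y} = maximalIdeal F ∧
        algebraMap K F a * x ^ 2 + algebraMap K F b * x * y + algebraMap K F c * y ^ 2 ∈ maximalIdeal F ^ 3 := by
  let C := AdicCompletion (maximalIdeal F) F
  let g := algebraMap F C
  obtain ⟨⟨-, -, -, -, -, -, -, -, hlQ⟩, -⟩ := model_spec a b c hd
  let e' : (MvPowerSeries (Fin 2) K ⧸ Ideal.span {qf K a b c}) →+* C := e.symm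
  haveI : IsLocalHom e' := inferInstanceAs (IsLocalHom (e.symm : (MvPowerSeries (Fin 2) K ⧸ Ideal.span {qf K a b c}) →+* C))
  have hme : (maximalIdeal _).map e' = maximalIdeal C := map_maximalIdeal_of_surjective _ e.symm.surjective
  have hC : ∀ r : K, e' (Ideal.Quotient.mk _ (MvPowerSeries.C r)) = g (algebraMap K F r) := fun r => by
    show e.symm (Ideal.Quotient.mk _ (MvPowerSeries.C r)) = _
    rw [RingEquiv.symm_apply_eq]
    exact (he r).symm
  have hl : ∀ n : ℕ, ell (maximalIdeal F ^ (n + 1)) = (2 * n + 1 : ℕ) := fun n => by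
    rw [← ell_map g completion_flat completion_map, map_pow_maximalIdeal g completion_flat completion_map,
      ← map_pow_maximalIdeal e' (RingHom.Flat.of_bijective e.symm.bijective) hme,
      ell_map e' (RingHom.Flat.of_bijective e.symm.bijective) hme, hlQ]
  refine ⟨fun z => ?_, hl, ?_⟩
  · obtain ⟨p, hp⟩ := Ideal.Quotient.mk_surjective (e (g z))
    refine ⟨MvPowerSeries.constantCoeff p, ?_⟩
    rw [← pow_one (maximalIdeal F), ← mem_pow_iff g completion_flat completion_map, pow_one, map_sub, ← hC,
      show g z = e' (Ideal.Quotient.mk _ p) from by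
        show g z = e.symm (Ideal.Quotient.mk _ p)
        rw [hp, RingEquiv.symm_apply_apply], ← map_sub, ← map_sub, ← hme]
    refine Ideal.mem_map_of_mem _ (PSQuad.mk_mem_maximalIdeal ?_)
    rw [PSLib.mem_vars_iff, map_sub, MvPowerSeries.constantCoeff_C, sub_self]
  · let X : C := e' (Ideal.Quotient.mk _ (MvPowerSeries.X 0))
    let Y : C := e' (Ideal.Quotient.mk _ (MvPowerSeries.X 1))
    have hXY : Ideal.span {X, Y} = maximalIdeal C := by
      rw [← hme, ← span_model a b c, Ideal.map_span, Set.image_pair]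
    have hzero : g (algebraMap K F a) * X ^ 2 + g (algebraMap K F b) * X * Y + g (algebraMap K F c) * Y ^ 2 = 0 := by
      simp only [X, Y, ← hC, ← map_pow, ← map_mul, ← map_add]
      rw [show MvPowerSeries.C a * MvPowerSeries.X 0 ^ 2 + MvPowerSeries.C b * MvPowerSeries.X 0 * MvPowerSeries.X 1 +
          MvPowerSeries.C c * MvPowerSeries.X 1 ^ 2 = qf K a b c from rfl,
        Ideal.Quotient.eq_zero_iff_mem.2 (Ideal.mem_span_singleton_self _), map_zero]
    obtain ⟨x, hx⟩ := completion_dense F 3 X
    obtain ⟨y, hy⟩ := completion_dense F 3 Y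
    have hrel : algebraMap K F a * x ^ 2 + algebraMap K F b * x * y + algebraMap K F c * y ^ 2 ∈ maximalIdeal F ^ 3 := by
      rw [← mem_pow_iff g completion_flat completion_map, ← Ideal.Quotient.eq_zero_iff_mem]
      have ex : Ideal.Quotient.mk (maximalIdeal C ^ 3) X = Ideal.Quotient.mk _ (g x) := Ideal.Quotient.eq.2 hx
      have ey : Ideal.Quotient.mk (maximalIdeal C ^ 3) Y = Ideal.Quotient.mk _ (g y) := Ideal.Quotient.eq.2 hy
      have := congrArg (Ideal.Quotient.mk (maximalIdeal C ^ 3)) hzero
      simp only [map_add, map_mul, map_pow, map_zero, ex, ey] at this ⊢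
      exact this
    refine ⟨x, y, ?_, hrel⟩
    have hxm : x ∈ maximalIdeal F := by
      rw [← pow_one (maximalIdeal F), ← mem_pow_iff g completion_flat completion_map, pow_one, ← sub_sub_cancel X (g x)]
      exact sub_mem (x_mem hXY) (Ideal.pow_le_self three_ne_zero hx)
    have hym : y ∈ maximalIdeal F := by
      rw [← pow_one (maximalIdeal F), ← mem_pow_iff g completion_flat completion_map, pow_one, ← sub_sub_cancel Y (g y)]
      exact sub_mem (y_mem hXY) (Ideal.pow_le_self three_ne_zero hy)
    refine le_antisymm (Ideal.span_le.2 ?_) (PSQuad.maximalIdeal_le_of_le_sup_sq ?_)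
    · rintro z (rfl | rfl)
      exacts [hxm, hym]
    · intro z hz
      have hz' : g z ∈ maximalIdeal C := completion_map.le (Ideal.mem_map_of_mem g hz)
      rw [← hXY, Ideal.mem_span_pair] at hz'
      obtain ⟨s', t', hst⟩ := hz'
      obtain ⟨s, hs⟩ := completion_dense F 1 s'
      obtain ⟨t, ht⟩ := completion_dense F 1 t'
      rw [pow_one] at hs ht
      refine Submodule.mem_sup.2 ⟨s * x + t * y, Ideal.mem_span_pair.2 ⟨s, t, rfl⟩, z - (s * x + t * y), ?_,
        add_sub_cancel _ _⟩
      rw [← mem_pow_iff g completion_flat completion_map, map_sub, map_add, map_mul, map_mul, ← hst,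
        show s' * X + t' * Y - (g s * g x + g t * g y) =
          (s' - g s) * X + (t' - g t) * Y + (g s * (X - g x) + g t * (Y - g y)) by ring]
      refine add_mem ?_ (Ideal.pow_le_pow_right (by omega) (add_mem (Ideal.mul_mem_left _ _ hx) (Ideal.mul_mem_left _ _ hy)))
      rw [sq]
      exact add_mem (Ideal.mul_mem_mul hs (x_mem hXY)) (Ideal.mul_mem_mul ht (y_mem hXY))

theorem spec_sm {X Y : Scheme.{u}} (g : X ⟶ Y) (x : X) (y : Y) (h : g x = y) :
    Spec.map (CommRingCat.ofHom (FibFlat.sm g x y h)) ≫ Y.fromSpecStalk y = X.fromSpecStalk x ≫ g := by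
  subst h
  rw [FibFlat.sm_self]
  exact Scheme.SpecMap_stalkMap_fromSpecStalk g

/-- The completed local ring of a family at a quadratic double point of the fibre. -/
theorem exists_deformation_scheme {T S : Scheme.{u}} (f : T ⟶ S) [LocallyOfFiniteType f] (t : T)
    [IsNoetherianRing (S.presheaf.stalk (f t))] (hfl : (f.stalkMap t).hom.Flat)
    (a b c : S.presheaf.stalk (f t))
    (hd : residue (S.presheaf.stalk (f t)) (4 * a * c - b ^ 2) ≠ 0)
    (e : Curv2.cpl ((f.fiber (f t)).presheaf.stalk (f.asFiber t)) ≃+* (MvPowerSeries (Fin 2) (S.residueField (f t)) ⧸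
      Ideal.span {qf (S.residueField (f t)) (residue _ a) (residue _ b) (residue _ c)}))
    (he : letI : (f.fiber (f t)).Over (Spec (CommRingCat.of (S.residueField (f t)))) := ⟨f.fiberToSpecResidueField (f t)⟩
      ∀ r : S.residueField (f t),
        e (algebraMap _ _ (Curv2.stalkMap (S.residueField (f t)) (f.fiber (f t)) (f.asFiber t) r)) =
          Ideal.Quotient.mk _ (MvPowerSeries.C r)) :
    ∃ h ∈ maximalIdeal (Curv2.cpl (S.presheaf.stalk (f t))),
      ∃ e' : Curv2.cpl (T.presheaf.stalk t) ≃+*
          (MvPowerSeries (Fin 2) (Curv2.cpl (S.presheaf.stalk (f t))) ⧸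
            quadEq (algebraMap _ (Curv2.cpl (S.presheaf.stalk (f t))) a) (algebraMap _ _ b) (algebraMap _ _ c) h),
        ∀ r : S.presheaf.stalk (f t),
          e' (algebraMap (T.presheaf.stalk t) (Curv2.cpl (T.presheaf.stalk t)) ((f.stalkMap t).hom r)) =
            Ideal.Quotient.mk _ (MvPowerSeries.C (algebraMap _ (Curv2.cpl (S.presheaf.stalk (f t))) r)) := by
  let s := f t
  let A := S.presheaf.stalk s
  let B := T.presheaf.stalk t
  let w := f.asFiber t
  let κ := S.residueField s
  let Fs := f.fiber s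
  letI oF : Fs.Over (Spec (CommRingCat.of κ)) := ⟨f.fiberToSpecResidueField s⟩
  let F := Fs.presheaf.stalk w
  letI : Algebra κ F := Curv2.stalkAlgebra κ Fs w
  have hw : f.fiberι s w = t := f.fiberι_asFiber t
  let q : B →+* F := FibFlat.sm (f.fiberι s) w t hw
  have hqs : Function.Surjective q := FibFlat.surjective_sm _ _ _
  have hqk : RingHom.ker q = (maximalIdeal A).map (f.stalkMap t).hom := by
    rw [← FibFlat.sm_self f t]
    exact FibFlat.ker_sm_fiberι f s w t hw
  have hqf : ∀ r : A, q ((f.stalkMap t).hom r) = algebraMap κ F (residue A r) := by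
    suffices h : f.stalkMap t ≫ CommRingCat.ofHom q =
        S.residue s ≫ CommRingCat.ofHom (Curv2.stalkMap κ Fs w) from fun r => ConcreteCategory.congr_hom h r
    refine Spec.map_injective ((cancel_mono (S.fromSpecStalk s)).1 ?_)
    rw [Spec.map_comp, Spec.map_comp, Category.assoc, Category.assoc, Scheme.SpecMap_stalkMap_fromSpecStalk,
      ← Category.assoc, spec_sm, Category.assoc, Scheme.Hom.fiber_fac, ← Category.assoc]
    congr 1
    have h1 : (f.fiberToSpecResidueField s : Fs ⟶ Spec (CommRingCat.of κ)) =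
        Fs.toSpecΓ ≫ Spec.map (CommRingCat.ofHom (Coh.toGlobal (Fs ↘ Spec (CommRingCat.of κ)))) :=
      H23.GeomConn.eq_toSpecΓ_comp _
    conv_lhs => rw [h1]
    rw [Scheme.fromSpecStalk_toSpecΓ_assoc, ← Spec.map_comp]
    rfl
  letI : Algebra A B := (f.stalkMap t).hom.toAlgebra
  haveI : IsLocalHom (algebraMap A B) := inferInstanceAs (IsLocalHom (f.stalkMap t).hom)
  haveI : Algebra.EssFiniteType A B := LocallyOfFiniteType.stalkMap f t
  haveI : IsNoetherianRing B := Algebra.EssFiniteType.isNoetherianRing A _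
  haveI : Module.Flat A B := hfl
  haveI : IsNoetherianRing F := isNoetherianRing_of_surjective B F q hqs
  have hd' : 4 * residue A a * residue A c - residue A b ^ 2 ≠ 0 := by
    simpa only [map_sub, map_mul, map_pow, map_ofNat] using hd
  obtain ⟨hresF, hellF, x₀, y₀, hspan, hrel⟩ := exists_approx (K := κ) (F := F) hd' e he
  obtain ⟨x, rfl⟩ := hqs x₀
  obtain ⟨y, rfl⟩ := hqs y₀
  have hqm : (maximalIdeal B).map q = maximalIdeal F := map_maximalIdeal_of_surjective q hqs
  have hkm : RingHom.ker q ≤ maximalIdeal B := IsLocalRing.le_maximalIdeal (RingHom.ker_ne_top q)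
  have hqA : ∀ r : A, q (algebraMap A B r) = algebraMap κ F (residue A r) := hqf
  refine exists_deformation A B (fun z => ?_) a b c hd x y ?_ ?_ fun n => ?_
  · obtain ⟨r, hr⟩ := hresF (q z)
    obtain ⟨r, rfl⟩ := residue_surjective r
    refine ⟨r, ?_⟩
    rw [← hqA, ← map_sub, ← hqm, ← Ideal.mem_comap, Ideal.comap_map_of_surjective _ hqs,
      ← RingHom.ker_eq_comap_bot, sup_eq_left.2 hkm] at hr
    exact hr
  · have h := congrArg (Ideal.comap q) (show (maximalIdeal B).map q = (Ideal.span {x, y}).map q by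
      rw [hqm, Ideal.map_span, Set.image_pair, hspan])
    rw [Ideal.comap_map_of_surjective _ hqs, Ideal.comap_map_of_surjective _ hqs, ← RingHom.ker_eq_comap_bot,
      sup_eq_left.2 hkm, hqk] at h
    exact h
  · show _ ∈ (maximalIdeal A).map (f.stalkMap t).hom ⊔ maximalIdeal B ^ 3
    rw [← hqk, sup_comm, RingHom.ker_eq_comap_bot, ← Ideal.comap_map_of_surjective _ hqs, Ideal.mem_comap,
      Ideal.map_pow, hqm]
    simp only [map_add, map_mul, map_pow]
    rw [← hqA a, ← hqA b, ← hqA c] at hrel
    exact hrel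
  · show ell ((maximalIdeal A).map (f.stalkMap t).hom ⊔ maximalIdeal B ^ (n + 1)) = _
    rw [← hqk, sup_comm, ← ell_map_of_surjective q hqs, Ideal.map_pow, hqm]
    exact hellF n

end Groth.Agent.NodalQ
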