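import Groth.Agent.NodalQ.Openness
import Groth.Agent.S2155

/-!
# Nodal fibres and the locus of smooth points and nodes
-/

set_option autoImplicit false
set_option linter.style.haveILetI false
set_option linter.unusedSectionVars false
set_option backward.isDefEq.respectTransparency false
set_option backward.isDefEq.respectTransparency.types false
set_option maxHeartbeats 1000000

universe u

open CategoryTheory CategoryTheory.Limits AlgebraicGeometry TopologicalSpace

noncomputable section

namespace Groth.Agent.NodalQ

variable {C S : Scheme.{u}} (π : C ⟶ S) [Flat π] [LocallyOfFinitePresentation π]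

theorem exists_smooth_fibre_iff (s : S) (x : π.fiber s) :
    (∃ U : (π.fiber s).Opens, x ∈ U ∧ Smooth (U.ι ≫ π.fiberToSpecResidueField s)) ↔
      ∃ U : C.Opens, π.fiberι s x ∈ U ∧ Smooth (U.ι ≫ π) := by
  haveI : LocallyOfFinitePresentation (π.fiberToSpecResidueField s) :=
    inferInstanceAs (LocallyOfFinitePresentation (pullback.snd π (S.fromSpecResidueField s)))
  rw [exists_smooth_iff, exists_smooth_iff,
    S2155.result π (S.fromSpecResidueField s) (π.fiberToSpecResidueField s) (π.fiberι s)
      (IsPullback.of_hasPullback π (S.fromSpecResidueField s)) (Or.inl inferInstance)]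
  exact Iff.rfl

theorem smoothOrNode_fiberι (p : C) : ∀ (s : S) (x : π.fiber s), π.fiberι s x = p →
    (SmoothOrNode π p ↔ ((∃ U : (π.fiber s).Opens, x ∈ U ∧ Smooth (U.ι ≫ π.fiberToSpecResidueField s)) ∨
      @Curv2.IsNode (S.residueField s) _ (π.fiber s) ⟨π.fiberToSpecResidueField s⟩ x)) := by
  intro s x hx
  have hs : π p = s := by rw [← hx]; exact FibDim.fiber_apply_fiberι π x
  subst hs
  obtain rfl : x = π.asFiber p := (π.fiberι (π p)).isEmbedding.injective (hx.trans (π.fiberι_asFiber p).symm)
  rw [exists_smooth_fibre_iff, π.fiberι_asFiber]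
  rfl

/-- A fibre is at worst nodal iff all its points lie in the locus. -/
theorem atWorstNodal_fibre_iff (hW : IsOpen {x : C | SmoothOrNode π x}) (s : S) :
    (letI : (π.fiber s).Over (Spec (S.residueField s)) := ⟨π.fiberToSpecResidueField s⟩;
      Curv2.AtWorstNodal (S.residueField s) (π.fiber s)) ↔ ∀ p : C, π p = s → SmoothOrNode π p := by
  letI : (π.fiber s).Over (Spec (S.residueField s)) := ⟨π.fiberToSpecResidueField s⟩
  haveI : LocallyOfFiniteType (π.fiberToSpecResidueField s) :=
    inferInstanceAs (LocallyOfFiniteType (pullback.snd π (S.fromSpecResidueField s)))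
  haveI : JacobsonSpace (π.fiber s) := LocallyOfFiniteType.jacobsonSpace (π.fiberToSpecResidueField s)
  refine ⟨fun h p hp => ?_, fun h x _ => (smoothOrNode_fiberι π _ s x rfl).1 (h _ (FibDim.fiber_apply_fiberι π x))⟩
  subst hp
  by_contra hcon
  obtain ⟨y, hy, hyc⟩ := nonempty_inter_closedPoints
    (Z := (π.fiberι (π p) ⁻¹' {x : C | SmoothOrNode π x})ᶜ)
    ⟨π.asFiber p, by simpa using hcon⟩
    ((hW.preimage (π.fiberι (π p)).continuous).isClosed_compl.isLocallyClosed)
  exact hy ((smoothOrNode_fiberι π _ (π p) y rfl).2 (h y hyc))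

end Groth.Agent.NodalQ
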