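import Groth.Agent.Tate.Fitting

/-!
# Fitting ideals of the differentials of a presented algebra are generated by Jacobian minors
-/

set_option autoImplicit false
set_option linter.style.haveILetI false

universe u

open MvPolynomial KaehlerDifferential

noncomputable section

namespace Groth.Agent.NodalQ

variable {A : Type u} [CommRing A] {n m : ℕ} (f : Fin m → MvPolynomial (Fin n) A)
  {B : Type u} [CommRing B] [Algebra A B] (π : MvPolynomial (Fin n) A →ₐ[A] B)

/-- The Jacobian in `B`. -/
def pjac : Matrix (Fin m) (Fin n) B := Matrix.of fun i j => π (pderiv j (f i))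

variable (hsurj : Function.Surjective π) (hker : RingHom.ker π = Ideal.span (Set.range f))

include hsurj hker in
theorem fitting_kaehler (d : ℕ) :
    Fitt.ideal B (Ω[B⁄A]) d = (Ideal.span {e : MvPolynomial (Fin n) A | ∃ (ρ : Fin (n - d) → Fin m) (γ : Fin (n - d) → Fin n),
      Function.Injective ρ ∧ Function.Injective γ ∧
      e = ((Matrix.of fun (j : Fin m) (i : Fin n) => pderiv i (f j)).submatrix ρ γ).det}).map π := by
  classical
  let x : Fin n → Ω[B⁄A] := fun j => D A B (π (X j))
  let R : Submodule B (Fin n → B) := Submodule.span B (Set.range fun i => (pjac f π) i)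
  have hx : Submodule.span B (Set.range x) = ⊤ := by
    rw [eq_top_iff, ← KaehlerDifferential.span_range_derivation A B, Submodule.span_le]
    rintro _ ⟨b, rfl⟩
    obtain ⟨g, rfl⟩ := hsurj b
    rw [SetLike.mem_coe, Tate.D_map]
    exact sum_mem fun j _ => Submodule.smul_mem _ _ (Submodule.subset_span ⟨j, rfl⟩)
  -- the derivation into the cokernel
  let L : MvPolynomial (Fin n) A → (Fin n → B) ⧸ R := fun g =>
    Submodule.Quotient.mk fun j => π (pderiv j g)
  have hLmul : ∀ g h, L (g * h) = π g • L h + π h • L g := fun g h => by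
    simp only [L, ← Submodule.Quotient.mk_smul, ← Submodule.Quotient.mk_add]
    congr 1
    funext j
    simp only [pderiv_mul, map_add, map_mul, Pi.add_apply, Pi.smul_apply, smul_eq_mul]
    ring
  have hLadd : ∀ g h, L (g + h) = L g + L h := fun g h => by
    simp only [L, ← Submodule.Quotient.mk_add]
    congr 1
    funext j
    simp
  have hLker : ∀ g, π g = 0 → L g = 0 := by
    intro g hg
    have hg' : g ∈ Ideal.span (Set.range f) := hker.le (RingHom.mem_ker.mpr hg)
    refine Submodule.span_induction (p := fun z _ => π z = 0 ∧ L z = 0) ?_ ⟨map_zero _, ?_⟩ ?_ ?_ hg' |>.2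
    · rintro _ ⟨i, rfl⟩
      exact ⟨RingHom.mem_ker.mp (hker.ge (Ideal.subset_span ⟨i, rfl⟩)),
        (Submodule.Quotient.mk_eq_zero R).mpr (Submodule.subset_span ⟨i, rfl⟩)⟩
    · exact (Submodule.Quotient.mk_eq_zero R).mpr (by
        simp only [map_zero, Derivation.map_algebraMap]; exact R.zero_mem)
    · intro a b _ _ ha hb; exact ⟨by simp [ha.1, hb.1], by simp [hLadd, ha.2, hb.2]⟩
    · intro r a _ ha; exact ⟨by simp [smul_eq_mul, ha.1], by simp [smul_eq_mul, hLmul, ha.1, ha.2]⟩
  choose s hs using hsurj
  have hLs : ∀ g, L g = L (s (π g)) := by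
    intro g
    have h1 := hLker (g - s (π g)) (by simp [hs])
    have h2 := hLadd (g - s (π g)) (s (π g))
    rw [h1, zero_add, sub_add_cancel] at h2
    exact h2
  have hLC : ∀ (a : A) g, L (C a * g) = a • L g := fun a g => by
    rw [hLmul, ← MvPolynomial.algebraMap_eq, AlgHom.commutes, algebraMap_smul]
    have : L (algebraMap A (MvPolynomial (Fin n) A) a) = 0 :=
      (Submodule.Quotient.mk_eq_zero R).mpr (by
        simp only [map_zero, Derivation.map_algebraMap]; exact R.zero_mem)
    rw [this, smul_zero, add_zero]
  let dl : B →ₗ[A] (Fin n → B) ⧸ R :=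
    { toFun := fun b => L (s b)
      map_add' := fun a b => by rw [← hLadd, hLs (s a + s b), map_add, hs, hs]
      map_smul' := fun a b => by
        rw [RingHom.id_apply, ← hLC, hLs (C a * s b), map_mul, hs, ← MvPolynomial.algebraMap_eq,
          AlgHom.commutes, ← Algebra.smul_def] }
  let d : Derivation A B ((Fin n → B) ⧸ R) := Derivation.mk' dl fun a b => by
    show L (s (a * b)) = a • L (s b) + b • L (s a)
    have h := hLmul (s a) (s b)
    rw [hs, hs, hLs (s a * s b), map_mul, hs, hs] at h
    exact h
  have hdx : ∀ j, d.liftKaehlerDifferential (x j) = Submodule.Quotient.mk (Pi.single j (1 : B)) := by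
    intro j
    rw [Derivation.liftKaehlerDifferential_comp_D]
    show L (s (π (X j))) = _
    rw [← hLs]
    simp only [L]
    congr 1
    funext k
    rcases eq_or_ne j k with rfl | h
    · simp
    · simp [pderiv_X_of_ne h, Pi.single_eq_of_ne h.symm]
  have hrel : FittX.rel (R := B) x = R := by
    refine le_antisymm (fun z hz => ?_) (Submodule.span_le.mpr ?_)
    · have h := congrArg d.liftKaehlerDifferential (FittX.mem_rel.mp hz)
      simp only [map_sum, map_smul, hdx, map_zero, ← Submodule.mkQ_apply] at h
      simp only [← map_smul, ← map_sum] at h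
      rw [← pi_eq_sum_univ' z, Submodule.mkQ_apply, Submodule.Quotient.mk_eq_zero] at h
      exact h
    · rintro _ ⟨i, rfl⟩
      rw [SetLike.mem_coe, FittX.mem_rel]
      have h := Tate.D_map π (f i)
      rw [RingHom.mem_ker.mp (hker.ge (Ideal.subset_span ⟨i, rfl⟩)), map_zero] at h
      exact h.symm
  rw [FittX.ideal_eq_minors x hx, hrel]
  apply le_antisymm
  · refine FittX.minors_le_of_span (FittX.span_proj n) fun φ hφ z hz => ?_
    choose e he using hφ
    choose r hr using hz
    have : FittX.minor φ z = ((pjac f π).submatrix r e).det := by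
      rw [FittX.minor]
      congr 1
      ext b a
      simp [← he a, ← hr b, Matrix.submatrix]
    rw [this]
    by_cases hr' : Function.Injective r
    · by_cases he' : Function.Injective e
      · rw [show ((pjac f π).submatrix r e).det =
            π ((Matrix.of fun (j : Fin m) (i : Fin n) => pderiv i (f j)).submatrix r e).det from (AlgHom.map_det π _).symm]
        exact Ideal.mem_map_of_mem _ (Ideal.subset_span ⟨r, e, hr', he', rfl⟩)
      · obtain ⟨a, a', haa, hne⟩ := Function.not_injective_iff.mp he'
        rw [show ((pjac f π).submatrix r e).det = 0 from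
          Matrix.det_zero_of_column_eq hne fun b => by simp only [Matrix.submatrix_apply, haa]]
        exact Ideal.zero_mem _
    · obtain ⟨a, a', haa, hne⟩ := Function.not_injective_iff.mp hr'
      rw [show ((pjac f π).submatrix r e).det = 0 from
        Matrix.det_zero_of_row_eq hne (funext fun b => by simp only [Matrix.submatrix_apply, haa])]
      exact Ideal.zero_mem _
  · rw [Ideal.map_le_iff_le_comap, Ideal.span_le]
    rintro _ ⟨ρ, γ, -, -, rfl⟩
    rw [SetLike.mem_coe, Ideal.mem_comap, AlgHom.map_det π]
    exact FittX.minor_mem (fun a => (LinearMap.proj (γ a) : Module.Dual B (Fin n → B)))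
      (z := fun i => pjac f π (ρ i)) fun i => Submodule.subset_span ⟨ρ i, rfl⟩

end Groth.Agent.NodalQ
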