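import Groth.Agent.NodalQ.Completion
import Mathlib.RingTheory.MvPowerSeries.Derivative
import Mathlib.LinearAlgebra.Matrix.SchurComplement

/-!
# Minors of a Jacobian matrix near corank two

For a system of power series whose linear parts have corank two, the minors of size `n - 1` of the Jacobian
matrix generate, modulo the system and the square of the maximal ideal, the ideal of the derivatives of the
system along the two kernel directions.
-/

set_option autoImplicit false
set_option linter.style.haveILetI false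
set_option linter.unusedSectionVars false
set_option backward.isDefEq.respectTransparency false
set_option backward.isDefEq.respectTransparency.types false
set_option maxHeartbeats 1000000

universe u

open IsLocalRing Matrix

noncomputable section

namespace Groth.Agent.NodalQ

section Linear

/-- A determinant through a space of smaller size vanishes. -/
theorem det_mul_eq_zero_of_card_lt {S : Type*} [CommRing S] {ι κ : Type*} [Fintype ι] [DecidableEq ι] [Fintype κ]
    (h : Fintype.card κ < Fintype.card ι) (A : Matrix ι κ S) (B : Matrix κ ι S) : (A * B).det = 0 := by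
  classical
  obtain ⟨φ⟩ : Nonempty (κ ↪ ι) := Function.Embedding.nonempty_of_card_le h.le
  obtain ⟨i₀, hi₀⟩ : ∃ i₀, i₀ ∉ Set.range φ := by
    by_contra! hall
    exact absurd (Fintype.card_le_of_surjective φ hall) h.not_ge
  let A' : Matrix ι ι S := fun i i' => Function.extend φ (A i) 0 i'
  let B' : Matrix ι ι S := fun i' j => Function.extend φ (fun l => B l j) 0 i'
  have hAB : A * B = A' * B' := by
    ext i j
    rw [Matrix.mul_apply, Matrix.mul_apply]
    refine Fintype.sum_of_injective φ φ.injective _ _ (fun i' hi' => ?_) fun l => ?_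
    · simp only [A', Function.extend_apply' _ _ _ hi', Pi.zero_apply, zero_mul]
    · simp only [A', B', φ.injective.extend_apply]
  rw [hAB, det_mul, det_eq_zero_of_column_eq_zero (A := A') i₀ fun i => ?_, zero_mul]
  simp only [A', Function.extend_apply' _ _ _ hi₀, Pi.zero_apply]

variable {S : Type*} [CommRing S] {ι : Type*} [Fintype ι] [DecidableEq ι]

theorem det_mem_sq {M : Matrix ι ι S} {J : Ideal S} {p q : ι} (hpq : p ≠ q) (hp : ∀ i, M i p ∈ J)
    (hq : ∀ i, M i q ∈ J) : M.det ∈ J ^ 2 := by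
  rw [det_apply']
  refine Ideal.sum_mem _ fun σ _ => Ideal.mul_mem_left _ _ ?_
  rw [← Finset.prod_sdiff (Finset.subset_univ {p, q}), Finset.prod_pair hpq, sq]
  exact Ideal.mul_mem_left _ _ (Ideal.mul_mem_mul (hp _) (hq _))

end Linear

section Field

variable {K : Type*} [Field K]

/-- An injective matrix has an invertible square submatrix of rows. -/
theorem exists_rows {m : ℕ} {d : Type} [Fintype d] [DecidableEq d] (N : Matrix (Fin m) d K)
    (hN : ∀ u, N *ᵥ u = 0 → u = 0) :
    ∃ ρ : d → Fin m, Function.Injective ρ ∧ IsUnit (N.submatrix ρ id).det := by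
  have hinj : Function.Injective N.mulVecLin := (injective_iff_map_eq_zero _).2 fun u hu => hN u hu
  have hrank : N.rank = Fintype.card d := by
    rw [Matrix.rank, LinearMap.finrank_range_of_inj hinj, Module.finrank_fintype_fun_eq_card]
  obtain ⟨ι, a, ha, hspan, hli⟩ := exists_linearIndependent' K N.row
  haveI : Finite ι := Finite.of_injective a ha
  haveI := Fintype.ofFinite ι
  have hcard : Fintype.card ι = Fintype.card d := by
    rw [← finrank_span_eq_card hli, hspan, ← rank_eq_finrank_span_row, hrank]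
  let e := (Fintype.equivOfCardEq hcard).symm
  refine ⟨a ∘ e, ha.comp e.injective, (Matrix.isUnit_iff_isUnit_det _).1 ?_⟩
  exact linearIndependent_rows_iff_isUnit.1 (hli.comp e e.injective)

/-- A subspace of dimension at least two has two coordinates with a dual pair. -/
theorem exists_two_coords {ι : Type*} [Fintype ι] (W : Submodule K (ι → K)) (h : 2 ≤ Module.finrank K W) :
    ∃ p q, p ≠ q ∧ ∃ e ∈ W, ∃ e' ∈ W, e p = 1 ∧ e q = 0 ∧ e' p = 0 ∧ e' q = 1 := by
  classical
  obtain ⟨v, hv, hv0⟩ : ∃ v ∈ W, v ≠ 0 := by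
    refine W.exists_mem_ne_zero_of_ne_bot ?_
    rintro rfl
    simp at h
  obtain ⟨p, hp⟩ : ∃ p, v p ≠ 0 := Function.ne_iff.1 hv0
  obtain ⟨w, hw, hwv⟩ : ∃ w ∈ W, w ∉ K ∙ v := by
    by_contra! hall
    have := (Submodule.finrank_mono (show W ≤ K ∙ v from hall)).trans (finrank_span_singleton hv0).le
    omega
  let w' := w - (w p / v p) • v
  have hw' : w' ∈ W := W.sub_mem hw (W.smul_mem _ hv)
  have hw'p : w' p = 0 := by simp [w', div_mul_cancel₀ _ hp]
  obtain ⟨q, hq⟩ : ∃ q, w' q ≠ 0 := Function.ne_iff.1 fun h0 => hwv <| by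
    rw [show w = (w p / v p) • v from sub_eq_zero.1 h0]
    exact Submodule.smul_mem _ _ (Submodule.mem_span_singleton_self v)
  have hpq : p ≠ q := fun h => hq (h ▸ hw'p)
  refine ⟨p, q, hpq, (v p)⁻¹ • (v - (v q / w' q) • w'), W.smul_mem _ (W.sub_mem hv (W.smul_mem _ hw')),
    (w' q)⁻¹ • w', W.smul_mem _ hw', ?_, ?_, ?_, ?_⟩
  · simp [hw'p, hp]
  · simp [div_mul_cancel₀ _ hq]
  · simp [hw'p]
  · simp [hq]

end Field

section Socle

variable {R : Type u} [CommRing R] [IsLocalRing R] (hsoc : ∀ z : R, (∀ t ∈ maximalIdeal R, t * z = 0) → z = 0)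
include hsoc

theorem eq_zero_of_pow_mul_of_socle (n : ℕ) (z : R) (h : ∀ t ∈ maximalIdeal R ^ n, t * z = 0) : z = 0 := by
  induction n generalizing z with
  | zero => simpa using h 1 (by simp)
  | succ n ih =>
    refine ih z fun t ht => hsoc _ fun r hr => ?_
    rw [← mul_assoc]
    exact h _ (by rw [pow_succ']; exact Ideal.mul_mem_mul hr ht)

theorem isPrincipal_of_pow_of_socle (n : ℕ) {f : R}
    (hf : maximalIdeal R ^ (n + 1) = Ideal.span {f}) : (maximalIdeal R).IsPrincipal := by
  have hfreg : ∀ z, f * z = 0 → z = 0 := fun z hz => eq_zero_of_pow_mul_of_socle hsoc (n + 1) z fun t ht => by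
    rw [hf, Ideal.mem_span_singleton'] at ht
    obtain ⟨c, rfl⟩ := ht
    rw [mul_assoc, hz, mul_zero]
  obtain ⟨a, ha, b, hb, c, hc, hab⟩ :
      ∃ a ∈ maximalIdeal R, ∃ b ∈ maximalIdeal R ^ n, ∃ c, IsUnit c ∧ a * b = c * f := by
    by_contra! hcon
    have hle : maximalIdeal R * maximalIdeal R ^ n ≤ maximalIdeal R * Ideal.span {f} := Ideal.mul_le.2 fun a ha b hb => by
      have hab : a * b ∈ Ideal.span {f} := hf ▸ (pow_succ' (maximalIdeal R) n).symm ▸ Ideal.mul_mem_mul ha hb
      obtain ⟨c, hc⟩ := Ideal.mem_span_singleton'.1 hab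
      rw [← hc]
      refine Ideal.mul_mem_mul ((mem_maximalIdeal c).2 fun hcu => hcon a ha b hb c hcu hc.symm) ?_
      exact Ideal.mem_span_singleton_self f
    have hfm : f ∈ maximalIdeal R * Ideal.span {f} :=
      hle (by rw [← pow_succ', hf]; exact Ideal.mem_span_singleton_self f)
    obtain ⟨t, ht, htf⟩ := Ideal.mem_mul_span_singleton.1 hfm
    have hu : IsUnit (1 - t) := IsLocalRing.isUnit_one_sub_self_of_mem_nonunits _ ht
    have hf0 : f = 0 := hu.mul_right_eq_zero.1 (by linear_combination -htf)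
    exact one_ne_zero (hfreg 1 (by rw [hf0, zero_mul]))
  obtain ⟨v, hv⟩ := hc.exists_left_inv
  refine ⟨a, le_antisymm (fun z hz => ?_) (Ideal.span_le.2 (Set.singleton_subset_iff.2 ha))⟩
  have hzb : z * b ∈ Ideal.span {f} := hf ▸ (pow_succ' (maximalIdeal R) n).symm ▸ Ideal.mul_mem_mul hz hb
  obtain ⟨r, hr⟩ := Ideal.mem_span_singleton'.1 hzb
  refine Ideal.mem_span_singleton'.2 ⟨r * v, ?_⟩
  refine sub_eq_zero.1 (hfreg _ ?_)
  linear_combination v * a * hr + v * z * hab + z * f * hv

variable [IsNoetherianRing R]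

/-- Derivatives of relations which generate the maximal ideal come from a nondegenerate relation. -/
theorem exists_nondeg {U V : R} (hspan : Ideal.span {U, V} = maximalIdeal R)
    (hind : ∀ s t : R, s * U + t * V ∈ maximalIdeal R ^ 2 → s ∈ maximalIdeal R ∧ t ∈ maximalIdeal R)
    {ι : Type*} (a b c : ι → R) (hrel : ∀ j, a j * U ^ 2 + b j * U * V + c j * V ^ 2 ∈ maximalIdeal R ^ 3)
    (hgen : maximalIdeal R ≤ Ideal.span (Set.range (fun j => 2 * a j * U + b j * V) ∪
      Set.range (fun j => b j * U + 2 * c j * V)) ⊔ maximalIdeal R ^ 2) :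
    ∃ a' b' c' : R, residue R (4 * a' * c' - b' ^ 2) ≠ 0 ∧
      a' * U ^ 2 + b' * U * V + c' * V ^ 2 ∈ maximalIdeal R ^ 3 := by
  by_contra! hall
  have hdeg : ∀ j, 4 * a j * c j - b j ^ 2 ∈ maximalIdeal R := fun j => by
    by_contra h
    exact hall (a j) (b j) (c j) (fun h0 => h ((residue_eq_zero_iff _).1 h0)) (hrel j)
  have hnm : ¬ maximalIdeal R ≤ maximalIdeal R ^ 2 := fun h =>
    (mem_maximalIdeal _).1 (hind 1 0 (by rw [one_mul, zero_mul, add_zero]; exact h (x_mem hspan))).1 isUnit_one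
  have hUm := x_mem hspan
  have hVm := y_mem hspan
  have h2 : ∀ {u v : R}, u ∈ maximalIdeal R → v ∈ maximalIdeal R → u * v ∈ maximalIdeal R ^ 2 := fun hu hv => by
    rw [sq]; exact Ideal.mul_mem_mul hu hv
  obtain ⟨j₀, hj₀⟩ : ∃ j, IsUnit (a j) ∨ IsUnit (c j) := by
    by_contra! hno
    refine hnm (hgen.trans (sup_le (Ideal.span_le.2 ?_) le_rfl))
    have hb : ∀ j, b j ∈ maximalIdeal R := fun j => by
      refine (maximalIdeal.isMaximal R).isPrime.mem_of_pow_mem 2 ?_
      rw [show b j ^ 2 = 4 * c j * a j - (4 * a j * c j - b j ^ 2) by ring]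
      exact sub_mem (Ideal.mul_mem_left _ _ ((mem_maximalIdeal _).2 (hno j).1)) (hdeg j)
    rintro _ (⟨j, rfl⟩ | ⟨j, rfl⟩)
    · exact add_mem (h2 (Ideal.mul_mem_left _ 2 ((mem_maximalIdeal _).2 (hno j).1)) hUm) (h2 (hb j) hVm)
    · exact add_mem (h2 (hb j) hUm) (h2 (Ideal.mul_mem_left _ 2 ((mem_maximalIdeal _).2 (hno j).2)) hVm)
  suffices key : ∀ {U V : R} (a b c : ι → R), Ideal.span {U, V} = maximalIdeal R →
      (∀ s t : R, s * U + t * V ∈ maximalIdeal R ^ 2 → s ∈ maximalIdeal R ∧ t ∈ maximalIdeal R) →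
      (∀ j, a j * U ^ 2 + b j * U * V + c j * V ^ 2 ∈ maximalIdeal R ^ 3) →
      (∀ j, 4 * a j * c j - b j ^ 2 ∈ maximalIdeal R) → IsUnit (a j₀) →
      maximalIdeal R ≤ Ideal.span (Set.range (fun j => 2 * a j * U + b j * V) ∪
        Set.range (fun j => b j * U + 2 * c j * V)) ⊔ maximalIdeal R ^ 2 → False by
    rcases hj₀ with hu | hu
    · exact key a b c hspan hind hrel hdeg hu hgen
    · refine key (U := V) (V := U) c b a (by rw [Set.pair_comm, hspan])
        (fun s t h => (hind t s (by rwa [add_comm])).symm) (fun j => ?_) (fun j => ?_) hu ?_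
      · rw [show c j * V ^ 2 + b j * V * U + a j * U ^ 2 = a j * U ^ 2 + b j * U * V + c j * V ^ 2 by ring]
        exact hrel j
      · rw [show 4 * c j * a j - b j ^ 2 = 4 * a j * c j - b j ^ 2 by ring]
        exact hdeg j
      · rw [Set.union_comm, show (fun j => b j * V + 2 * a j * U) = fun j => 2 * a j * U + b j * V from
          funext fun j => add_comm _ _, show (fun j => 2 * c j * V + b j * U) = fun j => b j * U + 2 * c j * V from
          funext fun j => add_comm _ _]
        exact hgen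
  clear hgen hrel hdeg hj₀ hall hspan hind hnm hUm hVm h2 a b c U V
  intro U V a b c hspan hind hrel hdeg ha hgen
  have hUm := x_mem hspan
  have hVm := y_mem hspan
  have h2 : ∀ {u v : R}, u ∈ maximalIdeal R → v ∈ maximalIdeal R → u * v ∈ maximalIdeal R ^ 2 := fun hu hv => by
    rw [sq]; exact Ideal.mul_mem_mul hu hv
  have hnp : ¬ (maximalIdeal R).IsPrincipal := by
    rintro ⟨g, hg⟩
    obtain ⟨s, hs⟩ := Ideal.mem_span_singleton'.1 (show U ∈ Ideal.span {g} from hg.le hUm)
    obtain ⟨t, ht⟩ := Ideal.mem_span_singleton'.1 (show V ∈ Ideal.span {g} from hg.le hVm)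
    obtain ⟨ht', hs'⟩ := hind t (-s) (by rw [← hs, ← ht, show t * (s * g) + -s * (t * g) = 0 by ring]; exact zero_mem _)
    have hgm : g ∈ maximalIdeal R := hg.symm ▸ Ideal.mem_span_singleton_self g
    exact (mem_maximalIdeal _).1 (hind 1 0 (by
      rw [one_mul, zero_mul, add_zero, ← hs]; exact h2 (by simpa using hs') hgm)).1 isUnit_one
  have hx2 := mul_self_mem_of_rel hspan ha (hrel j₀)
  obtain ⟨v, hv⟩ := ha.exists_left_inv
  have hred : ∀ j, b j - a j * v * b j₀ ∈ maximalIdeal R ∧ c j - a j * v * c j₀ ∈ maximalIdeal R := by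
    intro j
    set β := b j - a j * v * b j₀
    set γ := c j - a j * v * c j₀
    have hβγ : β * (U * V) + γ * (V * V) ∈ maximalIdeal R ^ 3 := by
      rw [show β * (U * V) + γ * (V * V) = (a j * U ^ 2 + b j * U * V + c j * V ^ 2) -
        a j * v * (a j₀ * U ^ 2 + b j₀ * U * V + c j₀ * V ^ 2) by
          simp only [β, γ]; linear_combination (a j * U ^ 2) * hv]
      exact sub_mem (hrel j) (Ideal.mul_mem_left _ _ (hrel j₀))
    have hcase : ∀ {s t u w : R}, IsUnit s → s * u + t * w ∈ maximalIdeal R ^ 3 →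
        maximalIdeal R ^ 2 = Ideal.span {u, w} → False := by
      intro s t u w hs h hm2
      refine hnp (isPrincipal_of_pow_of_socle hsoc 1 (f := w) (le_antisymm ?_ ?_))
      · refine Submodule.le_of_le_smul_of_le_jacobson_bot (I := maximalIdeal R) (IsNoetherian.noetherian _)
          (maximalIdeal_le_jacobson _) ?_
        rw [smul_eq_mul, ← pow_succ', hm2, Ideal.span_le]
        rintro z (hz | hz) <;> rw [hz]
        · refine (Ideal.unit_mul_mem_iff_mem _ hs).1 ?_
          rw [show s * u = -t * w + (s * u + t * w) by ring]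
          exact Submodule.add_mem_sup (Ideal.mem_span_singleton'.2 ⟨-t, rfl⟩) h
        · exact Submodule.mem_sup_left (Ideal.mem_span_singleton_self w)
      · rw [show (1 + 1 : ℕ) = 2 from rfl, hm2]
        exact Ideal.span_mono (by simp)
    have hm2 : maximalIdeal R ^ 2 = Ideal.span {U * V, V * V} := by
      rw [show (2 : ℕ) = 1 + 1 from rfl, pow_eq hspan hx2 1, pow_one, show V ^ (1 + 1) = V * V from sq V]
    refine ⟨(mem_maximalIdeal _).2 fun hu => hcase hu hβγ hm2, (mem_maximalIdeal _).2 fun hu => ?_⟩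
    exact hcase hu (by rwa [add_comm]) (by rw [hm2, Set.pair_comm])
  set L₁ := 2 * a j₀ * U + b j₀ * V
  set L₂ := b j₀ * U + 2 * c j₀ * V
  have hgen' : maximalIdeal R ≤ Ideal.span {L₁, L₂} ⊔ maximalIdeal R ^ 2 := by
    refine hgen.trans (sup_le (Ideal.span_le.2 ?_) le_sup_right)
    rintro _ (⟨j, rfl⟩ | ⟨j, rfl⟩)
    · show 2 * a j * U + b j * V ∈ _
      rw [show 2 * a j * U + b j * V = a j * v * L₁ + (b j - a j * v * b j₀) * V by
        simp only [L₁]; linear_combination (-2 * a j * U) * hv]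
      exact Submodule.add_mem_sup (Ideal.mem_span_pair.2 ⟨a j * v, 0, by ring⟩) (h2 (hred j).1 hVm)
    · show b j * U + 2 * c j * V ∈ _
      rw [show b j * U + 2 * c j * V = a j * v * L₂ +
        ((b j - a j * v * b j₀) * U + 2 * (c j - a j * v * c j₀) * V) by simp only [L₂]; ring]
      exact Submodule.add_mem_sup (Ideal.mem_span_pair.2 ⟨0, a j * v, by ring⟩)
        (add_mem (h2 (hred j).1 hUm) (h2 (Ideal.mul_mem_left _ _ (hred j).2) hVm))
  by_cases h2u : IsUnit (2 * a j₀)
  · refine hnp ⟨L₁, le_antisymm (PSQuad.maximalIdeal_le_of_le_sup_sq (hgen'.trans (sup_le (Ideal.span_le.2 ?_) le_sup_right))) ?_⟩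
    · rintro z (hz | hz) <;> rw [hz]
      · exact Submodule.mem_sup_left (Ideal.mem_span_singleton_self _)
      · refine (Ideal.unit_mul_mem_iff_mem _ h2u).1 ?_
        rw [show 2 * a j₀ * L₂ = b j₀ * L₁ + (4 * a j₀ * c j₀ - b j₀ ^ 2) * V by simp only [L₁, L₂]; ring]
        exact Submodule.add_mem_sup (Ideal.mem_span_singleton'.2 ⟨_, rfl⟩) (h2 (hdeg j₀) hVm)
    · rw [← hspan, Ideal.span_le, Set.singleton_subset_iff]
      exact Ideal.mem_span_pair.2 ⟨_, _, rfl⟩
  · have h2m : (2 : R) ∈ maximalIdeal R := (mem_maximalIdeal _).2 fun h => h2u (h.mul ha)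
    have hb : b j₀ ∈ maximalIdeal R := by
      refine (maximalIdeal.isMaximal R).isPrime.mem_of_pow_mem 2 ?_
      rw [show b j₀ ^ 2 = 2 * (2 * a j₀ * c j₀) - (4 * a j₀ * c j₀ - b j₀ ^ 2) by ring]
      exact sub_mem (Ideal.mul_mem_right _ _ h2m) (hdeg j₀)
    have hle : Ideal.span {L₁, L₂} ≤ maximalIdeal R ^ 2 := by
      rw [Ideal.span_le]
      rintro z (hz | hz) <;> rw [hz]
      · exact add_mem (h2 (Ideal.mul_mem_right _ _ h2m) hUm) (h2 hb hVm)
      · exact add_mem (h2 hb hUm) (h2 (Ideal.mul_mem_right _ _ h2m) hVm)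
    exact (mem_maximalIdeal _).1 (hind 1 0 (by
      rw [one_mul, zero_mul, add_zero]; exact (sup_le hle le_rfl) (hgen' hUm))).1 isUnit_one

end Socle

/-- The nondegenerate relation in any pair of independent generators. -/
theorem exists_rel_of_qcrit {R : Type u} [CommRing R] [IsLocalRing R] (h : QCrit R) {U V : R}
    (hspan : Ideal.span {U, V} = maximalIdeal R) :
    ∃ a b c : R, residue R (4 * a * c - b ^ 2) ≠ 0 ∧ a * U ^ 2 + b * U * V + c * V ^ 2 ∈ maximalIdeal R ^ 3 := by
  have hl := h.ell_two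
  obtain ⟨x, y, a, b, c, hxy, hdisc, hrel, -⟩ := h
  obtain ⟨p, r, hpr⟩ := Ideal.mem_span_pair.1 (hspan.symm ▸ x_mem hxy : x ∈ Ideal.span {U, V})
  obtain ⟨s, t, hst⟩ := Ideal.mem_span_pair.1 (hspan.symm ▸ y_mem hxy : y ∈ Ideal.span {U, V})
  have hD : p * t - r * s ∉ maximalIdeal R := by
    intro hD
    have key : ∀ {u v : R}, u * x + v * y ∈ maximalIdeal R ^ 2 → u ∈ maximalIdeal R ∧ v ∈ maximalIdeal R :=
      fun h => indep_of_span hxy hl h
    obtain ⟨ht, hr⟩ := key (u := t) (v := -r) (by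
      rw [show t * x + -r * y = (p * t - r * s) * U by rw [← hpr, ← hst]; ring, sq]
      exact Ideal.mul_mem_mul hD (x_mem hspan))
    obtain ⟨hs, hp⟩ := key (u := s) (v := -p) (by
      rw [show s * x + -p * y = (p * t - r * s) * -V by rw [← hpr, ← hst]; ring, sq]
      exact Ideal.mul_mem_mul hD (neg_mem (y_mem hspan)))
    refine (mem_maximalIdeal _).1 (key (u := 1) (v := 0) ?_).1 isUnit_one
    rw [one_mul, zero_mul, add_zero, ← hpr, sq]
    exact add_mem (Ideal.mul_mem_mul (by simpa using hp) (x_mem hspan))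
      (Ideal.mul_mem_mul (by simpa using hr) (y_mem hspan))
  refine ⟨a * p ^ 2 + b * p * s + c * s ^ 2, 2 * a * p * r + b * (p * t + r * s) + 2 * c * s * t,
    a * r ^ 2 + b * r * t + c * t ^ 2, ?_, ?_⟩
  · rw [show 4 * (a * p ^ 2 + b * p * s + c * s ^ 2) * (a * r ^ 2 + b * r * t + c * t ^ 2) -
      (2 * a * p * r + b * (p * t + r * s) + 2 * c * s * t) ^ 2 = (p * t - r * s) ^ 2 * (4 * a * c - b ^ 2) by ring,
      map_mul, map_pow]
    exact mul_ne_zero (pow_ne_zero _ fun h0 => hD ((residue_eq_zero_iff _).1 h0)) hdisc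
  · rw [show (a * p ^ 2 + b * p * s + c * s ^ 2) * U ^ 2 +
      (2 * a * p * r + b * (p * t + r * s) + 2 * c * s * t) * U * V + (a * r ^ 2 + b * r * t + c * t ^ 2) * V ^ 2 =
      a * x ^ 2 + b * x * y + c * y ^ 2 by rw [← hpr, ← hst]; ring]
    exact hrel

end Groth.Agent.NodalQ
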