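import Groth.Agent.NodalQ.Minors
import Groth.Agent.CILib.Basic
import Groth.Agent.LC.ExtDim
import Groth.Agent.Alg6.AssDepth
import Groth.Agent.S7137

/-!
# Nodes of a quotient of a power series ring, read off from the Jacobian minors
-/

set_option autoImplicit false
set_option linter.style.haveILetI false
set_option linter.unusedSectionVars false
set_option backward.isDefEq.respectTransparency false
set_option backward.isDefEq.respectTransparency.types false
set_option maxHeartbeats 1000000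

universe u

open IsLocalRing Matrix MvPowerSeries Groth.Agent.NodalLib

noncomputable section

namespace Groth.Agent.NodalQ

variable {k : Type u} [Field k] {n m : ℕ} (f : Fin m → MvPowerSeries (Fin n) k)

local notation "A" => MvPowerSeries (Fin n) k
local notation "𝔪" => maximalIdeal (MvPowerSeries (Fin n) k)
local notation "ℛ" => MvPowerSeries (Fin n) k ⧸ Ideal.span (Set.range f)
local notation "π" => Ideal.Quotient.mk (Ideal.span (Set.range f))

instance isNoetherianRing_ps : IsNoetherianRing A := by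
  obtain ⟨hN, -, -⟩ := CohenLib.isRegular_complete_mvPowerSeries (Λ := k) (Or.inl (Field.toIsField k)) n
  exact hN

variable (hf : ∀ j, f j ∈ maximalIdeal (MvPowerSeries (Fin n) k))
include hf

theorem isLocalRing_quot : IsLocalRing ℛ :=
  haveI : Nontrivial ℛ := Ideal.Quotient.nontrivial_iff.2 fun h =>
    (maximalIdeal.isMaximal A).ne_top (top_le_iff.1 (h ▸ span_le_max f hf))
  IsLocalRing.of_surjective' π Ideal.Quotient.mk_surjective

variable [IsLocalRing (MvPowerSeries (Fin n) k ⧸ Ideal.span (Set.range f))]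

theorem map_max : (𝔪).map π = maximalIdeal ℛ := map_maximalIdeal_of_surjective π Ideal.Quotient.mk_surjective

theorem mem_of_mk_mem_pow {g : A} {N : ℕ} (h : π g ∈ maximalIdeal ℛ ^ N) :
    g ∈ Ideal.span (Set.range f) ⊔ 𝔪 ^ N := by
  rw [← map_max f hf, ← Ideal.map_pow, ← Ideal.mem_comap,
    Ideal.comap_map_of_surjective π Ideal.Quotient.mk_surjective, ← RingHom.ker_eq_comap_bot, Ideal.mk_ker] at h
  rwa [sup_comm]

theorem mk_mem_pow {g : A} {N : ℕ} (h : g ∈ Ideal.span (Set.range f) ⊔ 𝔪 ^ N) : π g ∈ maximalIdeal ℛ ^ N := by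
  rw [← map_max f hf, ← Ideal.map_pow]
  have := Ideal.mem_map_of_mem π h
  rwa [Ideal.map_sup, Ideal.map_quotient_self, bot_sup_eq] at this

theorem exists_coord (hn : 0 < n) (h : Module.finrank k (kerLin f) ≤ 1) :
    ∃ i₁ : Fin n, ∀ w ∈ kerLin f, w i₁ = 0 → w = 0 := by
  rcases eq_or_ne (kerLin f) ⊥ with h0 | h0
  · exact ⟨⟨0, hn⟩, fun w hw _ => (Submodule.mem_bot k).1 (h0 ▸ hw)⟩
  obtain ⟨v, hv, hv0⟩ := Submodule.exists_mem_ne_zero_of_ne_bot h0
  obtain ⟨i, hi⟩ : ∃ i, v i ≠ 0 := Function.ne_iff.1 hv0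
  refine ⟨i, fun w hw hwi => ?_⟩
  obtain ⟨⟨v₀, hv₀m⟩, hv₀⟩ := finrank_le_one_iff.1 h
  obtain ⟨c₀, hc₀⟩ := hv₀ ⟨v, hv⟩
  obtain ⟨c, hc⟩ := hv₀ ⟨w, hw⟩
  have hc₀' : c₀ • v₀ = v := congrArg Subtype.val hc₀
  have hc' : c • v₀ = w := congrArg Subtype.val hc
  have hi' : v₀ i ≠ 0 := fun h0 => hi (by rw [← hc₀', Pi.smul_apply, h0, smul_zero])
  have : c = 0 := by
    have := congrFun hc' i
    simpa [hwi, hi'] using this
  rw [← hc', this, zero_smul]

theorem minors_eq_top_of_le_one (h : Module.finrank k (kerLin f) ≤ 1) : minors f = ⊤ := by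
  rcases Nat.eq_zero_or_pos n with rfl | hn
  · haveI : IsEmpty (Fin (0 - 1)) := ⟨fun a => absurd a.2 (by simp)⟩
    exact Ideal.eq_top_of_isUnit_mem _ (minor_mem f Fin.elim0 Fin.elim0 (fun a => a.elim0) fun a => a.elim0)
      (by rw [Matrix.det_isEmpty]; exact isUnit_one)
  obtain ⟨i₁, hi₁⟩ := exists_coord f hf hn h
  exact minors_eq_top_of_small f hf i₁ hi₁

theorem isPrincipal_of_le_one (h : Module.finrank k (kerLin f) ≤ 1) : (maximalIdeal ℛ).IsPrincipal := by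
  classical
  obtain ⟨S, hS, z, hz⟩ : ∃ S : Finset (Fin n), (∀ w ∈ kerLin f, (∀ i ∈ S, w i = 0) → w = 0) ∧
      ∃ z : ℛ, ∀ i ∈ S, π (X i) = z := by
    rcases Nat.eq_zero_or_pos n with rfl | hn
    · exact ⟨∅, fun w _ _ => funext fun i => i.elim0, 0, by simp⟩
    obtain ⟨i₁, hi₁⟩ := exists_coord f hf hn h
    exact ⟨{i₁}, fun w hw h => hi₁ w hw (h _ (Finset.mem_singleton_self _)), π (X i₁), by simp⟩
  obtain ⟨hmax, -⟩ := max_le_of_coords f hf S hS
  have h1 : maximalIdeal ℛ ≤ (Ideal.span {z} ⊓ maximalIdeal ℛ) ⊔ maximalIdeal ℛ ^ 2 := by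
    conv_lhs => rw [← map_max f hf]
    refine (Ideal.map_mono hmax).trans ?_
    rw [Ideal.map_sup, Ideal.map_sup, Ideal.map_quotient_self, bot_sup_eq, Ideal.map_pow, map_max f hf]
    refine sup_le_sup_right (Ideal.map_le_iff_le_comap.2 (Ideal.span_le.2 ?_)) _
    rintro _ ⟨i, hi, rfl⟩
    refine ⟨?_, ?_⟩
    · show π (X i) ∈ Ideal.span {z}
      rw [hz i hi]
      exact Ideal.mem_span_singleton_self _
    · show π (X i) ∈ maximalIdeal ℛ
      rw [← map_max f hf]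
      exact Ideal.mem_map_of_mem _ (X_mem i)
  rcases Finset.eq_empty_or_nonempty S with rfl | ⟨i, hi⟩
  · have h0 : maximalIdeal ℛ ≤ (⊥ : Ideal ℛ) := by
      refine PSQuad.maximalIdeal_le_of_le_sup_sq ?_
      conv_lhs => rw [← map_max f hf]
      refine (Ideal.map_mono hmax).trans ?_
      rw [Finset.coe_empty, Set.image_empty, Ideal.span_empty, bot_sup_eq, Ideal.map_sup, Ideal.map_quotient_self,
        Ideal.map_pow, map_max f hf]
    exact ⟨⟨0, by simpa using le_bot_iff.1 h0⟩⟩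
  · refine ⟨⟨z, le_antisymm ((PSQuad.maximalIdeal_le_of_le_sup_sq h1).trans inf_le_left) ?_⟩⟩
    rw [Ideal.submodule_span_eq, Ideal.span_le, Set.singleton_subset_iff, SetLike.mem_coe, ← hz i hi, ← map_max f hf]
    exact Ideal.mem_map_of_mem _ (X_mem i)

theorem dv_error_mem {w : Fin n → k} (hw : w ∈ kerLin f) {r : A}
    (hr : r ∈ Ideal.span (Set.range f) * 𝔪 ⊔ 𝔪 ^ 3) : π (dv w r) ∈ maximalIdeal ℛ ^ 2 := by
  refine mk_mem_pow f hf ?_
  obtain ⟨a, ha, b, hb, rfl⟩ := Submodule.mem_sup.1 hr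
  rw [dv_add]
  refine add_mem ?_ (Submodule.mem_sup_right (dv_pow_mem w 2 hb))
  refine Submodule.mul_induction_on ha (fun x hx y hy => ?_) fun x y hx hy => ?_
  · rw [dv_mul]
    refine add_mem (Submodule.mem_sup_left (Ideal.mul_mem_right _ _ hx)) (Submodule.mem_sup_right ?_)
    rw [sq]
    exact Ideal.mul_mem_mul hy (dv_span_mem f hf hw (Submodule.mem_sup_left hx))
  · rw [dv_add]; exact add_mem hx hy

/-- Coordinates adapted to a two-dimensional kernel. -/
structure Frame where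
  p : Fin n
  q : Fin n
  e : Fin n → k
  e' : Fin n → k
  hpq : p ≠ q
  he : e ∈ kerLin f
  he' : e' ∈ kerLin f
  hep : e p = 1
  heq : e q = 0
  he'p : e' p = 0
  he'q : e' q = 1
  hS : ∀ w ∈ kerLin f, w p = 0 → w q = 0 → w = 0

theorem nonempty_frame (h : Module.finrank k (kerLin f) = 2) : Nonempty (Frame f) := by
  obtain ⟨p, q, hpq, e, he, e', he', hep, heq, he'p, he'q⟩ := exists_two_coords (kerLin f) h.ge
  let φ : kerLin f →ₗ[k] k × k :=
    ((LinearMap.proj p).comp (kerLin f).subtype).prod ((LinearMap.proj q).comp (kerLin f).subtype)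
  have hsur : Function.Surjective φ := fun ⟨s, t⟩ => ⟨s • ⟨e, he⟩ + t • ⟨e', he'⟩, by simp [φ, hep, heq, he'p, he'q]⟩
  have hinj : Function.Injective φ :=
    (LinearMap.injective_iff_surjective_of_finrank_eq_finrank (by rw [h, Module.finrank_prod, Module.finrank_self])).2 hsur
  exact ⟨⟨p, q, e, e', hpq, he, he', hep, heq, he'p, he'q, fun w hw h1 h2 =>
    congrArg Subtype.val (hinj (a₁ := ⟨w, hw⟩) (a₂ := 0) (by simp [φ, h1, h2]))⟩⟩

namespace Frame

variable {f} (F : Frame f)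

theorem max_le : 𝔪 ≤ Ideal.span {X F.p, X F.q} ⊔ (Ideal.span (Set.range f) ⊔ 𝔪 ^ 2) :=
  (minors_frame f hf F.hpq F.he F.he' F.hep F.heq F.he'p F.he'q F.hS).1

theorem span_uv : Ideal.span {π (X F.p), π (X F.q)} = maximalIdeal ℛ := by
  refine le_antisymm (Ideal.span_le.2 ?_) (PSQuad.maximalIdeal_le_of_le_sup_sq ?_)
  · rw [← map_max f hf]
    rintro _ (rfl | rfl) <;> exact Ideal.mem_map_of_mem _ (X_mem _)
  · conv_lhs => rw [← map_max f hf]
    refine (Ideal.map_mono (F.max_le hf)).trans ?_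
    rw [Ideal.map_sup, Ideal.map_sup, Ideal.map_quotient_self, bot_sup_eq, Ideal.map_pow, map_max f hf,
      Ideal.map_span, Set.image_pair]

theorem indep {s t : ℛ} (h : s * π (X F.p) + t * π (X F.q) ∈ maximalIdeal ℛ ^ 2) :
    s ∈ maximalIdeal ℛ ∧ t ∈ maximalIdeal ℛ := by
  obtain ⟨S, rfl⟩ := Ideal.Quotient.mk_surjective s
  obtain ⟨T, rfl⟩ := Ideal.Quotient.mk_surjective t
  rw [← map_mul, ← map_mul, ← map_add] at h
  have h' := mem_of_mk_mem_pow f hf h
  rw [← map_max f hf]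
  constructor
  · refine Ideal.mem_map_of_mem _ ?_
    have h1 := dv_span_mem f hf F.he h'
    rw [dv_add, dv_mul, dv_mul, dv_X, dv_X, F.hep, F.heq, map_one, map_zero, mul_one, mul_zero, zero_add] at h1
    have h2 := (Ideal.add_mem_iff_left _ (Ideal.mul_mem_right _ _ (X_mem _))).1 h1
    exact (Ideal.add_mem_iff_left _ (Ideal.mul_mem_right _ _ (X_mem _))).1 h2
  · refine Ideal.mem_map_of_mem _ ?_
    have h1 := dv_span_mem f hf F.he' h'
    rw [dv_add, dv_mul, dv_mul, dv_X, dv_X, F.he'p, F.he'q, map_one, map_zero, mul_one, mul_zero, zero_add] at h1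
    have h2 := (Ideal.add_mem_iff_right _ (Ideal.mul_mem_right _ _ (X_mem _))).1 h1
    exact (Ideal.add_mem_iff_left _ (Ideal.mul_mem_right _ _ (X_mem _))).1 h2

/-- The quadratic part of an element of the system in the square of the maximal ideal. -/
theorem exists_quad {g : A} (hgI : g ∈ Ideal.span (Set.range f)) (hg : g ∈ 𝔪 ^ 2) :
    ∃ a b c : ℛ, a * π (X F.p) ^ 2 + b * π (X F.p) * π (X F.q) + c * π (X F.q) ^ 2 ∈ maximalIdeal ℛ ^ 3 ∧
      π (dv F.e g) - (2 * a * π (X F.p) + b * π (X F.q)) ∈ maximalIdeal ℛ ^ 2 ∧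
      π (dv F.e' g) - (b * π (X F.p) + 2 * c * π (X F.q)) ∈ maximalIdeal ℛ ^ 2 := by
  set I := Ideal.span (Set.range f)
  set L : Ideal A := Ideal.span {X F.p, X F.q}
  have h3 : (𝔪) ^ 3 = 𝔪 ^ 2 * 𝔪 := pow_succ _ 2
  have key : 𝔪 ^ 2 ≤ L * L ⊔ (I * 𝔪 ⊔ 𝔪 ^ 3) := by
    have hL : L ≤ 𝔪 := Ideal.span_le.2 (by rintro _ (rfl | rfl) <;> exact X_mem _)
    calc 𝔪 ^ 2 = 𝔪 * 𝔪 := sq _
      _ ≤ (L ⊔ (I ⊔ 𝔪 ^ 2)) * 𝔪 := Ideal.mul_mono_left (F.max_le hf)
      _ = L * 𝔪 ⊔ (I * 𝔪 ⊔ 𝔪 ^ 3) := by rw [Ideal.sup_mul, Ideal.sup_mul, h3]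
      _ ≤ L * (L ⊔ (I ⊔ 𝔪 ^ 2)) ⊔ (I * 𝔪 ⊔ 𝔪 ^ 3) := sup_le_sup_right (Ideal.mul_mono_right (F.max_le hf)) _
      _ ≤ _ := by
        rw [Ideal.mul_sup, Ideal.mul_sup]
        refine sup_le (sup_le le_sup_left (sup_le ?_ ?_)) le_sup_right
        · rw [mul_comm L I]
          exact le_sup_of_le_right (le_sup_of_le_left (Ideal.mul_mono_right hL))
        · refine le_sup_of_le_right (le_sup_of_le_right ?_)
          rw [h3, mul_comm]
          exact Ideal.mul_mono_right hL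
  obtain ⟨x, hx, r, hr, rfl⟩ := Submodule.mem_sup.1 (key hg)
  have hx' : x ∈ Ideal.span {X F.p * X F.p, X F.p * X F.q, X F.q * X F.q} := by
    rw [show L * L = Ideal.span {X F.p, X F.q} * Ideal.span {X F.p, X F.q} from rfl, Ideal.span_pair_mul_span_pair] at hx
    refine Ideal.span_mono ?_ hx
    rw [mul_comm (X F.q : A) (X F.p)]
    intro z hz
    simp only [Set.mem_insert_iff, Set.mem_singleton_iff] at hz ⊢
    tauto
  obtain ⟨a, z, hz, rfl⟩ := Ideal.mem_span_insert.1 hx'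
  obtain ⟨b, c, rfl⟩ := Ideal.mem_span_pair.1 hz
  have hπr : π r ∈ maximalIdeal ℛ ^ 3 := by
    refine mk_mem_pow f hf ?_
    exact (sup_le_sup_right (Ideal.mul_le_left : Ideal.span (Set.range f) * 𝔪 ≤ Ideal.span (Set.range f)) _) hr
  have hUV : ∀ i j : Fin n, π (X i) * π (X j) ∈ maximalIdeal ℛ ^ 2 := fun i j => by
    rw [← map_mul]
    exact mk_mem_pow f hf (Submodule.mem_sup_right (by rw [sq]; exact Ideal.mul_mem_mul (X_mem i) (X_mem j)))
  refine ⟨π a, π b, π c, ?_, ?_, ?_⟩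
  · have h0 := Ideal.Quotient.eq_zero_iff_mem.2 hgI
    rw [map_add] at h0
    rw [show π a * π (X F.p) ^ 2 + π b * π (X F.p) * π (X F.q) + π c * π (X F.q) ^ 2 = -π r by
      rw [← eq_neg_of_add_eq_zero_left h0]; simp only [map_add, map_mul]; ring]
    exact neg_mem hπr
  · rw [dv_add, map_add, add_sub_right_comm]
    refine add_mem ?_ (dv_error_mem f hf F.he hr)
    simp only [dv_add, dv_mul, dv_X, F.hep, F.heq, map_one, map_zero, mul_one, mul_zero, add_zero, zero_add, map_add,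
      map_mul]
    convert add_mem (add_mem (Ideal.mul_mem_left _ (π (dv F.e a)) (hUV F.p F.p)) (Ideal.mul_mem_left _ (π (dv F.e b)) (hUV F.p F.q)))
      (Ideal.mul_mem_left _ (π (dv F.e c)) (hUV F.q F.q)) using 1
    ring
  · rw [dv_add, map_add, add_sub_right_comm]
    refine add_mem ?_ (dv_error_mem f hf F.he' hr)
    simp only [dv_add, dv_mul, dv_X, F.he'p, F.he'q, map_one, map_zero, mul_one, mul_zero, add_zero, zero_add, map_add,
      map_mul]
    convert add_mem (add_mem (Ideal.mul_mem_left _ (π (dv F.e' a)) (hUV F.p F.p)) (Ideal.mul_mem_left _ (π (dv F.e' b)) (hUV F.p F.q)))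
      (Ideal.mul_mem_left _ (π (dv F.e' c)) (hUV F.q F.q)) using 1
    ring

end Frame

theorem finrank_eq_two_of_minors (hm : 𝔪 ≤ minors f ⊔ Ideal.span (Set.range f))
    (hm' : minors f ⊔ Ideal.span (Set.range f) ≤ 𝔪) : Module.finrank k (kerLin f) = 2 := by
  have h1 : ¬ Module.finrank k (kerLin f) ≤ 1 := fun h =>
    (maximalIdeal.isMaximal A).ne_top (top_le_iff.1 ((minors_eq_top_of_le_one f hf h).symm ▸ (le_sup_left.trans hm')))
  refine le_antisymm (le_of_not_gt fun h3 => h1 ?_) (by omega)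
  have hle : 𝔪 ≤ Ideal.span (Set.range f) ⊔ 𝔪 ^ 2 :=
    hm.trans (sup_le ((minors_le_sq f hf h3).trans le_sup_right) le_sup_left)
  have : kerLin f = ⊥ := (Submodule.eq_bot_iff _).2 fun w hw => funext fun i => by
    have := dv_span_mem f hf hw (hle (X_mem i))
    rw [dv_X, mem_max_iff, constantCoeff_C] at this
    exact this
  rw [this, finrank_bot]
  exact Nat.zero_le _

theorem socle_eq_zero_of_isReduced [_root_.IsReduced ℛ] (F : Frame f) (z : ℛ)
    (hz : ∀ t ∈ maximalIdeal ℛ, t * z = 0) : z = 0 := by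
  by_cases hzm : z ∈ maximalIdeal ℛ
  · exact _root_.IsReduced.eq_zero z ⟨2, by rw [sq]; exact hz z hzm⟩
  obtain ⟨w, hw⟩ := (not_not.1 (mt (mem_maximalIdeal z).2 hzm) : IsUnit z).exists_right_inv
  refine absurd (F.indep hf (s := 1) (t := 0) ?_).1 fun h => (mem_maximalIdeal _).1 h isUnit_one
  have hU : π (X F.p) ∈ maximalIdeal ℛ := by rw [← map_max f hf]; exact Ideal.mem_map_of_mem _ (X_mem _)
  rw [one_mul, zero_mul, add_zero, show π (X F.p) = π (X F.p) * z * w by rw [mul_assoc, hw, mul_one],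
    hz _ hU, zero_mul]
  exact zero_mem _

theorem socle_eq_zero_of_depth (h : LocCoh.depth A ℛ = 1) (z : ℛ) (hz : ∀ t ∈ maximalIdeal ℛ, t * z = 0) :
    z = 0 := by
  rw [S7137.depth_eq_of_surjective (R := A) (S := ℛ) Ideal.Quotient.mk_surjective ℛ] at h
  by_contra hz0
  refine Alg6.one_le_depth_iff.1 h.ge (Alg6.mem_ass_iff.2 ⟨(maximalIdeal.isMaximal ℛ).isPrime, z,
    fun a => ⟨fun ha => hz a ha, fun ha => ?_⟩⟩)
  by_contra ham
  exact hz0 ((not_not.1 (mt (mem_maximalIdeal a).2 ham) : IsUnit a).mul_right_eq_zero.1 ha)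

/-- The node from the minors. -/
theorem exists_iso_of_minors (hm : 𝔪 ≤ minors f ⊔ Ideal.span (Set.range f))
    (hm' : minors f ⊔ Ideal.span (Set.range f) ≤ 𝔪)
    (hsoc : ∀ z : ℛ, (∀ t ∈ maximalIdeal ℛ, t * z = 0) → z = 0) :
    ∃ a b c : k, 4 * a * c - b ^ 2 ≠ 0 ∧
      Nonempty (ℛ ≃ₐ[k] (MvPowerSeries (Fin 2) k ⧸ Ideal.span {qf k a b c})) := by
  obtain ⟨F⟩ := nonempty_frame f hf (finrank_eq_two_of_minors f hf hm hm')
  haveI : IsAdicComplete 𝔪 A := (CohenLib.isRegular_complete_mvPowerSeries (Λ := k) (Or.inl (Field.toIsField k)) n).2.2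
  haveI := CILib.isAdicComplete_quotient (Ideal.span (Set.range f))
  obtain ⟨-, g, hgI, hg2, -, hspan, -⟩ := minors_frame f hf F.hpq F.he F.he' F.hep F.heq F.he'p F.he'q F.hS
  choose a b c hrel hd1 hd2 using fun j => F.exists_quad hf (hgI j) (hg2 j)
  have hgen : maximalIdeal ℛ ≤ Ideal.span (Set.range (fun j => 2 * a j * π (X F.p) + b j * π (X F.q)) ∪
      Set.range (fun j => b j * π (X F.p) + 2 * c j * π (X F.q))) ⊔ maximalIdeal ℛ ^ 2 := by
    conv_lhs => rw [← map_max f hf]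
    refine (Ideal.map_mono (hm.trans (sup_le_sup_right hspan _))).trans ?_
    rw [Ideal.map_sup, Ideal.map_sup, Ideal.map_quotient_self, sup_bot_eq, Ideal.map_pow, map_max f hf, Ideal.map_span]
    refine sup_le (Ideal.span_le.2 ?_) le_sup_right
    rintro _ ⟨_, (⟨j, rfl⟩ | ⟨j, rfl⟩), rfl⟩
    · exact Submodule.mem_sup.2 ⟨_, Ideal.subset_span (.inl ⟨j, rfl⟩), _, hd1 j, add_sub_cancel _ _⟩
    · exact Submodule.mem_sup.2 ⟨_, Ideal.subset_span (.inr ⟨j, rfl⟩), _, hd2 j, add_sub_cancel _ _⟩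
  have hind : ∀ s t : ℛ, s * π (X F.p) + t * π (X F.q) ∈ maximalIdeal ℛ ^ 2 →
      s ∈ maximalIdeal ℛ ∧ t ∈ maximalIdeal ℛ := fun s t h => F.indep hf h
  obtain ⟨a₁, b₁, c₁, hdisc₁, hrel₁⟩ := exists_nondeg hsoc (F.span_uv hf) hind a b c hrel hgen
  obtain ⟨x, y, a₂, b₂, c₂, hxy, hdisc₂, hrel₂, hl⟩ := qcrit_of_socle (F.span_uv hf) hind hdisc₁ hrel₁ hsoc
  have hres : Function.Surjective ((residue ℛ).comp (algebraMap k ℛ)) := fun r => by
    obtain ⟨z, rfl⟩ := residue_surjective r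
    obtain ⟨Z, rfl⟩ := Ideal.Quotient.mk_surjective z
    refine ⟨constantCoeff Z, ?_⟩
    show residue ℛ (π (algebraMap k A _)) = _
    rw [← sub_eq_zero, ← map_sub, residue_eq_zero_iff, ← map_sub, ← map_max f hf]
    exact Ideal.mem_map_of_mem _ (mem_max_iff.2 (by simp [MvPowerSeries.algebraMap_apply]))
  obtain ⟨a₀, ha₀⟩ := hres (residue ℛ a₂)
  obtain ⟨b₀, hb₀⟩ := hres (residue ℛ b₂)
  obtain ⟨c₀, hc₀⟩ := hres (residue ℛ c₂)
  simp only [RingHom.comp_apply] at ha₀ hb₀ hc₀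
  have hres0 : residue ℛ (algebraMap k ℛ (4 * a₀ * c₀ - b₀ ^ 2)) = residue ℛ (4 * a₂ * c₂ - b₂ ^ 2) := by
    simp only [map_sub, map_mul, map_pow, map_ofNat, ha₀, hb₀, hc₀]
  have hd : 4 * a₀ * c₀ - b₀ ^ 2 ≠ 0 := fun h => hdisc₂ (by rw [← hres0, h, map_zero, map_zero])
  have hrel₀ : algebraMap k ℛ a₀ * x ^ 2 + algebraMap k ℛ b₀ * x * y + algebraMap k ℛ c₀ * y ^ 2 ∈
      maximalIdeal ℛ ^ 3 := by
    have h3 : ∀ {r s : ℛ} {z w : ℛ}, residue ℛ r = residue ℛ s → z ∈ maximalIdeal ℛ → w ∈ maximalIdeal ℛ →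
        (r - s) * (z * w) ∈ maximalIdeal ℛ ^ 3 := fun h hz hw => by
      rw [pow_succ', sq]
      exact Ideal.mul_mem_mul ((residue_eq_zero_iff _).1 (by rw [map_sub, h, sub_self])) (Ideal.mul_mem_mul hz hw)
    rw [show algebraMap k ℛ a₀ * x ^ 2 + algebraMap k ℛ b₀ * x * y + algebraMap k ℛ c₀ * y ^ 2 =
      (a₂ * x ^ 2 + b₂ * x * y + c₂ * y ^ 2) + ((algebraMap k ℛ a₀ - a₂) * (x * x) +
        (algebraMap k ℛ b₀ - b₂) * (x * y) + (algebraMap k ℛ c₀ - c₂) * (y * y)) by ring]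
    exact add_mem hrel₂ (add_mem (add_mem (h3 ha₀ (x_mem hxy) (x_mem hxy)) (h3 hb₀ (x_mem hxy) (y_mem hxy)))
      (h3 hc₀ (y_mem hxy) (y_mem hxy)))
  have hdu : IsUnit (4 * algebraMap k ℛ a₀ * algebraMap k ℛ c₀ - algebraMap k ℛ b₀ ^ 2) := by
    simpa only [map_sub, map_mul, map_pow, map_ofNat] using (Ne.isUnit hd).map (algebraMap k ℛ)
  obtain ⟨x', y', hxy', hzero⟩ := exists_exact hxy hdu hrel₀
  have hbm : ∀ i : Fin 2, ![x', y'] i ∈ maximalIdeal ℛ := fun i => by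
    fin_cases i <;> exact hxy' ▸ Ideal.subset_span (by simp)
  obtain ⟨Ψ, hΨ⟩ := PSLib.exists_algHom (R := k) (maximalIdeal ℛ) _ hbm
  have hsurj : Function.Surjective Ψ := by
    refine PSLib.surjective_of_span (K := k) (n := 2) (R := ℛ) hres Ψ (fun i => (hΨ i).symm ▸ hbm i) ?_
    refine le_trans ?_ le_sup_left
    conv_lhs => rw [← hxy']
    refine Ideal.span_mono ?_
    rintro z (hz | hz) <;> rw [hz]
    · exact ⟨0, by simp [hΨ]⟩
    · exact ⟨1, by simp [hΨ]⟩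
  have hC : ∀ r : k, Ψ (MvPowerSeries.C r) = algebraMap k ℛ r := fun r => by
    have := Ψ.commutes r
    rwa [MvPowerSeries.algebraMap_apply, Algebra.algebraMap_self, RingHom.id_apply] at this
  have hker : ∀ p ∈ Ideal.span {qf k a₀ b₀ c₀}, Ψ p = 0 := fun p hp => by
    obtain ⟨d, rfl⟩ := Ideal.mem_span_singleton'.1 hp
    have : Ψ (qf k a₀ b₀ c₀) = 0 := by
      simp only [qf, map_add, map_mul, map_pow, hΨ, hC]
      simpa using hzero
    rw [map_mul, this, mul_zero]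
  let ψ := Ideal.Quotient.liftₐ _ Ψ hker
  have hψ : Function.Surjective ψ := Ideal.Quotient.lift_surjective_of_surjective _ _ hsurj
  obtain ⟨⟨-, -, -, -, -, -, -, -, hlQ⟩, -⟩ := model_spec a₀ b₀ c₀ hd
  have hinj : Function.Injective ψ :=
    injective_of_ell ψ.toRingHom hψ (fun n => 2 * n + 1) (fun n => (hlQ n).le) hl
  exact ⟨a₀, b₀, c₀, hd, ⟨(AlgEquiv.ofBijective ψ ⟨hinj, hψ⟩).symm⟩⟩

theorem ringKrullDim_le_one_of_qcrit (h : QCrit ℛ) : ringKrullDim ℛ ≤ 1 := by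
  obtain ⟨x, y, a, b, c, hspan, hdisc, hrel, -⟩ := h
  obtain ⟨x', y', a', b', c', hsp, ha, -, hq⟩ := exists_isUnit (x := x) (y := y) hdisc
  rw [hspan] at hsp
  have hx2 := mul_self_mem_of_rel hsp ha (hq ▸ hrel)
  have hmin : maximalIdeal ℛ ∈ (Ideal.span {y'}).minimalPrimes := by
    refine ⟨⟨(maximalIdeal.isMaximal ℛ).isPrime, Ideal.span_le.2 (Set.singleton_subset_iff.2 (y_mem hsp))⟩,
      fun P hP _ => ?_⟩
    rw [← hsp, Ideal.span_le]
    have hy : y' ∈ P := hP.2 (Ideal.mem_span_singleton_self _)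
    rintro _ (rfl | rfl)
    · refine hP.1.mem_of_pow_mem 2 ?_
      rw [sq]
      obtain ⟨s, t, hst⟩ := Ideal.mem_span_pair.1 hx2
      rw [← hst]
      exact add_mem (Ideal.mul_mem_left _ _ (Ideal.mul_mem_left _ _ hy)) (Ideal.mul_mem_left _ _ (Ideal.mul_mem_left _ _ hy))
    · exact hy
  haveI : (Ideal.span {y'}).IsPrincipal := ⟨⟨y', rfl⟩⟩
  rw [← IsLocalRing.maximalIdeal_height_eq_ringKrullDim]
  exact_mod_cast Ideal.height_le_one_of_isPrincipal_of_mem_minimalPrimes _ _ hmin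

/-- The minors and the depth from the criterion. -/
theorem spec_of_qcrit [hred : _root_.IsReduced ℛ] (hq : QCrit ℛ) :
    _root_.IsReduced ℛ ∧ minors f ⊔ Ideal.span (Set.range f) = 𝔪 ∧ LocCoh.depth A ℛ = 1 := by
  have hl := hq.ell_two
  obtain ⟨x, y, a₁, b₁, c₁, hxy, hdisc₁, hrel₁, -⟩ := id hq
  have h1 : ¬ Module.finrank k (kerLin f) ≤ 1 := fun h => by
    obtain ⟨⟨z, hz⟩⟩ := isPrincipal_of_le_one f hf h
    obtain ⟨α, hα⟩ := Ideal.mem_span_singleton'.1 (by have := x_mem hxy; rwa [hz, Ideal.submodule_span_eq] at this : x ∈ Ideal.span {z})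
    obtain ⟨β, hβ⟩ := Ideal.mem_span_singleton'.1 (by have := y_mem hxy; rwa [hz, Ideal.submodule_span_eq] at this : y ∈ Ideal.span {z})
    obtain ⟨-, hα'⟩ := indep_of_span hxy hl (s := β) (t := -α)
      (by rw [← hα, ← hβ, show β * (α * z) + -α * (β * z) = 0 by ring]; exact zero_mem _)
    refine (mem_maximalIdeal _).1 (indep_of_span hxy hl (s := 1) (t := 0) ?_).1 isUnit_one
    rw [one_mul, zero_mul, add_zero, ← hα, sq]
    exact Ideal.mul_mem_mul (by simpa using hα') (by rw [hz, Ideal.submodule_span_eq]; exact Ideal.mem_span_singleton_self z)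
  have h2 : Module.finrank k (kerLin f) ≤ 2 := by
    obtain ⟨X', hX'⟩ := Ideal.Quotient.mk_surjective x
    obtain ⟨Y', hY'⟩ := Ideal.Quotient.mk_surjective y
    let φ : kerLin f →ₗ[k] k × k :=
      { toFun := fun w => (constantCoeff (dv (w : Fin n → k) X'), constantCoeff (dv (w : Fin n → k) Y'))
        map_add' := fun w w' => by simp [cc_dv, add_mul, Finset.sum_add_distrib]
        map_smul' := fun r w => by simp [cc_dv, Finset.mul_sum, mul_assoc] }
    have hinj : Function.Injective φ := by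
      rw [← LinearMap.ker_eq_bot, Submodule.eq_bot_iff]
      rintro ⟨w, hw⟩ h0
      obtain ⟨h01, h02⟩ := Prod.ext_iff.1 (LinearMap.mem_ker.1 h0)
      refine Subtype.ext (funext fun i => ?_)
      have hXi : π (X i) ∈ maximalIdeal ℛ := by rw [← map_max f hf]; exact Ideal.mem_map_of_mem _ (X_mem i)
      rw [← hxy, Ideal.mem_span_pair] at hXi
      obtain ⟨s, t, hst⟩ := hXi
      obtain ⟨S, rfl⟩ := Ideal.Quotient.mk_surjective s
      obtain ⟨T, rfl⟩ := Ideal.Quotient.mk_surjective t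
      rw [← hX', ← hY', ← map_mul, ← map_mul, ← map_add, Ideal.Quotient.eq] at hst
      have hm : dv w (X i) ∈ 𝔪 := by
        rw [show (X i : A) = (S * X' + T * Y') - (S * X' + T * Y' - X i) by ring, dv_sub, dv_add, dv_mul, dv_mul]
        refine sub_mem (add_mem ?_ ?_) (dv_span_mem f hf hw (Submodule.mem_sup_left hst))
        · refine add_mem (Ideal.mul_mem_left _ _ (mem_max_iff.2 h01)) (Ideal.mul_mem_right _ _ (mem_max_iff.2 ?_))
          exact mem_max_iff.1 (show X' ∈ 𝔪 from by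
            have : π X' ∈ maximalIdeal ℛ ^ 1 := by rw [pow_one, hX']; exact x_mem hxy
            have := mem_of_mk_mem_pow f hf this
            rw [pow_one, sup_eq_right.2 (span_le_max f hf)] at this
            exact this)
        · refine add_mem (Ideal.mul_mem_left _ _ (mem_max_iff.2 h02)) (Ideal.mul_mem_right _ _ (mem_max_iff.2 ?_))
          exact mem_max_iff.1 (show Y' ∈ 𝔪 from by
            have : π Y' ∈ maximalIdeal ℛ ^ 1 := by rw [pow_one, hY']; exact y_mem hxy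
            have := mem_of_mk_mem_pow f hf this
            rw [pow_one, sup_eq_right.2 (span_le_max f hf)] at this
            exact this)
      rw [dv_X, mem_max_iff, constantCoeff_C] at hm
      exact hm
    exact (LinearMap.finrank_le_finrank_of_injective hinj).trans (by rw [Module.finrank_prod, Module.finrank_self])
  obtain ⟨F⟩ := nonempty_frame f hf (le_antisymm h2 (by omega))
  obtain ⟨-, -, -, -, hmin, -, hder⟩ := minors_frame f hf F.hpq F.he F.he' F.hep F.heq F.he'p F.he'q F.hS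
  obtain ⟨α, β, γ, hdisc, hrel⟩ := exists_rel_of_qcrit hq (F.span_uv hf)
  obtain ⟨α, rfl⟩ := Ideal.Quotient.mk_surjective α
  obtain ⟨β, rfl⟩ := Ideal.Quotient.mk_surjective β
  obtain ⟨γ, rfl⟩ := Ideal.Quotient.mk_surjective γ
  simp only [← map_pow, ← map_mul, ← map_add] at hrel
  obtain ⟨P, hP, r, hr, hPr⟩ := Submodule.mem_sup.1 (mem_of_mk_mem_pow f hf hrel)
  have hPeq : P = α * X F.p ^ 2 + β * X F.p * X F.q + γ * X F.q ^ 2 - r := eq_sub_of_add_eq hPr
  have hP2 : P ∈ 𝔪 ^ 2 := by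
    rw [hPeq]
    refine sub_mem (add_mem (add_mem ?_ ?_) ?_) (Ideal.pow_le_pow_right (by omega) hr)
    · exact Ideal.mul_mem_left _ _ (Ideal.pow_mem_pow (X_mem _) 2)
    · rw [mul_assoc, sq]; exact Ideal.mul_mem_left _ _ (Ideal.mul_mem_mul (X_mem _) (X_mem _))
    · exact Ideal.mul_mem_left _ _ (Ideal.pow_mem_pow (X_mem _) 2)
  obtain ⟨hd1, hd2⟩ := hder hP hP2
  set T := minors f ⊔ (Ideal.span (Set.range f) ⊔ 𝔪 ^ 2)
  have hsq : ∀ {z : A}, z ∈ 𝔪 ^ 2 → z ∈ T := fun hz => Submodule.mem_sup_right (Submodule.mem_sup_right hz)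
  have hXX : ∀ i j : Fin n, (X i : A) * X j ∈ 𝔪 ^ 2 := fun i j => by
    rw [sq]; exact Ideal.mul_mem_mul (X_mem i) (X_mem j)
  have he1 : 2 * α * X F.p + β * X F.q ∈ T := by
    rw [show 2 * α * X F.p + β * X F.q = dv F.e P + (dv F.e r -
      (X F.p * X F.p * dv F.e α + X F.p * X F.q * dv F.e β + X F.q * X F.q * dv F.e γ)) by
      rw [hPeq]; simp only [sq, dv_sub, dv_add, dv_mul, dv_X, F.hep, F.heq, map_one, map_zero]; ring]
    exact add_mem hd1 (hsq (sub_mem (dv_pow_mem _ 2 hr) (add_mem (add_mem (Ideal.mul_mem_right _ _ (hXX _ _))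
      (Ideal.mul_mem_right _ _ (hXX _ _))) (Ideal.mul_mem_right _ _ (hXX _ _)))))
  have he2 : β * X F.p + 2 * γ * X F.q ∈ T := by
    rw [show β * X F.p + 2 * γ * X F.q = dv F.e' P + (dv F.e' r -
      (X F.p * X F.p * dv F.e' α + X F.p * X F.q * dv F.e' β + X F.q * X F.q * dv F.e' γ)) by
      rw [hPeq]; simp only [sq, dv_sub, dv_add, dv_mul, dv_X, F.he'p, F.he'q, map_one, map_zero]; ring]
    exact add_mem hd2 (hsq (sub_mem (dv_pow_mem _ 2 hr) (add_mem (add_mem (Ideal.mul_mem_right _ _ (hXX _ _))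
      (Ideal.mul_mem_right _ _ (hXX _ _))) (Ideal.mul_mem_right _ _ (hXX _ _)))))
  have hD : IsUnit (4 * α * γ - β ^ 2) := by
    by_contra hD
    refine hdisc ((residue_eq_zero_iff _).2 ?_)
    rw [← map_max f hf]
    simpa only [map_sub, map_mul, map_pow, map_ofNat] using
      Ideal.mem_map_of_mem π ((mem_maximalIdeal _).2 hD)
  have hpT : (X F.p : A) ∈ T := by
    refine (Ideal.unit_mul_mem_iff_mem _ hD).1 ?_
    rw [show (4 * α * γ - β ^ 2) * X F.p = 2 * γ * (2 * α * X F.p + β * X F.q) - β * (β * X F.p + 2 * γ * X F.q) by ring]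
    exact sub_mem (Ideal.mul_mem_left _ _ he1) (Ideal.mul_mem_left _ _ he2)
  have hqT : (X F.q : A) ∈ T := by
    refine (Ideal.unit_mul_mem_iff_mem _ hD).1 ?_
    rw [show (4 * α * γ - β ^ 2) * X F.q = 2 * α * (β * X F.p + 2 * γ * X F.q) - β * (2 * α * X F.p + β * X F.q) by ring]
    exact sub_mem (Ideal.mul_mem_left _ _ he2) (Ideal.mul_mem_left _ _ he1)
  refine ⟨hred, le_antisymm (sup_le hmin (span_le_max f hf)) (PSQuad.maximalIdeal_le_of_le_sup_sq ?_), ?_⟩
  · rw [sup_assoc]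
    refine (F.max_le hf).trans (sup_le (Ideal.span_le.2 ?_) le_sup_right)
    rintro _ (rfl | rfl)
    exacts [hpT, hqT]
  · rw [S7137.depth_eq_of_surjective (R := A) (S := ℛ) Ideal.Quotient.mk_surjective ℛ]
    refine le_antisymm ?_ (Alg6.one_le_depth_iff.2 fun hass => ?_)
    · have := (LC.depth_le_supportDim (R := ℛ) (M := ℛ)).trans
        ((Module.supportDim_self_eq_ringKrullDim (R := ℛ)).le.trans (ringKrullDim_le_one_of_qcrit f hf hq))
      exact_mod_cast this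
    · obtain ⟨-, z, hz⟩ := Alg6.mem_ass_iff.1 hass
      have hz0 := socle_eq_zero_of_isReduced f hf F z fun t ht => (hz t).1 ht
      exact (maximalIdeal.isMaximal ℛ).ne_top (Ideal.eq_top_of_isUnit_mem _ ((hz 1).2 (by simp [hz0])) isUnit_one)

/-- The minors, reducedness and the depth from the node. -/
theorem spec_of_iso {a b c : k} (hd : 4 * a * c - b ^ 2 ≠ 0)
    (e : ℛ ≃+* (MvPowerSeries (Fin 2) k ⧸ Ideal.span {qf k a b c})) :
    _root_.IsReduced ℛ ∧ minors f ⊔ Ideal.span (Set.range f) = 𝔪 ∧ LocCoh.depth A ℛ = 1 := by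
  obtain ⟨hQ, hredQ⟩ := model_spec a b c hd
  haveI := hredQ
  haveI : _root_.IsReduced ℛ := isReduced_of_injective e.toRingHom e.injective
  haveI : IsLocalHom (e.symm : (MvPowerSeries (Fin 2) k ⧸ Ideal.span {qf k a b c}) →+* ℛ) := inferInstance
  exact spec_of_qcrit f hf (QCrit.map (e.symm : (MvPowerSeries (Fin 2) k ⧸ Ideal.span {qf k a b c}) →+* ℛ)
    (RingHom.Flat.of_bijective e.symm.bijective) (map_maximalIdeal_of_surjective _ e.symm.surjective) hQ)

end Groth.Agent.NodalQ
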