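import Groth.Agent.FittX.Crit
import Mathlib.RingTheory.Kaehler.TensorProduct
import Mathlib.RingTheory.Unramified.Locus
import Mathlib.RingTheory.Unramified.Field
import Mathlib.FieldTheory.IsAlgClosed.Basic
import Mathlib.RingTheory.Jacobson.Ring

/-!
# The singular scheme at a geometric point
-/

set_option autoImplicit false
set_option linter.style.haveILetI false
set_option linter.unusedSectionVars false
set_option backward.isDefEq.respectTransparency false
set_option backward.isDefEq.respectTransparency.types false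
set_option maxHeartbeats 1000000

universe u

open IsLocalRing
open scoped TensorProduct

attribute [local instance] Algebra.TensorProduct.rightAlgebra

noncomputable section

namespace Groth.Agent.NodalQ

/-- Fitting ideals of differentials commute with base change. -/
theorem fitt_kaehler_baseChange {A B K C : Type u} [CommRing A] [CommRing B] [CommRing K] [CommRing C]
    [Algebra A B] [Algebra A K] [Algebra A C] [Algebra B C] [Algebra K C] [IsScalarTower A B C]
    [IsScalarTower A K C] [Algebra.IsPushout A K B C] [Algebra.FiniteType A B] (d : ℕ) :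
    Fitt.ideal C (KaehlerDifferential K C) d = (Fitt.ideal B (KaehlerDifferential A B) d).map (algebraMap B C) := by
  rw [← FittX.ideal_baseChange (TensorProduct.isBaseChange B (KaehlerDifferential A B) C) d]
  exact (FittX.ideal_congr (KaehlerDifferential.tensorKaehlerEquiv A K B C) d).symm

theorem unram_iff_point {K : Type u} [Field K] [IsAlgClosed K] {T : Type u} [CommRing T] [Algebra K T]
    [Algebra.FiniteType K T] (w : Ideal T) [w.IsPrime] :
    Algebra.IsUnramifiedAt K w ↔
      w.IsMaximal ∧ w.map (algebraMap T (Localization.AtPrime w)) = ⊥ := by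
  let L := Localization.AtPrime w
  haveI : IsNoetherianRing T := Algebra.FiniteType.isNoetherianRing K T
  haveI : Algebra.EssFiniteType T L := Algebra.EssFiniteType.of_isLocalization L w.primeCompl
  haveI : Algebra.EssFiniteType K L := Algebra.EssFiniteType.comp K T L
  constructor
  · intro h
    haveI : Algebra.FormallyUnramified K L := h
    haveI : _root_.IsReduced L := Algebra.FormallyUnramified.isReduced_of_field K L
    haveI : Module.Finite K L := Algebra.FormallyUnramified.finite_of_free K L
    haveI : IsArtinianRing L := IsArtinianRing.of_finite K L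
    have hL : IsField L := IsArtinianRing.isField_of_isReduced_of_isLocalRing L
    letI := hL.toField
    have hb : Function.Bijective (algebraMap K L) := IsAlgClosed.algebraMap_bijective_of_isIntegral
    refine ⟨?_, ?_⟩
    · have hs : Function.Surjective (algebraMap T L) := fun z => by
        obtain ⟨c, rfl⟩ := hb.2 z
        exact ⟨algebraMap K T c, (IsScalarTower.algebraMap_apply K T L c).symm⟩
      have hw : RingHom.ker (algebraMap T L) = w := by
        conv_rhs => rw [← IsLocalization.AtPrime.comap_maximalIdeal L w]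
        rw [IsLocalRing.isField_iff_maximalIdeal_eq.1 hL]
        rfl
      rw [← hw]
      exact RingHom.ker_isMaximal_of_surjective _ hs
    · rw [Localization.AtPrime.map_eq_maximalIdeal]
      exact IsLocalRing.isField_iff_maximalIdeal_eq.1 hL
  · rintro ⟨hmax, hbot⟩
    letI : Field (T ⧸ w) := Ideal.Quotient.field w
    haveI : Module.Finite K (T ⧸ w) := finite_of_finite_type_of_isJacobsonRing K (T ⧸ w)
    have hb : Function.Bijective (algebraMap K (T ⧸ w)) := IsAlgClosed.algebraMap_bijective_of_isIntegral
    have hLm : maximalIdeal L = ⊥ := by rw [← Localization.AtPrime.map_eq_maximalIdeal]; exact hbot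
    have hs : Function.Surjective (algebraMap K L) := by
      intro z
      obtain ⟨⟨t, ⟨s, hs⟩⟩, hts⟩ := IsLocalization.surj w.primeCompl z
      obtain ⟨c, hc⟩ := hb.2 (Ideal.Quotient.mk w t)
      obtain ⟨d, hd⟩ := hb.2 (Ideal.Quotient.mk w s)
      have key : ∀ {t : T} {c : K}, algebraMap K (T ⧸ w) c = Ideal.Quotient.mk w t → algebraMap T L t = algebraMap K L c := by
        intro t c h
        rw [IsScalarTower.algebraMap_apply K T L, ← sub_eq_zero, ← map_sub, ← Ideal.mem_bot, ← hLm,
          ← Localization.AtPrime.map_eq_maximalIdeal]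
        refine Ideal.mem_map_of_mem _ ?_
        rw [← Ideal.Quotient.eq_zero_iff_mem, map_sub, ← h, sub_eq_zero]
        exact (IsScalarTower.algebraMap_apply K T (T ⧸ w) c).trans rfl
      have hd0 : d ≠ 0 := by
        rintro rfl
        rw [map_zero] at hd
        exact hs (Ideal.Quotient.eq_zero_iff_mem.1 hd.symm)
      refine ⟨c / d, ?_⟩
      dsimp only at hts
      rw [key hc, key hd] at hts
      have hu : IsUnit (algebraMap K L d) := (Ne.isUnit hd0).map _
      rw [← hu.mul_left_inj, ← map_mul, div_mul_cancel₀ _ hd0, hts]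
    exact Algebra.FormallyUnramified.of_surjective (Algebra.ofId K L) hs

variable {A B : Type u} [CommRing A] [CommRing B] [Algebra A B] [Algebra.FiniteType A B]

theorem isUnramifiedAt_tensor_iff (A' : Type u) [CommRing A'] [Algebra A A'] (w : PrimeSpectrum (A' ⊗[A] B)) (P : PrimeSpectrum B)
    (hw : PrimeSpectrum.comap (algebraMap B (A' ⊗[A] B)) w = P) :
    Algebra.IsUnramifiedAt A' w.asIdeal ↔ Algebra.IsUnramifiedAt A P.asIdeal := by
  have h1 : w ∈ Algebra.unramifiedLocus A' (A' ⊗[A] B) ↔ P ∈ Algebra.unramifiedLocus A B := by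
    rw [Algebra.unramifiedLocus_eq_compl_support, Algebra.unramifiedLocus_eq_compl_support, Set.mem_compl_iff,
      Set.mem_compl_iff, not_iff_not, ← FittX.zeroLocus_eq_support, ← FittX.zeroLocus_eq_support,
      fitt_kaehler_baseChange (A := A) (B := B), PrimeSpectrum.mem_zeroLocus, PrimeSpectrum.mem_zeroLocus,
      SetLike.coe_subset_coe, SetLike.coe_subset_coe, Ideal.map_le_iff_le_comap, ← hw]
    rfl
  exact h1

variable (K : Type u) [Field K] [Algebra A K] [IsAlgClosed K] (F : Ideal B)

/-- Unramifiedness of a closed subscheme in terms of one geometric point. -/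
theorem isUnramifiedAt_quot_iff (v : PrimeSpectrum (K ⊗[A] B)) (qb : PrimeSpectrum (B ⧸ F))
    (hv : PrimeSpectrum.comap (algebraMap B (K ⊗[A] B)) v = PrimeSpectrum.comap (Ideal.Quotient.mk F) qb) :
    Algebra.IsUnramifiedAt A qb.asIdeal ↔ v.asIdeal.IsMaximal ∧
      (F.map (algebraMap B (K ⊗[A] B))).map (algebraMap (K ⊗[A] B) (Localization.AtPrime v.asIdeal)) =
        maximalIdeal (Localization.AtPrime v.asIdeal) := by
  let C := K ⊗[A] B
  let T := K ⊗[A] (B ⧸ F)
  let π : C →ₐ[A] T := Algebra.TensorProduct.map (AlgHom.id A K) (Ideal.Quotient.mkₐ A F)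
  have hsurj : Function.Surjective π := LinearMap.lTensor_surjective K Ideal.Quotient.mk_surjective
  have hker : RingHom.ker π = F.map (algebraMap B C) := by
    refine (Algebra.TensorProduct.lTensor_ker _ Ideal.Quotient.mk_surjective).trans ?_
    rw [show RingHom.ker (Ideal.Quotient.mkₐ A F) = F from Ideal.mk_ker]
    rfl
  have hFv : F.map (algebraMap B C) ≤ v.asIdeal := by
    rw [Ideal.map_le_iff_le_comap]
    intro b hb
    show b ∈ (PrimeSpectrum.comap (algebraMap B C) v).asIdeal
    rw [hv]
    show Ideal.Quotient.mk F b ∈ qb.asIdeal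
    rw [Ideal.Quotient.eq_zero_iff_mem.2 hb]
    exact qb.asIdeal.zero_mem
  let w : Ideal T := v.asIdeal.map π
  haveI : w.IsPrime := Ideal.map_isPrime_of_surjective hsurj (hker.le.trans hFv)
  have hwv : ∀ c, π c ∈ w ↔ c ∈ v.asIdeal := fun c => by
    rw [← Ideal.mem_comap, Ideal.comap_map_of_surjective _ hsurj, sup_eq_left.2]
    exact hker.le.trans hFv
  have hπB : ∀ b : B, π (algebraMap B C b) = algebraMap (B ⧸ F) T (Ideal.Quotient.mk F b) := fun b => by
    show π ((1 : K) ⊗ₜ[A] b) = (1 : K) ⊗ₜ[A] Ideal.Quotient.mk F b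
    exact (Algebra.TensorProduct.map_tmul _ _ _ _).trans rfl
  have hwq : PrimeSpectrum.comap (algebraMap (B ⧸ F) T) ⟨w, inferInstance⟩ = qb := by
    refine PrimeSpectrum.ext (Ideal.ext fun z => ?_)
    obtain ⟨b, rfl⟩ := Ideal.Quotient.mk_surjective z
    show algebraMap (B ⧸ F) T _ ∈ w ↔ _
    rw [← hπB, hwv]
    show b ∈ (PrimeSpectrum.comap (algebraMap B C) v).asIdeal ↔ _
    rw [hv]
    rfl
  rw [← isUnramifiedAt_tensor_iff K ⟨w, inferInstance⟩ qb hwq, unram_iff_point w]
  have hmax : w.IsMaximal ↔ v.asIdeal.IsMaximal := by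
    constructor
    · intro h
      rw [show v.asIdeal = w.comap π from Ideal.ext fun c => (hwv c).symm]
      exact Ideal.comap_isMaximal_of_surjective π hsurj
    · intro h
      exact (Ideal.map_eq_top_or_isMaximal_of_surjective π hsurj h).resolve_left
        (Ideal.IsPrime.ne_top inferInstance)
  rw [hmax]
  refine and_congr_right fun _ => ?_
  rw [← Localization.AtPrime.map_eq_maximalIdeal]
  constructor
  · intro h
    refine le_antisymm (Ideal.map_mono hFv) (Ideal.map_le_iff_le_comap.2 fun c hc => ?_)
    have h1 := Ideal.mem_map_of_mem (algebraMap T (Localization.AtPrime w)) ((hwv c).2 hc)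
    rw [h, Ideal.mem_bot, IsLocalization.map_eq_zero_iff w.primeCompl] at h1
    obtain ⟨⟨s, hs⟩, hsc⟩ := h1
    obtain ⟨s, rfl⟩ := hsurj s
    rw [← map_mul, ← RingHom.mem_ker, hker] at hsc
    rw [Ideal.mem_comap, ← Ideal.unit_mul_mem_iff_mem _ (IsLocalization.map_units _ (⟨s, fun h => hs ((hwv s).2 h)⟩ :
      v.asIdeal.primeCompl)), ← map_mul]
    exact Ideal.mem_map_of_mem _ hsc
  · intro h
    rw [Ideal.map_eq_bot_iff_le_ker]
    intro t ht
    obtain ⟨c, rfl⟩ := hsurj t
    rw [hwv] at ht
    have h1 := Ideal.mem_map_of_mem (algebraMap C (Localization.AtPrime v.asIdeal)) ht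
    rw [← h, IsLocalization.mem_map_algebraMap_iff v.asIdeal.primeCompl] at h1
    obtain ⟨⟨⟨a, ha⟩, ⟨s, hs⟩⟩, has⟩ := h1
    rw [← map_mul] at has
    obtain ⟨⟨r, hr⟩, hrs⟩ := (IsLocalization.eq_iff_exists v.asIdeal.primeCompl _).1 has
    rw [RingHom.mem_ker, IsLocalization.map_eq_zero_iff w.primeCompl]
    refine ⟨⟨π (r * s), fun h => (v.asIdeal.primeCompl.mul_mem hr hs) ((hwv _).1 h)⟩, ?_⟩
    show π (r * s) * π c = 0
    rw [← map_mul, ← RingHom.mem_ker, hker]
    dsimp only at hrs
    rw [show r * s * c = r * (c * s) by ring, hrs]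
    exact Ideal.mul_mem_left _ _ ha

end Groth.Agent.NodalQ
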