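import Groth.Agent.NodalQ.Branch
import Groth.Agent.NodalLib.OverNode
import Groth.Agent.CanonDual.NodeRegular
import Mathlib.FieldTheory.Perfect
import Mathlib.RingTheory.PowerBasis

/-!
# Nodes of schemes: separability of the residue field and the criterion
-/

set_option autoImplicit false
set_option linter.style.haveILetI false
set_option linter.unusedSectionVars false
set_option backward.isDefEq.respectTransparency false
set_option backward.isDefEq.respectTransparency.types false
set_option maxHeartbeats 1000000

universe u

open CategoryTheory CategoryTheory.Limits AlgebraicGeometry IsLocalRing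
open scoped TensorProduct

noncomputable section

namespace Groth.Agent.NodalQ

/-- A field whose tensor product with an algebraically closed field is reduced is separable. -/
theorem isSeparable_of_isReduced_tensor (k κ L : Type u) [Field k] [Field κ] [Field L] [PerfectField L]
    [Algebra k κ] [Algebra.IsAlgebraic k κ] [Algebra k L] [_root_.IsReduced (L ⊗[k] κ)] : Algebra.IsSeparable k κ := by
  refine ⟨fun t => ?_⟩
  let f := minpoly k t
  have hint : IsIntegral k t := (Algebra.IsAlgebraic.isAlgebraic t).isIntegral
  show f.Separable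
  rw [← Polynomial.separable_map (algebraMap k L), PerfectField.separable_iff_squarefree]
  rintro g ⟨h, hgh⟩
  by_contra hg
  let T : L ⊗[k] κ := 1 ⊗ₜ t
  have hf0 : f.map (algebraMap k L) ≠ 0 := Polynomial.map_ne_zero (minpoly.ne_zero hint)
  have hfT : Polynomial.aeval T (f.map (algebraMap k L)) = 0 := by
    rw [Polynomial.aeval_map_algebraMap,
      show T = Algebra.TensorProduct.includeRight (R := k) (A := L) t from rfl, Polynomial.aeval_algHom_apply,
      minpoly.aeval, map_zero]
  have hghT : Polynomial.aeval T (g * h) = 0 := by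
    refine IsNilpotent.eq_zero ⟨2, ?_⟩
    rw [← map_pow, show (g * h) ^ 2 = g * g * h * h by ring, ← hgh, map_mul, hfT, zero_mul]
  have hgh0 : g * h ≠ 0 := fun h0 => hf0 (by rw [hgh, mul_assoc, h0, mul_zero])
  have hg0 : g ≠ 0 := left_ne_zero_of_mul hgh0
  have hdeg : (g * h).natDegree < f.natDegree := by
    have h1 : 0 < g.natDegree := Nat.pos_of_ne_zero fun h0 => hg (by
      rw [Polynomial.eq_C_of_natDegree_eq_zero h0] at hg0 ⊢
      exact Polynomial.isUnit_C.2 (Ne.isUnit fun h00 => hg0 (by rw [h00, map_zero])))
    rw [← Polynomial.natDegree_map (p := f) (algebraMap k L), hgh, mul_assoc g g h,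
      Polynomial.natDegree_mul hg0 hgh0]
    omega
  have hli : LinearIndependent L fun i : Fin f.natDegree => T ^ (i : ℕ) := by
    have h1 := Module.Flat.linearIndependent_one_tmul (R := k) (S := L) (linearIndependent_pow t)
    have h2 : (fun i : Fin f.natDegree => T ^ (i : ℕ)) = fun i : Fin f.natDegree => (1 : L) ⊗ₜ[k] (t ^ (i : ℕ)) :=
      funext fun i => by simp [T, Algebra.TensorProduct.tmul_pow]
    rw [h2]
    exact h1
  rw [Polynomial.aeval_eq_sum_range' hdeg, Finset.sum_range] at hghT
  refine hgh0 (Polynomial.ext fun i => ?_)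
  rw [Polynomial.coeff_zero]
  by_cases hi : i < f.natDegree
  · exact Fintype.linearIndependent_iff.1 hli _ hghT ⟨i, hi⟩
  · exact Polynomial.coeff_eq_zero_of_natDegree_lt (by omega)

section Scheme

variable (k : Type u) [Field k] (X : Scheme.{u}) [X.Over (Spec (CommRingCat.of k))]
  [LocallyOfFiniteType (X ↘ Spec (CommRingCat.of k))] (L : Type u) [Field L] [Algebra k L]

private abbrev str := X ↘ Spec (CommRingCat.of k)
private abbrev gL := Spec.map (CommRingCat.ofHom (algebraMap k L))

theorem isClosed_of_over (v : Curv2.bc k X L) (hx : IsClosed ({Curv2.bcFst k X L v} : Set X)) :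
    IsClosed ({v} : Set (Curv2.bc k X L)) := by
  letI : (Curv2.bc k X L).Over (Spec (CommRingCat.of L)) := ⟨Curv2.bcSnd k X L⟩
  haveI : LocallyOfFiniteType ((Curv2.bc k X L) ↘ Spec (CommRingCat.of L)) :=
    inferInstanceAs (LocallyOfFiniteType (pullback.snd (str k X) (gL k L)))
  rw [NodalLib.isClosed_iff_rd_eq_zero (k := L)]
  have h0 := FibDim.rd_baseChange_le (IsPullback.of_hasPullback (str k X) (gL k L)) v
  rw [(NodalLib.isClosed_iff_rd_eq_zero (k := k) _).1 hx] at h0
  exact Nat.le_zero.1 h0

/-- The closed fibre of the base change at a point over a closed point is zero-dimensional. -/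
theorem exists_pow_le_map (v : Curv2.bc k X L) (hx : IsClosed ({Curv2.bcFst k X L v} : Set X)) :
    ∃ N, maximalIdeal ((Curv2.bc k X L).presheaf.stalk v) ^ N ≤
      (maximalIdeal (X.presheaf.stalk (Curv2.bcFst k X L v))).map ((Curv2.bcFst k X L).stalkMap v).hom := by
  let W := Curv2.bc k X L
  let f := Curv2.bcFst k X L
  haveI : LocallyOfFiniteType (Curv2.bcSnd k X L) := inferInstanceAs (LocallyOfFiniteType (pullback.snd (str k X) (gL k L)))
  haveI : IsLocallyNoetherian W := LocallyOfFiniteType.isLocallyNoetherian (Curv2.bcSnd k X L)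
  refine Ideal.exists_pow_le_of_le_radical_of_fg_radical ?_ (IsNoetherian.noetherian _)
  rw [Ideal.radical_eq_sInf]
  refine le_sInf fun p ⟨hJp, hp⟩ => ?_
  let q : Spec (W.presheaf.stalk v) := ⟨p, hp⟩
  have hv' : f (W.fromSpecStalk v q) = f v := by
    rw [← Scheme.Hom.comp_apply, ← Scheme.SpecMap_stalkMap_fromSpecStalk f, Scheme.Hom.comp_apply]
    have hq : Spec.map (f.stalkMap v) q = IsLocalRing.closedPoint (X.presheaf.stalk (f v)) := by
      refine PrimeSpectrum.ext ?_
      show p.comap (f.stalkMap v).hom = maximalIdeal _
      refine ((maximalIdeal.isMaximal _).eq_of_le ?_ (Ideal.map_le_iff_le_comap.1 hJp)).symm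
      exact Ideal.IsPrime.ne_top inferInstance
    rw [hq]
    exact Scheme.fromSpecStalk_closedPoint
  have hsp : W.fromSpecStalk v q ⤳ v := by
    have := (Scheme.range_fromSpecStalk (X := W) (x := v)).le ⟨q, rfl⟩
    exact this
  have hcl := isClosed_of_over k X L (W.fromSpecStalk v q) (by rw [hv']; exact hx)
  have hveq : W.fromSpecStalk v q = v := by
    have := specializes_iff_mem_closure.1 hsp
    rw [hcl.closure_eq] at this
    exact this.symm
  have hqc : q = IsLocalRing.closedPoint (W.presheaf.stalk v) :=
    (W.fromSpecStalk v).isEmbedding.injective (hveq.trans Scheme.fromSpecStalk_closedPoint.symm)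
  exact (congrArg PrimeSpectrum.asIdeal hqc).ge

theorem isIso_fibre (x : X) :
    letI := Curv2.resAlgebra k X x
    Nonempty (pullback (Curv2.bcFst k X L) (X.fromSpecResidueField x) ≅
      Spec (CommRingCat.of (X.residueField x ⊗[k] L))) := by
  letI := Curv2.resAlgebra k X x
  let i := X.fromSpecResidueField x
  let f := Curv2.bcFst k X L
  have h1 : IsPullback (pullback.snd f i) (pullback.fst f i ≫ Curv2.bcSnd k X L) (i ≫ str k X) (gL k L) :=
    (IsPullback.of_hasPullback f i).flip.paste_vert
      (IsPullback.of_hasPullback (str k X) (gL k L) : IsPullback f (Curv2.bcSnd k X L) (str k X) (gL k L))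
  have h2 : i ≫ str k X = Spec.map (CommRingCat.ofHom (algebraMap k (X.residueField x))) := GeomConn5.spec_resMap x
  rw [h2] at h1
  exact ⟨h1.isoPullback ≪≫ pullbackSpecIso k (X.residueField x) L⟩

/-- If the residue field stays reduced after base change, the maximal ideal generates the maximal ideal. -/
theorem map_maximalIdeal_of_isReduced_tensor (v : Curv2.bc k X L) (hx : IsClosed ({Curv2.bcFst k X L v} : Set X))
    (hred : letI := Curv2.resAlgebra k X (Curv2.bcFst k X L v)
      _root_.IsReduced (X.residueField (Curv2.bcFst k X L v) ⊗[k] L)) :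
    (maximalIdeal (X.presheaf.stalk (Curv2.bcFst k X L v))).map ((Curv2.bcFst k X L).stalkMap v).hom =
      maximalIdeal ((Curv2.bc k X L).presheaf.stalk v) := by
  let f := Curv2.bcFst k X L
  let x := f v
  let i := X.fromSpecResidueField x
  haveI : IsClosedImmersion i := isClosed_singleton_iff_isClosedImmersion.mp hx
  obtain ⟨z, hz⟩ : ∃ z : ↥(pullback f i), pullback.fst f i z = v := by
    obtain ⟨z, hz, -⟩ := Scheme.Pullback.exists_preimage_pullback (f := f) (g := i) v
      (IsLocalRing.closedPoint (X.residueField x)) (Scheme.fromSpecResidueField_apply x _).symm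
    exact ⟨z, hz⟩
  have e := H23.GysinPb.fibreLen_snd f i z
  rw [hz] at e
  haveI : IsReduced (pullback f i) := by
    letI := Curv2.resAlgebra k X x
    obtain ⟨io⟩ := isIso_fibre k X L x
    haveI := hred
    exact isReduced_of_isOpenImmersion io.hom
  have hclosed : ∀ z' : ↥(pullback f i), IsClosed ({z'} : Set ↥(pullback f i)) := by
    intro z'
    have h1 : f (pullback.fst f i z') = x := by
      rw [← Scheme.Hom.comp_apply, pullback.condition]
      exact Scheme.fromSpecResidueField_apply x _
    have h2 := (isClosed_of_over k X L _ (by rw [h1]; exact hx)).preimage (pullback.fst f i).continuous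
    rwa [show (pullback.fst f i) ⁻¹' {pullback.fst f i z'} = {z'} from by
      ext t; exact ⟨fun h => (pullback.fst f i).isClosedEmbedding.injective h, fun h => h ▸ rfl⟩] at h2
  have hfield : IsField ((pullback f i).presheaf.stalk z) := by
    haveI : Ring.KrullDimLE 0 ((pullback f i).presheaf.stalk z) := by
      refine Ring.krullDimLE_iff.2 ?_
      rw [ringKrullDim_stalk_eq_coheight, show Order.coheight z = 0 from ?_]
      · rfl
      rw [Order.coheight_eq_zero]
      intro z' hz'
      exact ((hclosed z').closure_eq.le (specializes_iff_mem_closure.1 (show z' ⤳ z from hz')) : z = z').ge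
    exact Ring.KrullDimLE.isField_of_isReduced
  have hlen : H23.FiniteFibreSum.fibreLen (pullback.snd f i) z = 1 := by
    unfold H23.FiniteFibreSum.fibreLen
    rw [show (maximalIdeal ((Spec (X.residueField x)).presheaf.stalk (pullback.snd f i z))).map
        ((pullback.snd f i).stalkMap z).hom = maximalIdeal ((pullback f i).presheaf.stalk z) from ?_]
    · exact NodalLib.ell_maximal
    rw [(IsLocalRing.isField_iff_maximalIdeal_eq).1 hfield, eq_bot_iff]
    refine le_trans (IsLocalRing.map_maximalIdeal_le _) ?_
    rw [(IsLocalRing.isField_iff_maximalIdeal_eq).1 hfield]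
  rw [hlen] at e
  haveI : IsSimpleModule ((Curv2.bc k X L).presheaf.stalk v)
      (_ ⧸ (maximalIdeal (X.presheaf.stalk x)).map (f.stalkMap v).hom) := Module.length_eq_one_iff.1 e.symm
  exact IsLocalRing.eq_maximalIdeal ⟨isSimpleModule_iff_isCoatom.1 this⟩

/-- If the maximal ideal generates the maximal ideal at all points above, the residue field stays reduced. -/
theorem isReduced_tensor_of_map (x : X) (hx : IsClosed ({x} : Set X))
    (h : ∀ v : Curv2.bc k X L, Curv2.bcFst k X L v = x →
      (maximalIdeal (X.presheaf.stalk (Curv2.bcFst k X L v))).map ((Curv2.bcFst k X L).stalkMap v).hom =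
        maximalIdeal ((Curv2.bc k X L).presheaf.stalk v)) :
    letI := Curv2.resAlgebra k X x
    _root_.IsReduced (X.residueField x ⊗[k] L) := by
  letI := Curv2.resAlgebra k X x
  let f := Curv2.bcFst k X L
  let i := X.fromSpecResidueField x
  haveI : IsClosedImmersion i := isClosed_singleton_iff_isClosedImmersion.mp hx
  haveI : ∀ z : ↥(pullback f i), _root_.IsReduced ((pullback f i).presheaf.stalk z) := fun z => by
    have h1 : f (pullback.fst f i z) = x := by
      rw [← Scheme.Hom.comp_apply, pullback.condition]
      exact Scheme.fromSpecResidueField_apply x _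
    have e := H23.GysinPb.fibreLen_snd f i z
    have hl : H23.FiniteFibreSum.fibreLen f (pullback.fst f i z) = 1 := by
      unfold H23.FiniteFibreSum.fibreLen
      rw [h _ h1]
      exact NodalLib.ell_maximal
    rw [hl] at e
    unfold H23.FiniteFibreSum.fibreLen at e
    have hpt : maximalIdeal ((Spec (X.residueField x)).presheaf.stalk (pullback.snd f i z)) = ⊥ := by
      haveI : Subsingleton ↥(Spec (X.residueField x)) := inferInstanceAs (Subsingleton (PrimeSpectrum (X.residueField x)))
      exact IsLocalRing.isField_iff_maximalIdeal_eq.1 (FibFlatMod.isField_stalk_generic (Subsingleton.elim _ _))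
    rw [hpt, Ideal.map_bot] at e
    haveI : IsSimpleModule ((pullback f i).presheaf.stalk z)
        (_ ⧸ (⊥ : Ideal ((pullback f i).presheaf.stalk z))) := Module.length_eq_one_iff.1 e
    have hbot : (⊥ : Ideal ((pullback f i).presheaf.stalk z)) = maximalIdeal _ :=
      IsLocalRing.eq_maximalIdeal ⟨isSimpleModule_iff_isCoatom.1 this⟩
    letI := (IsLocalRing.isField_iff_maximalIdeal_eq.2 hbot.symm).toField
    infer_instance
  haveI : IsReduced (pullback f i) := isReduced_of_isReduced_stalk _
  obtain ⟨io⟩ := isIso_fibre k X L x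
  haveI := isReduced_of_isOpenImmersion io.inv
  exact (affine_isReduced_iff (CommRingCat.of (X.residueField x ⊗[k] L))).1 inferInstance

end Scheme

section Node

theorem finite_residueField (k : Type u) [Field k] (X : Scheme.{u}) [X.Over (Spec (CommRingCat.of k))]
    [LocallyOfFiniteType (X ↘ Spec (CommRingCat.of k))] (x : X) (hx : IsClosed ({x} : Set X)) :
    letI := Curv2.resAlgebra k X x
    Module.Finite k (X.residueField x) := by
  letI := Curv2.resAlgebra k X x
  haveI : IsClosedImmersion (X.fromSpecResidueField x) :=
    IsClosedImmersion.of_isPreimmersion _ (by rw [Scheme.range_fromSpecResidueField]; exact hx)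
  have h : LocallyOfFiniteType (Spec.map (CommRingCat.ofHom (Curv2.resMap k X x))) := by
    rw [← GeomConn5.spec_resMap]; infer_instance
  haveI : Algebra.FiniteType k (X.residueField x) :=
    (HasRingHomProperty.Spec_iff (P := @LocallyOfFiniteType)).1 h
  exact finite_of_finite_type_of_isJacobsonRing k (X.residueField x)

variable (k : Type u) [Field k] (X : Scheme.{u}) [X.Over (Spec (CommRingCat.of k))]
  [LocallyOfFiniteType (X ↘ Spec (CommRingCat.of k))]

/-- Over a node the maximal ideal stays maximal, the stalk is reduced and satisfies the criterion. -/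
theorem node_spec (hdim : topologicalKrullDim X ≤ 1) (v : Curv2.bc k X (AlgebraicClosure k))
    (hnode : Curv2.IsNode k X (Curv2.bcFst k X (AlgebraicClosure k) v)) :
    (maximalIdeal (X.presheaf.stalk (Curv2.bcFst k X (AlgebraicClosure k) v))).map
        ((Curv2.bcFst k X (AlgebraicClosure k)).stalkMap v).hom =
      maximalIdeal ((Curv2.bc k X (AlgebraicClosure k)).presheaf.stalk v) ∧
    QCrit (X.presheaf.stalk (Curv2.bcFst k X (AlgebraicClosure k) v)) := by
  let K := AlgebraicClosure k
  let W := Curv2.bc k X K
  let f := Curv2.bcFst k X K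
  letI : W.Over (Spec (CommRingCat.of K)) := ⟨Curv2.bcSnd k X K⟩
  haveI : LocallyOfFiniteType (W ↘ Spec (CommRingCat.of K)) :=
    inferInstanceAs (LocallyOfFiniteType (pullback.snd (str k X) (gL k K)))
  haveI : IsLocallyNoetherian X := LocallyOfFiniteType.isLocallyNoetherian (str k X)
  haveI : IsLocallyNoetherian W := LocallyOfFiniteType.isLocallyNoetherian (W ↘ Spec (CommRingCat.of K))
  haveI : Flat f := MorphismProperty.pullback_fst (str k X) (gL k K) inferInstance
  have hodp := NodalLib.isOrdDoublePt_of_over_node k X _ hnode v rfl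
  letI := Curv2.stalkAlgebra K W v
  have hv := isClosed_of_over k X K v hnode.1
  have hcrit := (NodalLib.isOrdDoublePt_iff_crit (NodalLib.exists_sub_mem_of_closed hv)).1 hodp
  haveI hredW : _root_.IsReduced (W.presheaf.stalk v) := NodalLib.isReduced_of_isOrdDoublePt hodp
  haveI : IsLocalHom (f.stalkMap v).hom := f.toLRSHom.prop v
  have hflat : (f.stalkMap v).hom.Flat := Flat.stalkMap f v
  haveI : _root_.IsReduced (X.presheaf.stalk (f v)) := by
    refine isReduced_of_injective (f.stalkMap v).hom ?_
    algebraize [(f.stalkMap v).hom]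
    haveI : IsLocalHom (algebraMap (X.presheaf.stalk (f v)) (W.presheaf.stalk v)) := f.toLRSHom.prop v
    haveI : Module.FaithfullyFlat (X.presheaf.stalk (f v)) (W.presheaf.stalk v) :=
      Module.FaithfullyFlat.of_flat_of_isLocalHom
    exact FaithfulSMul.algebraMap_injective (X.presheaf.stalk (f v)) (W.presheaf.stalk v)
  have hnp : ¬ (maximalIdeal (X.presheaf.stalk (f v))).IsPrincipal := fun h =>
    CanonDual.NodeRegular.not_isNode_of_isRegularLocalRing k X hdim _ (isRegularLocalRing_of_isPrincipal h) hnode
  have hm := map_maximalIdeal_of_crit (f.stalkMap v).hom hflat hnp (exists_pow_le_map k X K v hnode.1) hcrit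
  exact ⟨hm, QCrit.of_crit _ hflat hm hcrit⟩

/-- The residue field of a node is separable over the base. -/
theorem isSeparable_of_node (hdim : topologicalKrullDim X ≤ 1) (x : X) (hx : Curv2.IsNode k X x) :
    letI := Curv2.resAlgebra k X x
    Algebra.IsSeparable k (X.residueField x) := by
  letI := Curv2.resAlgebra k X x
  let K := AlgebraicClosure k
  haveI := isReduced_tensor_of_map k X K x hx.1 fun v hv => (node_spec k X hdim v (hv ▸ hx)).1
  haveI : _root_.IsReduced (K ⊗[k] X.residueField x) :=
    isReduced_of_injective (Algebra.TensorProduct.comm k K (X.residueField x)).toRingHom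
      (Algebra.TensorProduct.comm k K (X.residueField x)).injective
  haveI : Module.Finite k (X.residueField x) := finite_residueField k X x hx.1
  exact isSeparable_of_isReduced_tensor k (X.residueField x) K

end Node

end Groth.Agent.NodalQ
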