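import Groth.Agent.NodalQ.PointCompletion
import Groth.Agent.NodalQ.PointUnram
import Groth.Agent.NodalQ.Scheme
import Groth.Agent.GeomRedFlat5.Open

/-!
# Nodes of fibres at geometric points of affine charts
-/

set_option autoImplicit false
set_option linter.style.haveILetI false
set_option linter.unusedSectionVars false
set_option backward.isDefEq.respectTransparency false
set_option backward.isDefEq.respectTransparency.types false
set_option maxHeartbeats 1000000

universe u

open CategoryTheory CategoryTheory.Limits AlgebraicGeometry IsLocalRing Groth.Agent.NodalLib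
open scoped TensorProduct

attribute [local instance] Algebra.TensorProduct.rightAlgebra

noncomputable section

namespace Groth.Agent.NodalQ

theorem crit_of_ringEquiv {A B : Type u} [CommRing A] [CommRing B] [IsLocalRing A] [IsLocalRing B] (e : A ≃+* B)
    (h : Crit A) : Crit B := by
  haveI : IsLocalHom (e : A →+* B) := inferInstance
  exact Crit.map (e : A →+* B) (RingHom.Flat.of_bijective e.bijective)
    (map_maximalIdeal_of_surjective _ e.surjective) h

theorem crit_congr {A B : Type u} [CommRing A] [CommRing B] [IsLocalRing A] [IsLocalRing B] (e : A ≃+* B) :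
    Crit A ↔ Crit B := ⟨crit_of_ringEquiv e, crit_of_ringEquiv e.symm⟩

theorem maximalIdeal_mem_ass_of_ringEquiv {A B : Type u} [CommRing A] [CommRing B] [IsLocalRing A] [IsLocalRing B]
    [IsNoetherianRing A] [IsNoetherianRing B]
    (e : A ≃+* B) (h : maximalIdeal A ∈ associatedPrimes A A) : maximalIdeal B ∈ associatedPrimes B B := by
  rw [Alg6.mem_ass_iff] at h ⊢
  obtain ⟨-, w, hw⟩ := h
  refine ⟨(maximalIdeal.isMaximal B).isPrime, e w, fun b => ?_⟩
  have h1 : b ∈ maximalIdeal B ↔ e.symm b ∈ maximalIdeal A := by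
    simp only [mem_maximalIdeal, mem_nonunits_iff, isUnit_map_iff]
  have h2 : e.symm b • w = 0 ↔ b • e w = 0 := by
    simp only [smul_eq_mul]
    rw [← e.map_eq_zero_iff, map_mul, e.apply_symm_apply]
  exact h1.trans ((hw _).trans h2)

theorem isReduced_congr {A B : Type u} [CommRing A] [CommRing B] (e : A ≃+* B) :
    _root_.IsReduced A ↔ _root_.IsReduced B :=
  ⟨fun _ => isReduced_of_injective e.symm.toRingHom e.symm.injective,
    fun _ => isReduced_of_injective e.toRingHom e.injective⟩

section Chart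

variable {C S : Scheme.{u}} (π : C ⟶ S) [LocallyOfFiniteType π] {A B : Type u} [CommRing A] [CommRing B]
  [Algebra A B] [Algebra.FiniteType A B]
  (j : Spec (CommRingCat.of B) ⟶ C) [IsOpenImmersion j] (i : Spec (CommRingCat.of A) ⟶ S) [IsOpenImmersion i]
  (h : j ≫ π = Spec.map (CommRingCat.ofHom (algebraMap A B)) ≫ i)
include h

/-- The node criterion on an affine chart. -/
theorem node_chart (p : C) (q : Spec (CommRingCat.of B)) (hp : j q = p)
    (qb : PrimeSpectrum (B ⧸ Fitt.ideal B (KaehlerDifferential A B) 1))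
    (hq : PrimeSpectrum.comap (Ideal.Quotient.mk _) qb = q) :
    (@Curv2.IsNode (S.residueField (π p)) _ (π.fiber (π p)) ⟨π.fiberToSpecResidueField (π p)⟩ (π.asFiber p) ↔
      (GeomRedFlat5.E π p ∧ Algebra.IsUnramifiedAt A qb.asIdeal)) ∧
    ((∀ z : ↥(pullback π (Spec.map (CommRingCat.ofHom (algebraMap (S.residueField (π p)) (AlgebraicClosure (S.residueField (π p))))) ≫
        S.fromSpecResidueField (π p))), pullback.fst π _ z = p → IsClosed ({z} : Set ↥(pullback π _)) →
        maximalIdeal ((pullback π _).presheaf.stalk z) ∉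
          associatedPrimes ((pullback π _).presheaf.stalk z) ((pullback π _).presheaf.stalk z)) →
      Algebra.IsUnramifiedAt A qb.asIdeal →
      @Curv2.IsNode (S.residueField (π p)) _ (π.fiber (π p)) ⟨π.fiberToSpecResidueField (π p)⟩ (π.asFiber p)) := by
  classical
  let s := π p
  let κ := S.residueField s
  let W := π.fiber s
  letI oW : W.Over (Spec (CommRingCat.of κ)) := ⟨π.fiberToSpecResidueField s⟩
  haveI : LocallyOfFiniteType (W ↘ Spec (CommRingCat.of κ)) :=
    inferInstanceAs (LocallyOfFiniteType (pullback.snd π (S.fromSpecResidueField s)))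
  let K := AlgebraicClosure κ
  let φK : κ ⟶ CommRingCat.of K := CommRingCat.ofHom (algebraMap κ K)
  -- the residue field map factors through the chart
  have hs : Set.range (S.fromSpecResidueField s) ⊆ Set.range i := by
    rw [Scheme.range_fromSpecResidueField, Set.singleton_subset_iff]
    refine ⟨Spec.map (CommRingCat.ofHom (algebraMap A B)) q, ?_⟩
    rw [← Scheme.Hom.comp_apply, ← h, Scheme.Hom.comp_apply, hp]
  let ψ : CommRingCat.of A ⟶ κ := Spec.preimage (IsOpenImmersion.lift i _ hs)
  have hψ : Spec.map ψ ≫ i = S.fromSpecResidueField s := by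
    rw [Spec.map_preimage, IsOpenImmersion.lift_fac]
  letI : Algebra A K := (ψ ≫ φK).hom.toAlgebra
  let gK := Spec.map φK ≫ S.fromSpecResidueField s
  have hgK : Spec.map (CommRingCat.ofHom (algebraMap A K)) ≫ i = gK := by
    show Spec.map (ψ ≫ φK) ≫ i = _
    rw [Spec.map_comp, Category.assoc, hψ]
  let P := pullback π gK
  -- the affine chart of the geometric fibre
  let Cg := K ⊗[A] B
  let R' := Spec.map (CommRingCat.ofHom (algebraMap B Cg))
  let L' := Spec.map (CommRingCat.ofHom (algebraMap K Cg))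
  have sqA : IsPullback R' L' (Spec.map (CommRingCat.ofHom (algebraMap A B)))
      (Spec.map (CommRingCat.ofHom (algebraMap A K))) := GeomRedFlat5.isPullback_tensor A K B
  have sqS : IsPullback R' L' (j ≫ π) gK := by
    have h1 : IsPullback R' L' (Spec.map (CommRingCat.ofHom (algebraMap A B)) ≫ i)
        (Spec.map (CommRingCat.ofHom (algebraMap A K)) ≫ i) := by
      refine IsPullback.mk' (by rw [sqA.w_assoc]) (fun T φ φ' h1 h2 => sqA.hom_ext h1 h2) fun T a b hab => ?_
      rw [← Category.assoc, ← Category.assoc, cancel_mono] at hab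
      exact ⟨sqA.lift a b hab, sqA.lift_fst a b hab, sqA.lift_snd a b hab⟩
    rwa [← h, hgK] at h1
  let g : Spec (CommRingCat.of Cg) ⟶ P := pullback.lift (R' ≫ j) L' (by rw [Category.assoc]; exact sqS.w)
  have sqP : IsPullback R' g j (pullback.fst π gK) := by
    refine IsPullback.of_bot ?_ (by simp [g]) (IsPullback.of_hasPullback π gK).flip.flip
    simpa [g] using sqS
  haveI : IsOpenImmersion g := MorphismProperty.of_isPullback sqP inferInstance
  haveI : LocallyOfFiniteType (pullback.snd π gK) := inferInstance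
  haveI : JacobsonSpace P := LocallyOfFiniteType.jacobsonSpace (pullback.snd π gK)
  haveI : IsLocallyNoetherian P := LocallyOfFiniteType.isLocallyNoetherian (pullback.snd π gK)
  haveI : IsNoetherianRing Cg := Algebra.FiniteType.isNoetherianRing K Cg
  -- comparison with the base change of the fibre
  have sqW : IsPullback (Curv2.bcFst κ W K ≫ π.fiberι s) (Curv2.bcSnd κ W K) π gK :=
    (IsPullback.of_hasPullback (W ↘ Spec (CommRingCat.of κ)) (Spec.map φK)).paste_horiz
      (IsPullback.of_hasPullback π (S.fromSpecResidueField s))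
  let e : Curv2.bc κ W K ≅ P := sqW.isoPullback
  have he : ∀ xb, pullback.fst π gK (e.hom xb) = π.fiberι s (Curv2.bcFst κ W K xb) := fun xb => by
    rw [← Scheme.Hom.comp_apply, sqW.isoPullback_hom_fst, Scheme.Hom.comp_apply]
  haveI : IsIntegralHom (Spec.map φK) := by
    rw [IsIntegralHom.SpecMap_iff]
    exact algebraMap_isIntegral_iff.2 inferInstance
  haveI : IsIntegralHom (Curv2.bcFst κ W K) :=
    inferInstanceAs (IsIntegralHom (pullback.fst (W ↘ Spec (CommRingCat.of κ)) (Spec.map φK)))
  letI oB : (Curv2.bc κ W K).Over (Spec (CommRingCat.of K)) := ⟨Curv2.bcSnd κ W K⟩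
  haveI : LocallyOfFiniteType ((Curv2.bc κ W K) ↘ Spec (CommRingCat.of K)) :=
    inferInstanceAs (LocallyOfFiniteType (pullback.snd (W ↘ Spec (CommRingCat.of κ)) (Spec.map φK)))
  haveI : IsLocallyNoetherian (Curv2.bc κ W K) :=
    LocallyOfFiniteType.isLocallyNoetherian ((Curv2.bc κ W K) ↘ Spec (CommRingCat.of K))
  -- the local criterion at a point over `p`
  have key : ∀ xb : Curv2.bc κ W K, π.fiberι s (Curv2.bcFst κ W K xb) = p →
      ((IsClosed ({xb} : Set (Curv2.bc κ W K)) ∧ Crit ((Curv2.bc κ W K).presheaf.stalk xb)) →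
        (_root_.IsReduced (P.presheaf.stalk (e.hom xb)) ∧ Algebra.IsUnramifiedAt A qb.asIdeal)) ∧
      (((_root_.IsReduced (P.presheaf.stalk (e.hom xb)) ∨ (IsClosed ({e.hom xb} : Set P) →
          maximalIdeal (P.presheaf.stalk (e.hom xb)) ∉
            associatedPrimes (P.presheaf.stalk (e.hom xb)) (P.presheaf.stalk (e.hom xb)))) ∧
        Algebra.IsUnramifiedAt A qb.asIdeal) →
        (IsClosed ({xb} : Set (Curv2.bc κ W K)) ∧ Crit ((Curv2.bc κ W K).presheaf.stalk xb))) := by
    intro xb hxb
    have hz : pullback.fst π gK (e.hom xb) = p := (he xb).trans hxb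
    obtain ⟨v, hv⟩ : e.hom xb ∈ Set.range g := by
      have hr := Scheme.image_preimage_eq_of_isPullback sqP Set.univ
      rw [Set.preimage_univ, Set.image_univ, Set.image_univ] at hr
      rw [hr]
      exact ⟨q, hp.trans hz.symm⟩
    have hvq : PrimeSpectrum.comap (algebraMap B Cg) (v : PrimeSpectrum Cg) = q := by
      refine j.isOpenEmbedding.injective ?_
      show j (R' v) = j q
      rw [hp, ← hz, ← hv, ← Scheme.Hom.comp_apply, ← Scheme.Hom.comp_apply, sqP.w]
    let V : PrimeSpectrum Cg := v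
    have hcl : IsClosed ({xb} : Set (Curv2.bc κ W K)) ↔ V.asIdeal.IsMaximal := by
      rw [← PrimeSpectrum.isClosed_singleton_iff_isMaximal]
      have h1 : IsClosed ({e.hom xb} : Set P) ↔ IsClosed ({xb} : Set (Curv2.bc κ W K)) := by
        show IsClosed ({e.hom.homeomorph xb} : Set P) ↔ _
        rw [← Set.image_singleton, e.hom.homeomorph.isClosed_image]
      rw [← h1, ← hv, ← mem_closedPoints_iff, ← mem_closedPoints_iff]
      exact Set.ext_iff.1 g.isOpenEmbedding.preimage_closedPoints v
    let eS : (Curv2.bc κ W K).presheaf.stalk xb ≃+* Localization.AtPrime V.asIdeal :=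
      ((asIso (e.hom.stalkMap xb)).commRingCatIsoToRingEquiv.symm.trans
        ((P.presheaf.stalkCongr (.of_eq hv.symm)).commRingCatIsoToRingEquiv.trans
          ((asIso (g.stalkMap v)).commRingCatIsoToRingEquiv.trans
            (AlgebraicGeometry.StructureSheaf.stalkIso (CommRingCat.of Cg) v).symm.toRingEquiv)))
    haveI : IsNoetherianRing (Localization.AtPrime V.asIdeal) :=
      IsLocalization.isNoetherianRing V.asIdeal.primeCompl _ inferInstance
    let eP : P.presheaf.stalk (e.hom xb) ≃+* Localization.AtPrime V.asIdeal :=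
      (asIso (e.hom.stalkMap xb)).commRingCatIsoToRingEquiv.trans eS
    rw [hcl, crit_congr eS, isReduced_congr eP,
      isUnramifiedAt_quot_iff K (Fitt.ideal B (KaehlerDifferential A B) 1) V qb (hvq.trans hq.symm)]
    refine ⟨fun ⟨hmax, hc⟩ => ?_, fun ⟨hdep, hmax, hF⟩ => ⟨hmax, ?_⟩⟩
    · haveI := hmax
      rw [crit_iff_point (K := K) Cg V.asIdeal, fitt_kaehler_baseChange (A := A) (B := B)] at hc
      exact ⟨hc.1, hmax, hc.2⟩
    · haveI := hmax
      refine (crit_point (K := K) Cg V.asIdeal).2 ⟨?_, by rw [fitt_kaehler_baseChange (A := A) (B := B)]; exact hF⟩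
      refine hdep.imp_right fun h hass => h ?_ (maximalIdeal_mem_ass_of_ringEquiv eP.symm hass)
      show IsClosed ({e.hom.homeomorph xb} : Set P)
      rw [← Set.image_singleton, e.hom.homeomorph.isClosed_image]
      exact hcl.2 hmax
  have hodp : ∀ xb : Curv2.bc κ W K, IsClosed ({xb} : Set (Curv2.bc κ W K)) →
      ((letI := Curv2.stalkAlgebra K (Curv2.bc κ W K) xb
        Curv2.IsOrdDoublePt K ((Curv2.bc κ W K).presheaf.stalk xb)) ↔ Crit ((Curv2.bc κ W K).presheaf.stalk xb)) :=
    fun xb hxb => by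
      letI := Curv2.stalkAlgebra K (Curv2.bc κ W K) xb
      exact isOrdDoublePt_iff_crit (exists_sub_mem_of_closed hxb)
  have hback : ∀ xb : Curv2.bc κ W K, π.fiberι s (Curv2.bcFst κ W K xb) = p →
      IsClosed ({xb} : Set (Curv2.bc κ W K)) → Crit ((Curv2.bc κ W K).presheaf.stalk xb) →
      @Curv2.IsNode κ _ W ⟨π.fiberToSpecResidueField s⟩ (π.asFiber p) := by
    intro xb hxb' hc hcrit
    have hxb : Curv2.bcFst κ W K xb = π.asFiber p :=
      (π.fiberι s).isEmbedding.injective (hxb'.trans (π.fiberι_asFiber p).symm)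
    refine ⟨?_, xb, hxb, (hodp xb hc).2 hcrit⟩
    rw [← hxb, ← Set.image_singleton]
    exact (Curv2.bcFst κ W K).isClosedMap _ hc
  refine ⟨⟨?_, ?_⟩, ?_⟩
  · rintro ⟨hx, xb, hxb, hd⟩
    have hxb' : π.fiberι s (Curv2.bcFst κ W K xb) = p := by rw [hxb]; exact π.fiberι_asFiber p
    have hc : IsClosed ({xb} : Set (Curv2.bc κ W K)) := isClosed_of_over κ W K xb (by rw [hxb]; exact hx)
    obtain ⟨hred, hu⟩ := (key xb hxb').1 ⟨hc, (hodp xb hc).1 hd⟩
    exact ⟨GeomRedFlat5.E_of_isReduced K φK (e.hom xb) ((he xb).trans hxb') hred, hu⟩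
  · rintro ⟨hE, hu⟩
    obtain ⟨z, hz⟩ := GeomRedFlat5.exists_point π p K φK
    obtain ⟨xb, rfl⟩ := e.hom.homeomorph.surjective z
    have hxb' : π.fiberι s (Curv2.bcFst κ W K xb) = p := (he xb).symm.trans hz
    obtain ⟨hc, hcrit⟩ := (key xb hxb').2 ⟨Or.inl (GeomRedFlat5.isReduced_pullback_of_E hE K φK _ hz), hu⟩
    exact hback xb hxb' hc hcrit
  · intro hdep hu
    obtain ⟨z, hz⟩ := GeomRedFlat5.exists_point π p K φK
    obtain ⟨xb, rfl⟩ := e.hom.homeomorph.surjective z
    have hxb' : π.fiberι s (Curv2.bcFst κ W K xb) = p := (he xb).symm.trans hz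
    obtain ⟨hc, hcrit⟩ := (key xb hxb').2 ⟨Or.inr (hdep _ hz), hu⟩
    exact hback xb hxb' hc hcrit

theorem node_iff_chart (p : C) (q : Spec (CommRingCat.of B)) (hp : j q = p)
    (qb : PrimeSpectrum (B ⧸ Fitt.ideal B (KaehlerDifferential A B) 1))
    (hq : PrimeSpectrum.comap (Ideal.Quotient.mk _) qb = q) :
    @Curv2.IsNode (S.residueField (π p)) _ (π.fiber (π p)) ⟨π.fiberToSpecResidueField (π p)⟩ (π.asFiber p) ↔
      (GeomRedFlat5.E π p ∧ Algebra.IsUnramifiedAt A qb.asIdeal) :=
  (node_chart π j i h p q hp qb hq).1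

end Chart

end Groth.Agent.NodalQ
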