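import Groth.Agent.NodalQ.Fibres
import Groth.Agent.CMRelDim.Basic
import Groth.Agent.CanonDual.Curve
import Groth.Agent.AlgSpDec2.GeomRedLocus
import Groth.Agent.RegLoc6.Basic
import Groth.Agent.SmoothReg.Scheme

/-!
# The largest open subscheme on which a flat morphism is a nodal family of curves
-/

set_option autoImplicit false
set_option linter.style.haveILetI false
set_option linter.unusedSectionVars false
set_option backward.isDefEq.respectTransparency false
set_option backward.isDefEq.respectTransparency.types false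
set_option maxHeartbeats 1000000

universe u

open CategoryTheory CategoryTheory.Limits AlgebraicGeometry TopologicalSpace Groth.Agent
open scoped TensorProduct

attribute [local instance] Algebra.TensorProduct.rightAlgebra

noncomputable section

namespace Groth.Agent.NodalQ

theorem isUnramifiedAt_congr {R T T' : Type u} [CommRing R] [CommRing T] [CommRing T'] [Algebra R T] [Algebra R T']
    (e : T ≃ₐ[R] T') (P : PrimeSpectrum T') :
    Algebra.IsUnramifiedAt R (PrimeSpectrum.comap (e : T →+* T') P).asIdeal ↔ Algebra.IsUnramifiedAt R P.asIdeal := by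
  let P₀ := PrimeSpectrum.comap (e : T →+* T') P
  have hM : P₀.asIdeal.primeCompl.map (e.toRingEquiv.toMonoidHom) = P.asIdeal.primeCompl := by
    ext z
    constructor
    · rintro ⟨t, ht, rfl⟩
      exact ht
    · intro hz
      refine ⟨e.symm z, ?_, e.apply_symm_apply z⟩
      show e (e.symm z) ∉ P.asIdeal
      rwa [e.apply_symm_apply]
  let g := IsLocalization.ringEquivOfRingEquiv (Localization.AtPrime P₀.asIdeal) (Localization.AtPrime P.asIdeal)
    e.toRingEquiv hM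
  let ga : Localization.AtPrime P₀.asIdeal ≃ₐ[R] Localization.AtPrime P.asIdeal := AlgEquiv.ofRingEquiv (f := g) fun r => by
    rw [IsScalarTower.algebraMap_apply R T (Localization.AtPrime P₀.asIdeal),
      IsLocalization.ringEquivOfRingEquiv_eq, IsScalarTower.algebraMap_apply R T' (Localization.AtPrime P.asIdeal)]
    exact congrArg _ (e.commutes r)
  refine ⟨fun h => ?_, fun h => ?_⟩
  · haveI : Algebra.FormallyUnramified R (Localization.AtPrime P₀.asIdeal) := h
    exact Algebra.FormallyUnramified.of_equiv ga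
  · haveI : Algebra.FormallyUnramified R (Localization.AtPrime P.asIdeal) := h
    exact Algebra.FormallyUnramified.of_equiv ga.symm

/-- Unramifiedness of a closed subscheme is insensitive to base change. -/
theorem isUnramifiedAt_baseChange_quot {A B A' : Type u} [CommRing A] [CommRing B] [CommRing A'] [Algebra A B]
    [Algebra A A'] [Algebra.FiniteType A B] (F : Ideal B) (F' : Ideal (A' ⊗[A] B))
    (hF : F' = F.map (algebraMap B (A' ⊗[A] B))) (Q : PrimeSpectrum (A' ⊗[A] B))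
    (qb : PrimeSpectrum (B ⧸ F)) (qb' : PrimeSpectrum ((A' ⊗[A] B) ⧸ F'))
    (hQ : PrimeSpectrum.comap (algebraMap B (A' ⊗[A] B)) Q = PrimeSpectrum.comap (Ideal.Quotient.mk F) qb)
    (hQ' : PrimeSpectrum.comap (Ideal.Quotient.mk F') qb' = Q) :
    Algebra.IsUnramifiedAt A' qb'.asIdeal ↔ Algebra.IsUnramifiedAt A qb.asIdeal := by
  let π : A' ⊗[A] B →ₐ[A'] A' ⊗[A] (B ⧸ F) :=
    Algebra.TensorProduct.map (AlgHom.id A' A') (Ideal.Quotient.mkₐ A F)
  have hsurj : Function.Surjective π := LinearMap.lTensor_surjective A' Ideal.Quotient.mk_surjective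
  have hker : F' = RingHom.ker π := by
    refine hF.trans ((Algebra.TensorProduct.lTensor_ker (A := A') (Ideal.Quotient.mkₐ A F)
      Ideal.Quotient.mk_surjective).trans ?_).symm
    rw [show RingHom.ker (Ideal.Quotient.mkₐ A F) = F from Ideal.mk_ker]
    rfl
  let e : ((A' ⊗[A] B) ⧸ F') ≃ₐ[A'] A' ⊗[A] (B ⧸ F) :=
    (Ideal.quotientEquivAlgOfEq A' hker).trans (Ideal.quotientKerAlgEquivOfSurjective hsurj)
  have hemk : ∀ z, e (Ideal.Quotient.mk F' z) = π z := fun z => rfl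
  let W := PrimeSpectrum.comap (e.symm : A' ⊗[A] (B ⧸ F) →+* _) qb'
  rw [← isUnramifiedAt_congr e.symm qb']
  refine isUnramifiedAt_tensor_iff A' W qb (PrimeSpectrum.ext (Ideal.ext fun z => ?_))
  obtain ⟨b, rfl⟩ := Ideal.Quotient.mk_surjective z
  show e.symm ((1 : A') ⊗ₜ[A] Ideal.Quotient.mk F b) ∈ qb'.asIdeal ↔ _
  have h1 : (1 : A') ⊗ₜ[A] Ideal.Quotient.mk F b = e (Ideal.Quotient.mk F' (algebraMap B (A' ⊗[A] B) b)) := by
    rw [hemk]
    show _ = π ((1 : A') ⊗ₜ[A] b)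
    simp [π]
  rw [h1, AlgEquiv.symm_apply_apply]
  show algebraMap B (A' ⊗[A] B) b ∈ (PrimeSpectrum.comap (Ideal.Quotient.mk F') qb').asIdeal ↔
    b ∈ (PrimeSpectrum.comap (Ideal.Quotient.mk F) qb).asIdeal
  rw [hQ', ← hQ]
  rfl

theorem mem_range_comap_mk {B : Type u} [CommRing B] {F : Ideal B} {q : PrimeSpectrum B} (h : F ≤ q.asIdeal) :
    ∃ qb, PrimeSpectrum.comap (Ideal.Quotient.mk F) qb = q := by
  show q ∈ Set.range (PrimeSpectrum.comap (Ideal.Quotient.mk F))
  rw [range_comap_of_surjective _ _ Ideal.Quotient.mk_surjective, Ideal.mk_ker, PrimeSpectrum.mem_zeroLocus]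
  exact h

section General

variable {X S : Scheme.{u}} (f : X ⟶ S) [Flat f] [LocallyOfFinitePresentation f]

/-- Points at which the morphism is a nodal family of curves. -/
def nodalPts : Set X := {x | FlatMor.fibreDimAt f x = (1 : WithBot ℕ∞) ∧ SmoothOrNode f x}

theorem E_of_smoothOrNode (x : X) (h : x ∈ nodalPts f) (hs : ¬ ∃ U : X.Opens, x ∈ U ∧ Smooth (U.ι ≫ f)) :
    GeomRedFlat5.E f x := by
  obtain ⟨V, hV, hxV, -⟩ := exists_isAffineOpen_mem_and_subset (U := (⊤ : S.Opens)) (x := f x) trivial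
  obtain ⟨U, hU, hxU, hUV⟩ := exists_isAffineOpen_mem_and_subset (U := f ⁻¹ᵁ V) (x := x) hxV
  letI : Algebra Γ(S, V) Γ(X, U) := (f.appLE V U hUV).hom.toAlgebra
  haveI : Algebra.FinitePresentation Γ(S, V) Γ(X, U) := f.finitePresentation_appLE hV hU hUV
  obtain ⟨qb, hqb⟩ := mem_range_comap_mk (not_not.1 fun hF => hs ((smooth_iff_chart f hU hV hUV hxU h.1).2 hF))
  exact ((node_iff_chart f hU.fromSpec hV.fromSpec (IsAffineOpen.SpecMap_appLE_fromSpec f hV hU hUV).symm x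
    (hU.primeIdealOf ⟨x, hxU⟩) (hU.fromSpec_primeIdealOf ⟨x, hxU⟩) qb hqb).1 (h.2.resolve_left hs)).1

theorem isReduced_fibre_stalk (x : X) (h : x ∈ nodalPts f) :
    _root_.IsReduced ((f.fiber (f x)).presheaf.stalk (f.asFiber x)) := by
  haveI : LocallyOfFinitePresentation (f.fiberToSpecResidueField (f x)) :=
    inferInstanceAs (LocallyOfFinitePresentation (pullback.snd f (S.fromSpecResidueField (f x))))
  by_cases hs : ∃ U : X.Opens, x ∈ U ∧ Smooth (U.ι ≫ f)
  · rw [← f.fiberι_asFiber x] at hs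
    haveI := SmoothReg.isRegularLocalRing_stalk_of_mem_smoothLocus (f.fiberToSpecResidueField (f x))
      ((exists_smooth_iff _ _).1 ((exists_smooth_fibre_iff f (f x) (f.asFiber x)).2 hs))
    haveI := RegLoc6.isDomain_of_isRegularLocalRing ((f.fiber (f x)).presheaf.stalk (f.asFiber x))
    infer_instance
  · refine AlgSpDec2.GeomRedLocus.isReduced_stalk_of_E (f.fiberToSpecResidueField (f x)) _ ?_
    refine (GeomRedFlat5.E_iff_of_isPullback (IsPullback.of_hasPullback f (S.fromSpecResidueField (f x))) _).2 ?_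
    show GeomRedFlat5.E f (f.fiberι (f x) (f.asFiber x))
    rw [f.fiberι_asFiber]
    exact E_of_smoothOrNode f x h hs

theorem isOpen_nodalPts : IsOpen (nodalPts f) := by
  rw [isOpen_iff_forall_mem_open]
  intro x hx
  haveI := isReduced_fibre_stalk f x hx
  haveI : LocallyOfFiniteType (f.fiberToSpecResidueField (f x)) :=
    inferInstanceAs (LocallyOfFiniteType (pullback.snd f (S.fromSpecResidueField (f x))))
  haveI : IsLocallyNoetherian (f.fiber (f x)) :=
    LocallyOfFiniteType.isLocallyNoetherian (f.fiberToSpecResidueField (f x))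
  have hd : ringKrullDim ((f.fiber (f x)).presheaf.stalk (f.asFiber x)) ≤ 1 := by
    haveI : Nonempty {O : (f.fiber (f x)).Opens // f.asFiber x ∈ O} := ⟨⟨⊤, trivial⟩⟩
    obtain ⟨⟨O, hO⟩, he⟩ := ciInf_mem fun O : {O : (f.fiber (f x)).Opens // f.asFiber x ∈ O} =>
      topologicalKrullDim (O.1 : Set (f.fiber (f x)))
    have h1 := he.trans hx.1
    exact (ringKrullDim_eq_of_ringEquiv (O.stalkIso ⟨_, hO⟩).commRingCatIsoToRingEquiv).ge.trans
      ((SchTop.ringKrullDim_stalk_le (X := (O : Scheme.{u})) ⟨_, hO⟩).trans h1.le)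
  obtain ⟨W, hxW, hW⟩ := CMRelDim.exists_nhd_fibreDimAt_eq f x (CanonDual.isCohenMacaulay_of_reduced_one _ hd)
  exact ⟨_, fun y hy => ⟨(hW y hy.1).trans hx.1, hy.2⟩,
    isOpen_smoothOrNode_of_dim f W (fun y hy => (hW y hy).trans hx.1), hxW, hx.2⟩

theorem smoothOrNode_opens_iff (O : X.Opens) (x : (O : Scheme.{u})) (hd : FlatMor.fibreDimAt f x.1 = (1 : WithBot ℕ∞)) :
    SmoothOrNode (O.ι ≫ f) x ↔ SmoothOrNode f x.1 := by
  have hsmooth : (∃ U : (O : Scheme.{u}).Opens, x ∈ U ∧ Smooth (U.ι ≫ O.ι ≫ f)) ↔ ∃ U : X.Opens, x.1 ∈ U ∧ Smooth (U.ι ≫ f) := by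
    rw [exists_smooth_iff, exists_smooth_iff, ← Scheme.Hom.preimage_smoothLocus_eq]
    rfl
  by_cases hs : ∃ U : X.Opens, x.1 ∈ U ∧ Smooth (U.ι ≫ f)
  · exact iff_of_true (.inl (hsmooth.2 hs)) (.inl hs)
  refine (or_iff_right (mt hsmooth.1 hs)).trans (Iff.trans ?_ (or_iff_right hs).symm)
  obtain ⟨V, hV, hxV, -⟩ := exists_isAffineOpen_mem_and_subset (U := (⊤ : S.Opens)) (x := f x.1) trivial
  obtain ⟨U, hU, hxU, hUO⟩ := exists_isAffineOpen_mem_and_subset (U := O ⊓ f ⁻¹ᵁ V) (x := x.1) ⟨x.2, hxV⟩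
  have hUV : U ≤ f ⁻¹ᵁ V := fun z hz => (hUO hz).2
  letI : Algebra Γ(S, V) Γ(X, U) := (f.appLE V U hUV).hom.toAlgebra
  haveI : Algebra.FinitePresentation Γ(S, V) Γ(X, U) := f.finitePresentation_appLE hV hU hUV
  obtain ⟨qb, hqb⟩ := mem_range_comap_mk (not_not.1 fun hF => hs ((smooth_iff_chart f hU hV hUV hxU hd).2 hF))
  let q := hU.primeIdealOf ⟨x.1, hxU⟩
  have hr : Set.range hU.fromSpec ⊆ Set.range O.ι := by
    rw [hU.range_fromSpec, Scheme.Opens.range_ι]
    exact fun z hz => (hUO hz).1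
  let j := IsOpenImmersion.lift O.ι hU.fromSpec hr
  have hj : j ≫ O.ι = hU.fromSpec := IsOpenImmersion.lift_fac _ _ _
  haveI : IsOpenImmersion j := by
    have : IsOpenImmersion (j ≫ O.ι) := hj ▸ inferInstance
    exact IsOpenImmersion.of_comp j O.ι
  have hjq : j q = x := by
    refine O.ι.isOpenEmbedding.injective ?_
    show O.ι (j q) = O.ι x
    rw [← Scheme.Hom.comp_apply, hj, hU.fromSpec_primeIdealOf]
    rfl
  rw [node_iff_chart (O.ι ≫ f) j hV.fromSpec (by rw [← Category.assoc, hj]; exact (IsAffineOpen.SpecMap_appLE_fromSpec f hV hU hUV).symm) x q hjq qb hqb,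
    node_iff_chart f hU.fromSpec hV.fromSpec (IsAffineOpen.SpecMap_appLE_fromSpec f hV hU hUV).symm x.1 q
      (hU.fromSpec_primeIdealOf ⟨x.1, hxU⟩) qb hqb]
  exact and_congr (GeomRedFlat5.E_comp_openImmersion O.ι f x) Iff.rfl

theorem isNodalFamily_iff (O : X.Opens) :
    Curv2.IsNodalFamily (O.ι ≫ f) ↔ (O : Set X) ⊆ nodalPts f := by
  haveI : Flat (O.ι ≫ f) := inferInstance
  constructor
  · rintro ⟨-, -, h⟩ x hx
    have hd1 := fibreDimAt_eq_one (O.ι ≫ f) ⟨x, hx⟩ (h _).1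
    have hd : FlatMor.fibreDimAt f x = (1 : WithBot ℕ∞) := by
      rw [FibDim.fibreDimAt_openImmersion_comp] at hd1
      exact hd1
    refine ⟨hd, (smoothOrNode_opens_iff f O ⟨x, hx⟩ hd).1 ?_⟩
    exact (atWorstNodal_fibre_iff (O.ι ≫ f) (isOpen_smoothOrNode _ fun s => (h s).1) _).1 (h _).2 ⟨x, hx⟩ rfl
  · intro hO
    have hd : ∀ y : (O : Scheme.{u}), FlatMor.fibreDimAt (O.ι ≫ f) y = (1 : WithBot ℕ∞) := fun y => by
      rw [FibDim.fibreDimAt_openImmersion_comp]
      exact (hO y.2).1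
    have hfib : ∀ s, ∀ Z ∈ irreducibleComponents (↥((O.ι ≫ f).fiber s) : Type u), topologicalKrullDim Z = 1 := by
      intro s Z hZ
      have hmem : topologicalKrullDim Z ∈ (fun Z : Set ↥((O.ι ≫ f).fiber s) => topologicalKrullDim ↥Z) ''
          irreducibleComponents ↥((O.ι ≫ f).fiber s) := ⟨Z, hZ, rfl⟩
      rw [FibDim.fiber_component_dims] at hmem
      obtain ⟨z, ⟨-, hz⟩, he⟩ := hmem
      rw [← he]
      exact ((FibDim.fibreDimAt_eq_rd (O.ι ≫ f) hz).symm.trans (hd z))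
    refine ⟨inferInstance, inferInstance, fun s => ⟨hfib s, ?_⟩⟩
    exact (atWorstNodal_fibre_iff (O.ι ≫ f) (isOpen_smoothOrNode _ hfib) s).2 fun y _ =>
      (smoothOrNode_opens_iff f O y (hO y.2).1).2 (hO y.2).2

theorem mem_nodalPts_baseChange {X' S' : Scheme.{u}} {f' : X' ⟶ S'} {g : S' ⟶ S} {g' : X' ⟶ X} [Flat f']
    [LocallyOfFinitePresentation f'] (h : IsPullback g' f' f g) (x' : X') :
    x' ∈ nodalPts f' ↔ g' x' ∈ nodalPts f := by
  show _ ∧ _ ↔ _ ∧ _
  rw [FibDim.fibreDimAt_baseChange h x']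
  refine and_congr_right fun hd => ?_
  have hsmooth : (∃ U : X'.Opens, x' ∈ U ∧ Smooth (U.ι ≫ f')) ↔ ∃ U : X.Opens, g' x' ∈ U ∧ Smooth (U.ι ≫ f) := by
    rw [exists_smooth_iff, exists_smooth_iff, S2155.result f g f' g' h (Or.inl inferInstance)]
    rfl
  by_cases hs : ∃ U : X.Opens, g' x' ∈ U ∧ Smooth (U.ι ≫ f)
  · exact iff_of_true (.inl (hsmooth.2 hs)) (.inl hs)
  refine (or_iff_right (mt hsmooth.1 hs)).trans (Iff.trans ?_ (or_iff_right hs).symm)
  obtain ⟨V, hV, hxV, -⟩ := exists_isAffineOpen_mem_and_subset (x := f (g' x')) (U := ⊤) trivial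
  obtain ⟨U, hU, hxU, hUV⟩ := exists_isAffineOpen_mem_and_subset (x := g' x') (U := f ⁻¹ᵁ V) hxV
  have hgq : f' x' ∈ g ⁻¹ᵁ V := by
    show (f' ≫ g) x' ∈ V
    rw [← h.w]
    exact hxV
  obtain ⟨V', hV', hyV', hV'V⟩ := exists_isAffineOpen_mem_and_subset (x := f' x') (U := g ⁻¹ᵁ V) hgq
  obtain ⟨j, hj, hjq, hjp, hrange⟩ := FibDim.exists_chart h hV hU hUV hV' hV'V
  letI := (f.appLE V U hUV).hom.toAlgebra
  letI := (g.appLE V V' hV'V).hom.toAlgebra
  haveI : Algebra.FinitePresentation Γ(S, V) Γ(X, U) := f.finitePresentation_appLE hV hU hUV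
  obtain ⟨Q, hQ⟩ := hrange x' hyV' hxU
  let F := Fitt.ideal Γ(X, U) (KaehlerDifferential Γ(S, V) Γ(X, U)) 1
  obtain ⟨qb, hqb⟩ := mem_range_comap_mk (F := F) (q := hU.primeIdealOf ⟨g' x', hxU⟩)
    (not_not.1 fun hF => hs ((smooth_iff_chart f hU hV hUV hxU hd).2 hF))
  let B' := Γ(S', V') ⊗[Γ(S, V)] Γ(X, U)
  have hQq : PrimeSpectrum.comap (algebraMap Γ(X, U) B') Q = hU.primeIdealOf ⟨g' x', hxU⟩ := by
    refine hU.fromSpec.isOpenEmbedding.injective ?_
    rw [hU.fromSpec_primeIdealOf]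
    refine Eq.trans ?_ (congrArg g' hQ)
    show _ = (j ≫ g') Q
    rw [hjp]
    rfl
  have hF' : Fitt.ideal B' (KaehlerDifferential Γ(S', V') B') 1 = F.map (algebraMap Γ(X, U) B') :=
    fitt_kaehler_baseChange (A := Γ(S, V)) (B := Γ(X, U)) 1
  obtain ⟨qb', hqb'⟩ := mem_range_comap_mk (F := Fitt.ideal B' (KaehlerDifferential Γ(S', V') B') 1) (q := Q) (by
    rw [hF', Ideal.map_le_iff_le_comap]
    intro b hb
    show b ∈ (PrimeSpectrum.comap (algebraMap Γ(X, U) B') Q).asIdeal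
    rw [hQq, ← hqb]
    show Ideal.Quotient.mk F b ∈ qb.asIdeal
    rw [Ideal.Quotient.eq_zero_iff_mem.2 hb]
    exact qb.asIdeal.zero_mem)
  rw [node_iff_chart f' j hV'.fromSpec hjq x' Q hQ qb' hqb',
    node_iff_chart f hU.fromSpec hV.fromSpec (IsAffineOpen.SpecMap_appLE_fromSpec f hV hU hUV).symm (g' x') _
      (hU.fromSpec_primeIdealOf ⟨g' x', hxU⟩) qb hqb]
  exact and_congr (GeomRedFlat5.E_iff_of_isPullback h x')
    (isUnramifiedAt_baseChange_quot F _ hF' Q qb qb' (hQq.trans hqb.symm) hqb')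

end General

end Groth.Agent.NodalQ
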