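import Groth.Agent.NodalQ.Jacobian

/-!
# The Jacobian minors of a complete intersection germ of corank two
-/

set_option autoImplicit false
set_option linter.style.haveILetI false
set_option linter.unusedSectionVars false
set_option backward.isDefEq.respectTransparency false
set_option backward.isDefEq.respectTransparency.types false
set_option maxHeartbeats 1000000

universe u

open IsLocalRing Matrix MvPowerSeries

noncomputable section

namespace Groth.Agent.NodalQ

variable {k : Type u} [Field k] {n m : ℕ} (f : Fin m → MvPowerSeries (Fin n) k)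

local notation "A" => MvPowerSeries (Fin n) k
local notation "𝔪" => maximalIdeal (MvPowerSeries (Fin n) k)

/-- The Jacobian matrix. -/
abbrev jac : Matrix (Fin m) (Fin n) A := Matrix.of fun j i => MvPowerSeries.pderiv k i (f j)

/-- The ideal of the minors of size `n - 1`. -/
def minors : Ideal A :=
  Ideal.span {d : A | ∃ (ρ : Fin (n - 1) → Fin m) (γ : Fin (n - 1) → Fin n), Function.Injective ρ ∧ Function.Injective γ ∧
    d = ((jac f).submatrix ρ γ).det}

/-- The derivative in a constant direction. -/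
def dv (v : Fin n → k) (g : A) : A := ∑ i, MvPowerSeries.C (v i) * MvPowerSeries.pderiv k i g

/-- The linear part. -/
abbrev lin : Matrix (Fin m) (Fin n) k := (jac f).map MvPowerSeries.constantCoeff

/-- The kernel of the linear part. -/
abbrev kerLin : Submodule k (Fin n → k) := LinearMap.ker (lin f).mulVecLin

theorem mem_max_iff {g : A} : g ∈ 𝔪 ↔ MvPowerSeries.constantCoeff g = 0 := by
  rw [PSLib.maximalIdeal_eq_vars, PSLib.mem_vars_iff]

theorem X_mem (i : Fin n) : (MvPowerSeries.X i : A) ∈ 𝔪 := mem_max_iff.2 (MvPowerSeries.constantCoeff_X _)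

variable (v : Fin n → k)

theorem dv_add (g h : A) : dv v (g + h) = dv v g + dv v h := by
  simp [dv, map_add, mul_add, Finset.sum_add_distrib]

theorem dv_sub (g h : A) : dv v (g - h) = dv v g - dv v h := by
  simp [dv, map_sub, mul_sub, Finset.sum_sub_distrib]

theorem dv_mul (g h : A) : dv v (g * h) = g * dv v h + h * dv v g := by
  simp only [dv, Finset.mul_sum, ← Finset.sum_add_distrib]
  refine Finset.sum_congr rfl fun i _ => ?_
  rw [Derivation.leibniz, smul_eq_mul, smul_eq_mul]
  ring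

theorem dv_zero : dv v (0 : A) = 0 := by simp [dv]

theorem dv_sum {ι : Type*} (s : Finset ι) (g : ι → A) : dv v (∑ j ∈ s, g j) = ∑ j ∈ s, dv v (g j) := by
  classical
  induction s using Finset.induction with
  | empty => simp [dv_zero]
  | insert j s hj ih => rw [Finset.sum_insert hj, Finset.sum_insert hj, dv_add, ih]

theorem dv_X (i : Fin n) : dv v (MvPowerSeries.X i : A) = MvPowerSeries.C (v i) := by
  classical
  rw [dv, Finset.sum_eq_single i (fun j _ hj => by rw [MvPowerSeries.pderiv_X_of_ne hj.symm, mul_zero]) (by simp),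
    MvPowerSeries.pderiv_X_self, mul_one]

theorem dv_C (r : k) : dv v (MvPowerSeries.C r : A) = 0 := by simp [dv]

theorem dv_C_mul (r : k) (g : A) : dv v (MvPowerSeries.C r * g) = MvPowerSeries.C r * dv v g := by
  rw [dv_mul, dv_C, mul_zero, add_zero]

theorem dv_pow_mem (N : ℕ) {g : A} (hg : g ∈ 𝔪 ^ (N + 1)) : dv v g ∈ 𝔪 ^ N := by
  induction N generalizing g with
  | zero => simp
  | succ N ih =>
    rw [pow_succ'] at hg
    refine Submodule.mul_induction_on hg (fun a ha b hb => ?_) fun a b ha hb => ?_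
    · rw [dv_mul]
      refine add_mem ?_ (Ideal.mul_mem_right _ _ hb)
      rw [pow_succ']
      exact Ideal.mul_mem_mul ha (ih hb)
    · rw [dv_add]; exact add_mem ha hb

theorem dv_sq_mem {g : A} (hg : g ∈ 𝔪 ^ 2) : dv v g ∈ 𝔪 := by
  simpa using dv_pow_mem v 1 (g := g) hg

theorem cc_dv (g : A) : MvPowerSeries.constantCoeff (dv v g) =
    ∑ i, v i * MvPowerSeries.constantCoeff (MvPowerSeries.pderiv k i g) := by
  simp [dv, map_sum]

theorem sub_linear_mem_sq {g : A} (hg : g ∈ 𝔪) :
    g - ∑ i, MvPowerSeries.C (MvPowerSeries.constantCoeff (MvPowerSeries.pderiv k i g)) * MvPowerSeries.X i ∈ 𝔪 ^ 2 := by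
  classical
  rw [PSLib.maximalIdeal_eq_vars, PSLib.mem_pow_iff]
  intro d hd
  have hX : ∀ i, MvPowerSeries.constantCoeff (MvPowerSeries.pderiv k i g) = MvPowerSeries.coeff (Finsupp.single i 1) g := by
    intro i
    rw [← MvPowerSeries.coeff_zero_eq_constantCoeff_apply, MvPowerSeries.coeff_pderiv]
    simp
  rw [map_sub, map_sum]
  simp only [MvPowerSeries.coeff_C_mul, hX, MvPowerSeries.coeff_X]
  rcases Nat.lt_succ_iff.1 hd |>.lt_or_eq with h0 | h1
  · have : d = 0 := (Finsupp.degree_eq_zero_iff d).1 (by omega)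
    subst this
    rw [MvPowerSeries.coeff_zero_eq_constantCoeff_apply, mem_max_iff.1 hg]
    refine sub_eq_zero.2 (Finset.sum_eq_zero fun i _ => ?_).symm
    rw [if_neg (fun h => by simpa using congrArg (fun f => f i) h), mul_zero]
  · obtain ⟨i, rfl⟩ : ∃ i, d = Finsupp.single i 1 := by
      obtain ⟨i, hi⟩ := (Finsupp.support_nonempty_iff (f := d)).2 (fun h => by simp [h] at h1)
      refine ⟨i, Finsupp.ext fun l => ?_⟩
      have hsum : d.degree = ∑ l ∈ d.support, d l := rfl
      rw [h1] at hsum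
      have hle := Finset.single_le_sum (f := fun l => d l) (fun l _ => Nat.zero_le _) hi
      have hpos : 0 < d i := Nat.pos_of_ne_zero (Finsupp.mem_support_iff.1 hi)
      rcases eq_or_ne l i with rfl | hl
      · rw [Finsupp.single_eq_same]; omega
      · rw [Finsupp.single_eq_of_ne hl]
        by_contra hne
        have := Finset.add_le_sum (f := fun l => d l) (fun l _ => Nat.zero_le _) hi (Finsupp.mem_support_iff.2 hne) hl.symm
        omega
    rw [Finset.sum_eq_single i (fun l _ hl => by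
      rw [if_neg (fun h => hl (Finsupp.single_left_injective one_ne_zero h).symm), mul_zero]) (by simp),
      if_pos rfl, mul_one, sub_self]

variable (hf : ∀ j, f j ∈ maximalIdeal (MvPowerSeries (Fin n) k))
include hf

theorem span_le_max : Ideal.span (Set.range f) ≤ 𝔪 := Ideal.span_le.2 (Set.range_subset_iff.2 hf)

variable {v}

theorem dv_f_mem (hv : v ∈ kerLin f) (j : Fin m) : dv v (f j) ∈ 𝔪 := by
  rw [mem_max_iff, cc_dv]
  have := congrFun (LinearMap.mem_ker.1 hv) j
  simp only [Matrix.mulVecLin_apply, Matrix.mulVec, dotProduct, Pi.zero_apply, Matrix.map_apply] at this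
  rw [← this]
  exact Finset.sum_congr rfl fun i _ => mul_comm _ _

theorem dv_span_mem (hv : v ∈ kerLin f) {g : A} (hg : g ∈ Ideal.span (Set.range f) ⊔ 𝔪 ^ 2) : dv v g ∈ 𝔪 := by
  obtain ⟨a, ha, b, hb, rfl⟩ := Submodule.mem_sup.1 hg
  obtain ⟨c, rfl⟩ := Ideal.mem_span_range_iff_exists_fun.1 ha
  rw [dv_add, dv_sum]
  refine add_mem (Ideal.sum_mem _ fun j _ => ?_) (dv_sq_mem v hb)
  rw [dv_mul]
  exact add_mem (Ideal.mul_mem_left _ _ (dv_f_mem f hf hv j)) (Ideal.mul_mem_right _ _ (hf j))

/-- If no nonzero kernel vector vanishes on a set of coordinates, their variables generate modulo the system. -/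
theorem max_le_of_coords (S : Finset (Fin n)) (hS : ∀ w ∈ kerLin f, (∀ i ∈ S, w i = 0) → w = 0) :
    𝔪 ≤ Ideal.span ((fun i => MvPowerSeries.X i) '' (S : Set (Fin n))) ⊔ (Ideal.span (Set.range f) ⊔ 𝔪 ^ 2) ∧
    ∃ ρ : {i // i ∉ S} → Fin m, Function.Injective ρ ∧ IsUnit ((jac f).submatrix ρ (↑)).det := by
  classical
  have hN : ∀ u, ((lin f).submatrix id ((↑) : {i // i ∉ S} → Fin n)) *ᵥ u = 0 → u = 0 := by
    intro u hu
    let w : Fin n → k := fun i => if h : i ∈ S then 0 else u ⟨i, h⟩
    have hw : w ∈ kerLin f := by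
      rw [LinearMap.mem_ker, Matrix.mulVecLin_apply]
      funext j
      refine Eq.trans ?_ (congrFun hu j)
      simp only [Matrix.mulVec, dotProduct, Matrix.submatrix_apply, id]
      refine (Fintype.sum_of_injective _ Subtype.val_injective _ _ (fun i hi => ?_) fun i => ?_).symm
      · have : i ∈ S := by
          by_contra h
          exact hi ⟨⟨i, h⟩, rfl⟩
        simp [w, this]
      · simp [w, i.2]
    funext i
    simpa [w, i.2] using congrFun (hS w hw fun i hi => by simp [w, hi]) i.1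
  obtain ⟨ρ, hρ, hdet⟩ := exists_rows _ hN
  rw [Matrix.submatrix_submatrix, Function.id_comp, Function.comp_id] at hdet
  set G₀ := (lin f).submatrix ρ ((↑) : {i // i ∉ S} → Fin n) with hG₀
  refine ⟨?_, ρ, hρ, MvPowerSeries.isUnit_iff_constantCoeff.2 ?_⟩
  · intro g hg
    have hXi : ∀ i, (MvPowerSeries.X i : A) ∈ Ideal.span ((fun i => MvPowerSeries.X i) '' (S : Set (Fin n))) ⊔
        (Ideal.span (Set.range f) ⊔ 𝔪 ^ 2) := by
      intro i
      by_cases hi : i ∈ S
      · exact Submodule.mem_sup_left (Ideal.subset_span ⟨i, hi, rfl⟩)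
      let μ := (Pi.single ⟨i, hi⟩ (1 : k) : {i // i ∉ S} → k) ᵥ* G₀⁻¹
      have hμ : μ ᵥ* G₀ = Pi.single ⟨i, hi⟩ 1 := by
        rw [Matrix.vecMul_vecMul, Matrix.nonsing_inv_mul _ hdet, Matrix.vecMul_one]
      let h : A := ∑ a, MvPowerSeries.C (μ a) * f (ρ a)
      have hhI : h ∈ Ideal.span (Set.range f) := Ideal.sum_mem _ fun a _ =>
        Ideal.mul_mem_left _ _ (Ideal.subset_span ⟨_, rfl⟩)
      have hlin := sub_linear_mem_sq (span_le_max f hf hhI)
      rw [← Finset.add_sum_erase _ _ (Finset.mem_univ i)] at hlin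
      have hc : ∀ l, l ∉ S → MvPowerSeries.constantCoeff (MvPowerSeries.pderiv k l h) = if l = i then 1 else 0 := by
        intro l hl
        have h1 := congrFun hμ ⟨l, hl⟩
        simp only [Matrix.vecMul, dotProduct, hG₀, Matrix.submatrix_apply, Matrix.map_apply, Pi.single_apply,
          Subtype.mk.injEq] at h1
        rw [map_sum, map_sum, ← h1]
        refine Finset.sum_congr rfl fun a _ => ?_
        rw [Derivation.leibniz, MvPowerSeries.pderiv_C]
        simp
      rw [hc i hi, if_pos rfl, map_one, one_mul] at hlin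
      set T := ∑ l ∈ Finset.univ.erase i, MvPowerSeries.C (MvPowerSeries.constantCoeff (MvPowerSeries.pderiv k l h)) *
        (MvPowerSeries.X l : A)
      rw [show (MvPowerSeries.X i : A) = -T + (h - (h - (MvPowerSeries.X i + T))) by ring]
      refine add_mem (neg_mem (Ideal.sum_mem _ fun l hl => ?_))
        (Submodule.mem_sup_right (sub_mem (Submodule.mem_sup_left hhI) (Submodule.mem_sup_right hlin)))
      by_cases hlS : l ∈ S
      · exact Submodule.mem_sup_left (Ideal.mul_mem_left _ _ (Ideal.subset_span ⟨l, hlS, rfl⟩))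
      · rw [hc l hlS, if_neg (Finset.ne_of_mem_erase hl), map_zero, zero_mul]
        exact zero_mem _
    rw [← sub_add_cancel g (∑ i, MvPowerSeries.C (MvPowerSeries.constantCoeff (MvPowerSeries.pderiv k i g)) * MvPowerSeries.X i)]
    exact add_mem (Submodule.mem_sup_right (Submodule.mem_sup_right (sub_linear_mem_sq hg)))
      (Ideal.sum_mem _ fun i _ => Ideal.mul_mem_left _ _ (hXi i))
  · rw [RingHom.map_det]
    exact hdet

omit hf in
theorem minor_mem (ρ : Fin (n - 1) → Fin m) (γ : Fin (n - 1) → Fin n) (hρ : Function.Injective ρ)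
    (hγ : Function.Injective γ) : ((jac f).submatrix ρ γ).det ∈ minors f :=
  Ideal.subset_span ⟨ρ, γ, hρ, hγ, rfl⟩

theorem minors_eq_top_of_small (i₁ : Fin n) (h : ∀ w ∈ kerLin f, w i₁ = 0 → w = 0) : minors f = ⊤ := by
  classical
  obtain ⟨-, ρ, hρ, hu⟩ := max_le_of_coords f hf {i₁} fun w hw hw0 => h w hw (hw0 i₁ (Finset.mem_singleton_self _))
  have hcard : Fintype.card {i // i ∉ ({i₁} : Finset (Fin n))} = n - 1 := by
    rw [Fintype.card_subtype_compl]; simp
  let e := (Fintype.equivFinOfCardEq hcard).symm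
  refine Ideal.eq_top_of_isUnit_mem _ (minor_mem f (ρ ∘ e) (Subtype.val ∘ e) (hρ.comp e.injective)
    (Subtype.val_injective.comp e.injective)) ?_
  rw [← Matrix.submatrix_submatrix, Matrix.det_submatrix_equiv_self]
  exact hu

/-- With a kernel of dimension at least three all minors are in the square of the maximal ideal. -/
theorem minors_le_sq (h : 3 ≤ Module.finrank k (kerLin f)) : minors f ≤ 𝔪 ^ 2 := by
  classical
  rw [minors, Ideal.span_le]
  rintro _ ⟨ρ, γ, hρ, hγ, rfl⟩
  have hn : 1 ≤ n := by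
    have := (Submodule.finrank_le (kerLin f)).trans (Module.finrank_fintype_fun_eq_card k).le
    rw [Fintype.card_fin] at this
    omega
  obtain ⟨i₀, hi₀⟩ : ∃ i₀, i₀ ∉ Set.range γ := by
    by_contra! hall
    have := Fintype.card_le_of_surjective γ hall
    simp at this
    omega
  have hrange : ∀ i, i ≠ i₀ → i ∈ Set.range γ := by
    intro i hi
    by_contra hi'
    have hsub : (Finset.univ.image γ) ⊆ (Finset.univ.erase i₀).erase i := fun x hx => by
      obtain ⟨a, -, rfl⟩ := Finset.mem_image.1 hx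
      exact Finset.mem_erase.2 ⟨fun e => hi' ⟨a, e⟩, Finset.mem_erase.2 ⟨fun e => hi₀ ⟨a, e⟩, Finset.mem_univ _⟩⟩
    have := Finset.card_le_card hsub
    rw [Finset.card_image_of_injective _ hγ, Finset.card_erase_of_mem (by simp [hi]), Finset.card_erase_of_mem
      (Finset.mem_univ _)] at this
    simp at this
    have h2 : i.val ≠ i₀.val := fun e => hi (Fin.ext e)
    omega
  let π : kerLin f →ₗ[k] k := (LinearMap.proj i₀).comp (kerLin f).subtype
  let W' := (LinearMap.ker π).map (kerLin f).subtype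
  have hW' : 2 ≤ Module.finrank k W' := by
    rw [Submodule.finrank_map_subtype_eq]
    have h1 := LinearMap.finrank_range_add_finrank_ker π
    have h2 := (Submodule.finrank_le (LinearMap.range π)).trans (Module.finrank_self k).le
    omega
  obtain ⟨p, q, hpq, e, he, e', he', hep, heq, he'p, he'q⟩ := exists_two_coords W' hW'
  have hW : ∀ {w}, w ∈ W' → w ∈ kerLin f ∧ w i₀ = 0 := by
    rintro _ ⟨w, hw, rfl⟩
    exact ⟨w.2, hw⟩
  obtain ⟨p', rfl⟩ := hrange p fun h => one_ne_zero (hep.symm.trans (h ▸ (hW he).2))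
  obtain ⟨q', rfl⟩ := hrange q fun h => one_ne_zero (he'q.symm.trans (h ▸ (hW he').2))
  let c : Fin (n - 1) → A := fun l => MvPowerSeries.C (e (γ l))
  let c' : Fin (n - 1) → A := fun l => MvPowerSeries.C (e' (γ l))
  let P₁ : Matrix (Fin (n - 1)) (Fin (n - 1)) A := (1 : Matrix _ _ A).updateCol p' c
  let P := P₁.updateCol q' c'
  have hp'q' : p' ≠ q' := fun h => hpq (h ▸ rfl)
  have h1 : P₁.det = 1 := by
    show ((1 : Matrix _ _ A).updateCol p' c).det = 1
    rw [← Matrix.cramer_apply, Matrix.cramer_one]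
    show c p' = 1
    simp [c, hep]
  have hmul : P₁ *ᵥ c' = c' := by
    funext i
    show ∑ l, P₁ i l * c' l = c' i
    rw [Finset.sum_eq_single i (fun l _ hl => ?_) (by simp)]
    · by_cases hip : i = p'
      · subst hip; simp [c', he'p]
      · simp [P₁, hip]
    · by_cases hlp : l = p'
      · subst hlp; simp [c', he'p]
      · simp [P₁, hlp, hl.symm]
  have hP : P.det = 1 := by
    show (P₁.updateCol q' c').det = 1
    rw [← Matrix.cramer_apply, Matrix.cramer_eq_adjugate_mulVec]
    conv_lhs => rw [← hmul]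
    rw [Matrix.mulVec_mulVec, Matrix.adjugate_mul, h1, one_smul, Matrix.one_mulVec]
    simp [c', he'q]
  set N := (jac f).submatrix ρ γ
  have hdv : ∀ {w : Fin n → k}, w i₀ = 0 → ∀ a, (∑ l, N a l * MvPowerSeries.C (w (γ l))) = dv w (f (ρ a)) := by
    intro w hw a
    rw [dv]
    refine Fintype.sum_of_injective γ hγ _ _ (fun i hi => ?_) fun l => ?_
    · have : i = i₀ := by
        by_contra hne
        exact hi (hrange i hne)
      subst this
      rw [hw, map_zero, zero_mul]
    · exact mul_comm _ _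
  have hdet : N.det = (N * P).det := by rw [det_mul, hP, mul_one]
  rw [hdet]
  refine det_mem_sq hp'q' (fun a => ?_) fun a => ?_
  · rw [Matrix.mul_apply]
    have : ∀ l, P l p' = c l := fun l => by simp [P, P₁, hp'q']
    simp only [this, c, hdv (hW he).2]
    exact dv_f_mem f hf (hW he).1 _
  · rw [Matrix.mul_apply]
    have : ∀ l, P l q' = c' l := fun l => by simp [P]
    simp only [this, c', hdv (hW he').2]
    exact dv_f_mem f hf (hW he').1 _

/-- In corank two the minors generate the ideal of two directional derivatives of a reduced system. -/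
theorem minors_frame {p q : Fin n} (hpq : p ≠ q) {e e' : Fin n → k} (he : e ∈ kerLin f) (he' : e' ∈ kerLin f)
    (hep : e p = 1) (heq : e q = 0) (he'p : e' p = 0) (he'q : e' q = 1)
    (hS : ∀ w ∈ kerLin f, w p = 0 → w q = 0 → w = 0) :
    𝔪 ≤ Ideal.span {MvPowerSeries.X p, MvPowerSeries.X q} ⊔ (Ideal.span (Set.range f) ⊔ 𝔪 ^ 2) ∧
    ∃ g : Fin m → A, (∀ j, g j ∈ Ideal.span (Set.range f)) ∧ (∀ j, g j ∈ 𝔪 ^ 2) ∧
      minors f ≤ 𝔪 ∧
      minors f ≤ Ideal.span (Set.range (fun j => dv e (g j)) ∪ Set.range (fun j => dv e' (g j))) ⊔ 𝔪 ^ 2 ∧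
      ∀ {P : A}, P ∈ Ideal.span (Set.range f) → P ∈ 𝔪 ^ 2 →
        dv e P ∈ minors f ⊔ (Ideal.span (Set.range f) ⊔ 𝔪 ^ 2) ∧
        dv e' P ∈ minors f ⊔ (Ideal.span (Set.range f) ⊔ 𝔪 ^ 2) := by
  classical
  let S : Finset (Fin n) := {p, q}
  obtain ⟨hmax, ρ, hρ, hu⟩ := max_le_of_coords f hf S fun w hw h =>
    hS w hw (h p (by simp [S])) (h q (by simp [S]))
  refine ⟨by rwa [Finset.coe_insert, Finset.coe_singleton, Set.image_pair] at hmax, ?_⟩
  set M := jac f
  set G := M.submatrix ρ ((↑) : {i // i ∉ S} → Fin n) with hG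
  haveI : Invertible G := Matrix.invertibleOfIsUnitDet G hu
  set Mγ : Matrix (Fin m) {i // i ∉ S} A := M.submatrix id (↑)
  set Mρ : Matrix {i // i ∉ S} (Fin n) A := M.submatrix ρ id
  set Cm : Matrix (Fin m) {i // i ∉ S} A := Mγ * G⁻¹ with hCm
  set D : Matrix (Fin m) (Fin n) A := M - Cm * Mρ with hD
  have hDγ : ∀ j (i : {i // i ∉ S}), D j i = 0 := by
    intro j i
    have h1 : (Cm * G) = Mγ := by rw [hCm, Matrix.mul_assoc, Matrix.nonsing_inv_mul _ hu, Matrix.mul_one]
    have h2 : (Cm * Mρ) j i = (Cm * G) j i := by simp [Matrix.mul_apply, Mρ, G]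
    show M j i - (Cm * Mρ) j i = 0
    rw [h2, h1]
    exact sub_self _
  have hDρ : ∀ a i, D (ρ a) i = 0 := by
    intro a i
    have h1 : G * G⁻¹ = 1 := Matrix.mul_nonsing_inv _ hu
    have h2 : ∀ b, Cm (ρ a) b = (1 : Matrix _ _ A) a b := fun b => by
      rw [← h1]; simp [hCm, Matrix.mul_apply, Mγ, G]
    show M (ρ a) i - ∑ b, Cm (ρ a) b * Mρ b i = 0
    simp only [h2, Matrix.one_apply, ite_mul, one_mul, zero_mul, Finset.sum_ite_eq, Finset.mem_univ, if_true]
    exact sub_self _
  have hdv : ∀ (w : Fin n → k) (j : Fin m), dv w (f j) =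
      (MvPowerSeries.C (w p) * D j p + MvPowerSeries.C (w q) * D j q) + ∑ a, Cm j a * dv w (f (ρ a)) := by
    intro w j
    have h1 : ∀ i, MvPowerSeries.pderiv k i (f j) = D j i + ∑ a, Cm j a * MvPowerSeries.pderiv k i (f (ρ a)) := fun i => by
      show M j i = (M j i - (Cm * Mρ) j i) + ∑ a, Cm j a * M (ρ a) i
      rw [Matrix.mul_apply]
      simp [Mρ]
    simp only [dv, Finset.mul_sum]
    rw [Finset.sum_comm (γ := {i // i ∉ S}), ← Finset.sum_pair (f := fun i => MvPowerSeries.C (w i) * D j i) hpq,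
      Finset.sum_subset (Finset.subset_univ {p, q}) (fun i _ hi => by rw [hDγ j ⟨i, hi⟩, mul_zero]),
      ← Finset.sum_add_distrib]
    refine Finset.sum_congr rfl fun i _ => ?_
    rw [h1, mul_add, Finset.mul_sum]
    congr 1
    exact Finset.sum_congr rfl fun a _ => by ring
  let Ce : Fin m → A := fun j => D j p
  have hDe : ∀ j, dv e (f j) = D j p + ∑ a, Cm j a * dv e (f (ρ a)) := fun j => by
    rw [hdv, hep, heq, map_one, map_zero, one_mul, zero_mul, add_zero]
  have hDe' : ∀ j, dv e' (f j) = D j q + ∑ a, Cm j a * dv e' (f (ρ a)) := fun j => by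
    rw [hdv, he'p, he'q, map_one, map_zero, one_mul, zero_mul, zero_add]
  have hDm : ∀ {w} (j : Fin m) (i : Fin n), w ∈ kerLin f → dv w (f j) = D j i + ∑ a, Cm j a * dv w (f (ρ a)) →
      D j i ∈ 𝔪 := by
    intro w j i hw h
    have h1 : D j i = dv w (f j) - ∑ a, Cm j a * dv w (f (ρ a)) := by rw [h]; ring
    rw [h1]
    exact sub_mem (dv_f_mem f hf hw j) (Ideal.sum_mem _ fun a _ => Ideal.mul_mem_left _ _ (dv_f_mem f hf hw _))
  have hD0 : ∀ j i, D j i ∈ 𝔪 := by
    intro j i
    by_cases hi : i ∈ S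
    · rcases Finset.mem_insert.1 hi with rfl | hi'
      · exact hDm j _ he (hDe j)
      · rw [Finset.mem_singleton] at hi'; subst hi'
        exact hDm j _ he' (hDe' j)
    · rw [hDγ j ⟨i, hi⟩]; exact zero_mem _
  -- the minors are generated by the entries of the Schur complement
  let J : Ideal A := Ideal.span (Set.range (fun j => D j p) ∪ Set.range (fun j => D j q))
  have hJ : ∀ j i, D j i ∈ J := by
    intro j i
    by_cases hi : i ∈ S
    · rcases Finset.mem_insert.1 hi with rfl | hi'
      · exact Ideal.subset_span (.inl ⟨j, rfl⟩)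
      · rw [Finset.mem_singleton] at hi'; subst hi'
        exact Ideal.subset_span (.inr ⟨j, rfl⟩)
    · rw [hDγ j ⟨i, hi⟩]; exact zero_mem _
  have hcard : Fintype.card {i // i ∉ S} = n - 2 := by
    rw [Fintype.card_subtype_compl, Fintype.card_coe, Fintype.card_fin]
    show n - ({p, q} : Finset (Fin n)).card = n - 2
    rw [Finset.card_pair hpq]
  have hn2 : 2 ≤ n := by
    have h1 := p.isLt
    have h2 := q.isLt
    have h3 : p.val ≠ q.val := fun h => hpq (Fin.ext h)
    omega
  have hminJ : minors f ≤ J := by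
    rw [minors, Ideal.span_le]
    rintro _ ⟨ρ', γ', -, -, rfl⟩
    rw [SetLike.mem_coe, ← Ideal.Quotient.eq_zero_iff_mem, RingHom.map_det]
    have h1 : (Ideal.Quotient.mk J).mapMatrix (M.submatrix ρ' γ') =
        (Cm.submatrix ρ' id).map (Ideal.Quotient.mk J) * (Mρ.submatrix id γ').map (Ideal.Quotient.mk J) := by
      rw [← Matrix.map_mul]
      refine Matrix.ext fun x y => ?_
      show Ideal.Quotient.mk J (M (ρ' x) (γ' y)) = Ideal.Quotient.mk J ((Cm.submatrix ρ' id * Mρ.submatrix id γ') x y)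
      rw [Ideal.Quotient.eq]
      exact hJ (ρ' x) (γ' y)
    rw [h1]
    refine det_mul_eq_zero_of_card_lt ?_ _ _
    rw [hcard, Fintype.card_fin]
    omega
  have hDmem : ∀ j (i : Fin n), i ∈ S → D j i ∈ minors f := by
    intro j i hi
    by_cases hj : j ∈ Set.range ρ
    · obtain ⟨a, rfl⟩ := hj
      rw [hDρ]; exact zero_mem _
    let ρ' : {i // i ∉ S} ⊕ Unit → Fin m := Sum.elim ρ fun _ => j
    let γ' : {i // i ∉ S} ⊕ Unit → Fin n := Sum.elim (↑) fun _ => i
    have hρ' : Function.Injective ρ' := hρ.sumElim (Function.injective_of_subsingleton _) fun a _ h => hj ⟨a, h⟩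
    have hγ' : Function.Injective γ' := Subtype.val_injective.sumElim (Function.injective_of_subsingleton _)
      fun a _ (h : (a : Fin n) = i) => a.2 (h ▸ hi)
    have hc : Fintype.card ({i // i ∉ S} ⊕ Unit) = n - 1 := by
      rw [Fintype.card_sum, hcard, Fintype.card_unit]; omega
    let eq := (Fintype.equivFinOfCardEq hc).symm
    have hmem := minor_mem f (ρ' ∘ eq) (γ' ∘ eq) (hρ'.comp eq.injective) (hγ'.comp eq.injective)
    rw [← Matrix.submatrix_submatrix, Matrix.det_submatrix_equiv_self,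
      show (jac f).submatrix ρ' γ' = Matrix.fromBlocks G (fun a _ => M (ρ a) i) (fun _ b => M j b) (fun _ _ => M j i) by
        refine Matrix.ext fun x y => ?_
        cases x <;> cases y <;> rfl,
      Matrix.det_fromBlocks₁₁, Matrix.det_unique (n := Unit), Matrix.invOf_eq_nonsing_inv] at hmem
    refine (Ideal.unit_mul_mem_iff_mem _ hu).1 ?_
    convert hmem using 2
    show M j i - (Cm * Mρ) j i = _
    simp [hCm, Matrix.mul_apply, Mγ, Mρ]
  refine ⟨fun j => f j - ∑ a, MvPowerSeries.C (MvPowerSeries.constantCoeff (Cm j a)) * f (ρ a), ?_, ?_, ?_, ?_, ?_⟩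
  · exact fun j => sub_mem (Ideal.subset_span ⟨_, rfl⟩)
      (Ideal.sum_mem _ fun a _ => Ideal.mul_mem_left _ _ (Ideal.subset_span ⟨_, rfl⟩))
  · intro j
    set g := f j - ∑ a, MvPowerSeries.C (MvPowerSeries.constantCoeff (Cm j a)) * f (ρ a) with hg
    have hgm : g ∈ 𝔪 := sub_mem (hf j) (Ideal.sum_mem _ fun a _ => Ideal.mul_mem_left _ _ (hf _))
    have h0 : ∀ i, MvPowerSeries.constantCoeff (MvPowerSeries.pderiv k i g) = 0 := by
      intro i
      have h1 := mem_max_iff.1 (hD0 j i)
      rw [hD, Matrix.sub_apply, Matrix.mul_apply, map_sub, map_sum] at h1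
      rw [hg, map_sub, map_sub, map_sum, map_sum, ← h1]
      refine congrArg₂ (· - ·) rfl (Finset.sum_congr rfl fun a _ => ?_)
      rw [Derivation.leibniz, MvPowerSeries.pderiv_C]
      simp [Mρ, M]
    simpa [h0] using sub_linear_mem_sq hgm
  · exact hminJ.trans (Ideal.span_le.2 (Set.union_subset (Set.range_subset_iff.2 fun j => hD0 j p)
      (Set.range_subset_iff.2 fun j => hD0 j q)))
  · have key : ∀ {w} (i : Fin n), w ∈ kerLin f → ∀ j,
        dv w (f j) = D j i + ∑ a, Cm j a * dv w (f (ρ a)) →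
        D j i - dv w (f j - ∑ a, MvPowerSeries.C (MvPowerSeries.constantCoeff (Cm j a)) * f (ρ a)) ∈ 𝔪 ^ 2 := by
      intro w i hw j h
      rw [dv_sub, dv_sum]
      simp only [dv_C_mul]
      rw [show D j i - (dv w (f j) - ∑ a, MvPowerSeries.C (MvPowerSeries.constantCoeff (Cm j a)) * dv w (f (ρ a))) =
        ∑ a, (MvPowerSeries.C (MvPowerSeries.constantCoeff (Cm j a)) - Cm j a) * dv w (f (ρ a)) by
          rw [h]; simp only [sub_mul, Finset.sum_sub_distrib]; ring]
      refine Ideal.sum_mem _ fun a _ => ?_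
      rw [sq]
      exact Ideal.mul_mem_mul (mem_max_iff.2 (by simp)) (dv_f_mem f hf hw _)
    refine hminJ.trans (Ideal.span_le.2 ?_)
    rintro _ (⟨j, rfl⟩ | ⟨j, rfl⟩)
    · exact Submodule.mem_sup.2 ⟨_, Ideal.subset_span (.inl ⟨j, rfl⟩), _, key p he j (hDe j), add_sub_cancel _ _⟩
    · exact Submodule.mem_sup.2 ⟨_, Ideal.subset_span (.inr ⟨j, rfl⟩), _, key q he' j (hDe' j), add_sub_cancel _ _⟩
  · intro P hPI hP2
    obtain ⟨h, rfl⟩ := Ideal.mem_span_range_iff_exists_fun.1 hPI
    have hH : ∀ a, ∑ j, h j * Cm j a ∈ 𝔪 := by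
      intro a
      have hl : ∀ i, ∑ j, h j * M j i ∈ 𝔪 := by
        intro i
        have h1 : dv (Pi.single i 1) (∑ j, h j * f j) ∈ 𝔪 := dv_sq_mem _ hP2
        rw [dv_sum] at h1
        simp only [dv_mul, Finset.sum_add_distrib] at h1
        have h2 : ∀ g : A, dv (Pi.single i 1) g = MvPowerSeries.pderiv k i g := fun g => by
          rw [dv, Finset.sum_eq_single i (fun l _ hl => by rw [Pi.single_eq_of_ne hl, map_zero, zero_mul]) (by simp),
            Pi.single_eq_same, map_one, one_mul]
        simp only [h2] at h1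
        exact (Ideal.add_mem_iff_left _ (Ideal.sum_mem _ fun j _ => Ideal.mul_mem_right _ _ (hf j))).1 h1
      have : ∑ j, h j * Cm j a = ∑ b : {i // i ∉ S}, (∑ j, h j * M j b) * G⁻¹ b a := by
        simp only [hCm, Matrix.mul_apply, Finset.mul_sum, Finset.sum_mul]
        rw [Finset.sum_comm]
        exact Finset.sum_congr rfl fun b _ => Finset.sum_congr rfl fun j _ => by
          show h j * (M j b * _) = _
          ring
      rw [this]
      exact Ideal.sum_mem _ fun b _ => Ideal.mul_mem_right _ _ (hl b)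
    have key : ∀ {w} (i : Fin n), i ∈ S → w ∈ kerLin f → (∀ j, dv w (f j) = D j i + ∑ a, Cm j a * dv w (f (ρ a))) →
        dv w (∑ j, h j * f j) ∈ minors f ⊔ (Ideal.span (Set.range f) ⊔ 𝔪 ^ 2) := by
      intro w i hi hw hd
      rw [dv_sum]
      simp only [dv_mul, Finset.sum_add_distrib]
      refine add_mem ?_ (Submodule.mem_sup_right (Submodule.mem_sup_left (Ideal.sum_mem _ fun j _ =>
        Ideal.mul_mem_right _ _ (Ideal.subset_span ⟨j, rfl⟩))))
      rw [Finset.sum_congr rfl (fun j _ => show h j * dv w (f j) = h j * D j i + h j * ∑ a, Cm j a * dv w (f (ρ a)) by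
        rw [hd j, mul_add]), Finset.sum_add_distrib]
      refine add_mem (Submodule.mem_sup_left (Ideal.sum_mem _ fun j _ => Ideal.mul_mem_left _ _ (hDmem j i hi)))
        (Submodule.mem_sup_right (Submodule.mem_sup_right ?_))
      simp only [Finset.mul_sum]
      rw [Finset.sum_comm]
      refine Ideal.sum_mem _ fun a _ => ?_
      simp only [← mul_assoc, ← Finset.sum_mul]
      rw [sq]
      exact Ideal.mul_mem_mul (hH a) (dv_f_mem f hf hw _)
    exact ⟨key p (by simp [S]) he hDe, key q (by simp [S]) he' hDe'⟩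

end Groth.Agent.NodalQ
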