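import Groth.Agent.NodalQ.Core
import Mathlib.RingTheory.MvPowerSeries.Substitution
import Mathlib.FieldTheory.IsAlgClosed.AlgebraicClosure

/-!
# The model `κ[[U, V]]/(aU² + bUV + cV²)`

Its two branches over an algebraic closure show that it is reduced and satisfies the criterion.
-/

set_option autoImplicit false
set_option linter.style.haveILetI false
set_option linter.unusedSectionVars false
set_option backward.isDefEq.respectTransparency false
set_option backward.isDefEq.respectTransparency.types false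
set_option maxHeartbeats 1000000

universe u

open IsLocalRing Groth.Agent.NodalLib

noncomputable section

namespace Groth.Agent.NodalQ

section Branches

variable {R : Type u} [CommRing R] [IsLocalRing R] {L : Type u} [Field L] {x y : R}
  (hspan : Ideal.span {x, y} = maximalIdeal R) (hx2 : x * x ∈ Ideal.span {x * y, y * y})
  (φ : Fin 2 → R →+* PowerSeries L) (ι : ResidueField R →+* L)
  (hι : ∀ i r, PowerSeries.constantCoeff (φ i r) = ι (residue R r)) (α : Fin 2 → L) (hα : α 0 ≠ α 1)
  (hx : ∀ i, φ i x = PowerSeries.C (α i) * PowerSeries.X) (hy : ∀ i, φ i y = PowerSeries.X)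
include hspan hx2 hι hα hx hy

theorem coeff_map (i : Fin 2) (n : ℕ) (s t : R) :
    PowerSeries.coeff (n + 1) (φ i (s * (x * y ^ n) + t * y ^ (n + 1))) =
      ι (residue R s) * α i + ι (residue R t) := by
  rw [map_add, map_mul, map_mul, map_mul, map_pow, map_pow, hx, hy,
    show φ i s * (PowerSeries.C (α i) * PowerSeries.X * PowerSeries.X ^ n) =
      PowerSeries.C (α i) * φ i s * PowerSeries.X ^ (n + 1) by ring, map_add]
  have h : ∀ f : PowerSeries L, PowerSeries.coeff (n + 1) (f * PowerSeries.X ^ (n + 1)) =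
      PowerSeries.constantCoeff f := fun f => by
    rw [PowerSeries.coeff_mul_X_pow', if_pos le_rfl, Nat.sub_self, PowerSeries.coeff_zero_eq_constantCoeff_apply]
  rw [h, h, map_mul, PowerSeries.constantCoeff_C, hι, hι, mul_comm]

theorem mem_of_coeff {n : ℕ} {s t : R}
    (h : ∀ i, PowerSeries.coeff (n + 1) (φ i (s * (x * y ^ n) + t * y ^ (n + 1))) = 0) :
    s ∈ maximalIdeal R ∧ t ∈ maximalIdeal R := by
  have h0 := h 0
  have h1 := h 1
  rw [coeff_map hspan hx2 φ ι hι α hα hx hy] at h0 h1
  have hs : ι (residue R s) = 0 := (mul_eq_zero.1 (show ι (residue R s) * (α 0 - α 1) = 0 by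
    linear_combination h0 - h1)).resolve_right (sub_ne_zero.2 hα)
  rw [hs, zero_mul, zero_add] at h0
  exact ⟨(residue_eq_zero_iff s).1 (ι.injective (by rw [hs, map_zero])),
    (residue_eq_zero_iff t).1 (ι.injective (by rw [h0, map_zero]))⟩

theorem coeff_eq_zero_of_mem {n : ℕ} {z : R} (hz : z ∈ maximalIdeal R ^ (n + 1)) (i : Fin 2) :
    PowerSeries.coeff n (φ i z) = 0 := by
  have h1 : (maximalIdeal R).map (φ i) ≤ Ideal.span {PowerSeries.X} := by
    rw [← hspan, Ideal.map_span, Ideal.span_le]
    rintro _ ⟨w, hw, rfl⟩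
    simp only [Set.mem_insert_iff, Set.mem_singleton_iff] at hw
    rcases hw with rfl | rfl
    · rw [hx]; exact Ideal.mem_span_singleton.2 (dvd_mul_left _ _)
    · rw [hy]; exact Ideal.mem_span_singleton_self _
  have h2 := Ideal.pow_right_mono h1 (n + 1) (Ideal.map_pow (φ i) _ _ ▸ Ideal.mem_map_of_mem (φ i) hz)
  rw [Ideal.span_singleton_pow, Ideal.mem_span_singleton, PowerSeries.X_pow_dvd_iff] at h2
  exact h2 n (Nat.lt_succ_self n)

theorem ell_eq_of_branches (n : ℕ) : ell (maximalIdeal R ^ (n + 1)) = (2 * n + 1 : ℕ) :=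
  ell_eq_of_indep hspan hx2 (fun _ _ _ h => mem_of_coeff hspan hx2 φ ι hι α hα hx hy
    fun i => coeff_eq_zero_of_mem hspan hx2 φ ι hι α hα hx hy h i) n

theorem isReduced_of_branches [IsNoetherianRing R] : IsReduced R := by
  refine ⟨fun z hz => ?_⟩
  have h0 : ∀ i, φ i z = 0 := fun i => (hz.map (φ i)).eq_zero
  have key : ∀ n, z ∈ maximalIdeal R ^ n := fun n => by
    induction n with
    | zero => simp
    | succ n ih =>
      rcases n with _ | n
      · rw [zero_add, pow_one, mem_maximalIdeal, mem_nonunits_iff]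
        intro hu
        exact not_isUnit_zero (h0 0 ▸ hu.map (φ 0))
      · rw [pow_eq hspan hx2 n, Ideal.mem_span_pair] at ih
        obtain ⟨s, t, rfl⟩ := ih
        obtain ⟨hs, ht⟩ := mem_of_coeff hspan hx2 φ ι hι α hα hx hy fun i => by rw [h0 i, map_zero]
        exact add_mem (step_mem_x hspan hx2 n s hs) (step_mem_y hspan hx2 n t ht)
  have hbot := Ideal.iInf_pow_eq_bot_of_isLocalRing (maximalIdeal R) (maximalIdeal.isMaximal R).ne_top
  exact (Submodule.mem_bot R).1 (hbot ▸ Submodule.mem_iInf _ |>.2 key)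

end Branches

/-- A nondegenerate quadratic equation with nonzero leading coefficient has two roots. -/
theorem exists_two_roots {L : Type u} [Field L] [IsAlgClosed L] {a b c : L} (ha : a ≠ 0)
    (hd : 4 * a * c - b ^ 2 ≠ 0) :
    ∃ r : Fin 2 → L, r 0 ≠ r 1 ∧ ∀ i, a * r i ^ 2 + b * r i + c = 0 := by
  obtain ⟨s, hs⟩ := IsAlgClosed.exists_root
    (Polynomial.C a * Polynomial.X ^ 2 + Polynomial.C b * Polynomial.X + Polynomial.C c)
    (by rw [Polynomial.degree_quadratic ha]; norm_num)
  simp only [Polynomial.IsRoot, Polynomial.eval_add, Polynomial.eval_mul, Polynomial.eval_pow,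
    Polynomial.eval_C, Polynomial.eval_X] at hs
  refine ⟨![s, -b / a - s], ?_, ?_⟩
  · simp only [Matrix.cons_val_zero, Matrix.cons_val_one]
    intro h
    have h' : 2 * a * s + b = 0 := by
      rw [eq_sub_iff_add_eq, eq_div_iff ha] at h
      linear_combination h
    exact hd (by linear_combination (4 * a) * hs - (2 * a * s + b) * h')
  · intro i
    fin_cases i
    · simpa using hs
    · show a * (-b / a - s) ^ 2 + b * (-b / a - s) + c = 0
      field_simp
      linear_combination a * hs

section Model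

variable (κ : Type u) [Field κ]

local notation "P" => MvPowerSeries (Fin 2) κ

/-- The quadratic form as a power series. -/
def qf (a b c : κ) : P :=
  MvPowerSeries.C a * MvPowerSeries.X 0 ^ 2 + MvPowerSeries.C b * MvPowerSeries.X 0 * MvPowerSeries.X 1 +
    MvPowerSeries.C c * MvPowerSeries.X 1 ^ 2

variable {κ} (a b c : κ)

local notation "Q" => MvPowerSeries (Fin 2) κ ⧸ Ideal.span {qf κ a b c}

theorem qf_mem : qf κ a b c ∈ PSLib.vars 2 κ := by
  have h : ∀ i : Fin 2, (MvPowerSeries.X i : P) ∈ PSLib.vars 2 κ := fun i => Ideal.subset_span ⟨i, rfl⟩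
  refine add_mem (add_mem (Ideal.mul_mem_left _ _ ?_) (Ideal.mul_mem_left _ _ (h 1))) (Ideal.mul_mem_left _ _ ?_) <;>
    exact Ideal.pow_mem_of_mem _ (h _) 2 two_pos

instance isLocalRing_model : IsLocalRing Q := PSQuad.isLocalRing_quot (qf_mem a b c)

instance isNoetherianRing_model : IsNoetherianRing Q := by
  obtain ⟨hN, -, -⟩ := CohenLib.isRegular_complete_mvPowerSeries (Λ := κ) (Or.inl (Field.toIsField κ)) 2
  infer_instance

theorem span_model : Ideal.span {Ideal.Quotient.mk _ (MvPowerSeries.X 0), Ideal.Quotient.mk _ (MvPowerSeries.X 1)}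
    = maximalIdeal Q := by
  rw [← map_maximalIdeal_of_surjective
    (Ideal.Quotient.mk (Ideal.span {qf κ a b c})) Ideal.Quotient.mk_surjective,
    PSLib.maximalIdeal_eq_vars, PSLib.vars, Ideal.map_span, ← Set.range_comp]
  congr 1
  ext z
  simp [Fin.exists_fin_two, eq_comm]

variable {L : Type u} [Field L] [Algebra κ L]

theorem exists_branch (v : Fin 2 → L) (hv : algebraMap κ L a * v 0 ^ 2 + algebraMap κ L b * v 0 * v 1 +
    algebraMap κ L c * v 1 ^ 2 = 0) :
    ∃ φ : Q →+* PowerSeries L,
      (∀ j, φ (Ideal.Quotient.mk _ (MvPowerSeries.X j)) = PowerSeries.C (v j) * PowerSeries.X) ∧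
      (∀ f : P, PowerSeries.constantCoeff (φ (Ideal.Quotient.mk _ f)) = algebraMap κ L (MvPowerSeries.constantCoeff f)) := by
  let g : Fin 2 → PowerSeries L := fun j => PowerSeries.C (v j) * PowerSeries.X
  have hg : MvPowerSeries.HasSubst (S := L) g := MvPowerSeries.hasSubst_of_constantCoeff_zero fun j => by
    show PowerSeries.constantCoeff (PowerSeries.C (v j) * PowerSeries.X) = 0
    rw [map_mul, PowerSeries.constantCoeff_X, mul_zero]
  let ψ : P →ₐ[κ] PowerSeries L := MvPowerSeries.substAlgHom hg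
  have hX : ∀ j, ψ (MvPowerSeries.X j) = g j := fun j => MvPowerSeries.substAlgHom_X hg j
  have hC : ∀ r : κ, ψ (MvPowerSeries.C r) = PowerSeries.C (algebraMap κ L r) := fun r => by
    have := ψ.commutes r
    rw [MvPowerSeries.algebraMap_apply, Algebra.algebraMap_self, RingHom.id_apply] at this
    rw [this]
    simp [PowerSeries.algebraMap_apply]
  have hq : ∀ z ∈ Ideal.span {qf κ a b c}, ψ z = 0 := fun z hz => by
    obtain ⟨d, rfl⟩ := Ideal.mem_span_singleton'.1 hz
    rw [map_mul, qf, map_add, map_add, map_mul, map_mul, map_mul, map_mul, map_pow, map_pow, hX, hX, hC, hC, hC]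
    have := congrArg PowerSeries.C hv
    simp only [map_add, map_mul, map_pow, map_zero] at this
    linear_combination (ψ d * PowerSeries.X ^ 2) * this
  refine ⟨Ideal.Quotient.lift _ ψ.toRingHom hq, fun j => hX j, fun f => ?_⟩
  show PowerSeries.constantCoeff (ψ f) = _
  have hf : f - MvPowerSeries.C (MvPowerSeries.constantCoeff f) ∈ PSLib.vars 2 κ := by
    rw [PSLib.mem_vars_iff, map_sub, MvPowerSeries.constantCoeff_C, sub_self]
  have h0 : ((PSLib.vars 2 κ).map ψ.toRingHom) ≤ Ideal.span {PowerSeries.X} := by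
    rw [PSLib.vars, Ideal.map_span, Ideal.span_le]
    rintro _ ⟨_, ⟨j, rfl⟩, rfl⟩
    show ψ (MvPowerSeries.X j) ∈ _
    rw [hX]
    exact Ideal.mem_span_singleton.2 (dvd_mul_left _ _)
  have h1 := Ideal.mem_span_singleton.1 (h0 (Ideal.mem_map_of_mem ψ.toRingHom hf))
  rw [PowerSeries.X_dvd_iff, AlgHom.toRingHom_eq_coe, RingHom.coe_coe, map_sub, map_sub, hC,
    PowerSeries.constantCoeff_C, sub_eq_zero] at h1
  exact h1

variable (hd : 4 * a * c - b ^ 2 ≠ 0)
include hd

theorem residue_disc : residue Q (4 * Ideal.Quotient.mk _ (MvPowerSeries.C a) * Ideal.Quotient.mk _ (MvPowerSeries.C c) -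
    Ideal.Quotient.mk _ (MvPowerSeries.C b) ^ 2) ≠ 0 := by
  let g : κ →+* Q := (Ideal.Quotient.mk _).comp MvPowerSeries.C
  have h : g (4 * a * c - b ^ 2) = 4 * Ideal.Quotient.mk _ (MvPowerSeries.C a) * Ideal.Quotient.mk _ (MvPowerSeries.C c) -
      Ideal.Quotient.mk _ (MvPowerSeries.C b) ^ 2 := by
    simp only [map_sub, map_mul, map_pow, map_ofNat, g, RingHom.comp_apply]
  rw [← h]
  exact (residue_ne_zero_iff_isUnit _).2 ((Ne.isUnit hd).map g)

theorem model_spec : QCrit Q ∧ IsReduced Q := by
  let K := AlgebraicClosure κ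
  let i := algebraMap κ K
  have hd' : 4 * i a * i c - i b ^ 2 ≠ 0 := by
    have := i.injective.ne hd
    simpa only [map_sub, map_mul, map_pow, map_ofNat, map_zero] using this
  let U : Q := Ideal.Quotient.mk _ (MvPowerSeries.X 0)
  let V : Q := Ideal.Quotient.mk _ (MvPowerSeries.X 1)
  let A : Q := Ideal.Quotient.mk _ (MvPowerSeries.C a)
  let B : Q := Ideal.Quotient.mk _ (MvPowerSeries.C b)
  let C : Q := Ideal.Quotient.mk _ (MvPowerSeries.C c)
  have hrel : A * U ^ 2 + B * U * V + C * V ^ 2 = 0 := by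
    have h : Ideal.Quotient.mk (Ideal.span {qf κ a b c}) (qf κ a b c) = 0 :=
      Ideal.Quotient.eq_zero_iff_mem.2 (Ideal.mem_span_singleton_self _)
    conv_lhs at h => arg 2; rw [qf]
    simpa only [map_add, map_mul, map_pow] using h
  suffices H : (∀ n : ℕ, ell (maximalIdeal Q ^ (n + 1)) = (2 * n + 1 : ℕ)) ∧ IsReduced Q by
    exact ⟨⟨U, V, A, B, C, span_model a b c, residue_disc a b c hd, hrel ▸ zero_mem _, H.1⟩, H.2⟩
  -- a coordinate system with two branches
  obtain ⟨x, y, hspan, hx2, α, hα, v, hv, hvx⟩ : ∃ x y : Q, Ideal.span {x, y} = maximalIdeal Q ∧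
      x * x ∈ Ideal.span {x * y, y * y} ∧ ∃ α : Fin 2 → K, α 0 ≠ α 1 ∧ ∃ v : Fin 2 → Fin 2 → K,
      (∀ j, i a * v j 0 ^ 2 + i b * v j 0 * v j 1 + i c * v j 1 ^ 2 = 0) ∧
      ∀ (j : Fin 2) (φ : Q →+* PowerSeries K), (∀ l, φ (Ideal.Quotient.mk _ (MvPowerSeries.X l)) = PowerSeries.C (v j l) * PowerSeries.X) →
        φ x = PowerSeries.C (α j) * PowerSeries.X ∧ φ y = PowerSeries.X := by
    have hu : ∀ {e : κ}, e ≠ 0 → IsUnit (Ideal.Quotient.mk (Ideal.span {qf κ a b c}) (MvPowerSeries.C e)) :=
      fun he => ((Ne.isUnit he).map MvPowerSeries.C).map _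
    by_cases ha : a = 0
    · by_cases hc : c = 0
      · have hb : b ≠ 0 := fun h => hd (by rw [ha, h]; ring)
        refine ⟨U, V - U, ?_, ?_, ![0, -1], by simp, ![![0, 1], ![-1, 0]], fun j => ?_, fun j φ hφ => ?_⟩
        · rw [← span_model a b c]
          refine le_antisymm ?_ ?_ <;> rw [Ideal.span_le] <;> intro z hz <;>
            simp only [Set.mem_insert_iff, Set.mem_singleton_iff] at hz <;>
            rw [SetLike.mem_coe, Ideal.mem_span_pair] <;> rcases hz with hz | hz <;> rw [hz]
          · exact ⟨1, 0, by ring⟩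
          · exact ⟨-1, 1, by ring⟩
          · exact ⟨1, 0, by ring⟩
          · exact ⟨1, 1, by ring⟩
        · refine Ideal.mem_span_pair.2 ⟨-1, 0, ?_⟩
          have hUV : U * V = 0 := (hu hb).mul_right_eq_zero.1 (by
            have hA : A = 0 := by simp [A, ha]
            have hC : C = 0 := by simp [C, hc]
            rw [hA, hC] at hrel
            show B * (U * V) = 0
            linear_combination hrel)
          linear_combination -hUV
        · fin_cases j <;> simp [i, ha, hc]
        · rw [map_sub, show φ U = PowerSeries.C _ * _ from hφ 0, show φ V = PowerSeries.C _ * _ from hφ 1]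
          fin_cases j <;> simp <;> ring
      · obtain ⟨r, hr, hroot⟩ := exists_two_roots (L := K) (a := i c) (b := i b) (c := i a)
          ((map_ne_zero i).2 hc) (by rwa [show 4 * i c * i a = 4 * i a * i c by ring])
        refine ⟨V, U, by rw [Set.pair_comm]; exact span_model a b c, ?_, r, hr, fun j => ![1, r j],
          fun j => ?_, fun j φ hφ => ?_⟩
        · exact mul_self_mem_of_rel (a := C) (b := B) (c := A)
            (by rw [Set.pair_comm]; exact span_model a b c) (hu hc)
            (by rw [show C * V ^ 2 + B * V * U + A * U ^ 2 = 0 by linear_combination hrel]; exact zero_mem _)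
        · simp only [Matrix.cons_val_zero, Matrix.cons_val_one]
          linear_combination hroot j
        · exact ⟨hφ 1, (hφ 0).trans (by simp)⟩
    · obtain ⟨r, hr, hroot⟩ := exists_two_roots (L := K) (a := i a) (b := i b) (c := i c)
        ((map_ne_zero i).2 ha) hd'
      refine ⟨U, V, span_model a b c, ?_, r, hr, fun j => ![r j, 1], fun j => ?_, fun j φ hφ => ?_⟩
      · exact mul_self_mem_of_rel (a := A) (b := B) (c := C) (span_model a b c) (hu ha) (hrel ▸ zero_mem _)
      · simp only [Matrix.cons_val_zero, Matrix.cons_val_one]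
        linear_combination hroot j
      · exact ⟨hφ 0, (hφ 1).trans (by simp)⟩
  choose φ hφX hφ0 using fun j => exists_branch (L := K) a b c (v j) (hv j)
  let ι : ResidueField Q →+* K := i.comp (Ideal.Quotient.lift (maximalIdeal Q)
    (Ideal.Quotient.lift _ MvPowerSeries.constantCoeff fun z hz => by
      obtain ⟨d, rfl⟩ := Ideal.mem_span_singleton'.1 hz
      rw [map_mul, PSLib.mem_vars_iff.1 (qf_mem a b c), mul_zero]) fun z hz => by
      obtain ⟨f, rfl⟩ := Ideal.Quotient.mk_surjective z
      exact PSLib.mem_vars_iff.1 (PSQuad.mem_vars_of_mk_mem hz))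
  have hι : ∀ j r, PowerSeries.constantCoeff (φ j r) = ι (residue Q r) := fun j r => by
    obtain ⟨f, rfl⟩ := Ideal.Quotient.mk_surjective r
    exact hφ0 j f
  exact ⟨ell_eq_of_branches hspan hx2 φ ι hι α hα (fun j => (hvx j _ (hφX j)).1) (fun j => (hvx j _ (hφX j)).2),
    isReduced_of_branches hspan hx2 φ ι hι α hα (fun j => (hvx j _ (hφX j)).1) (fun j => (hvx j _ (hφX j)).2)⟩

end Model

end Groth.Agent.NodalQ
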