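import Groth.Agent.NodalQ.Scheme
import Groth.Agent.NodalLib.BaseChange
import Groth.Agent.GrpSchLib.Reduced

/-!
# Nodes from the criterion, and closed subschemes
-/

set_option autoImplicit false
set_option linter.style.haveILetI false
set_option linter.unusedSectionVars false
set_option backward.isDefEq.respectTransparency false
set_option backward.isDefEq.respectTransparency.types false
set_option maxHeartbeats 1000000

universe u

open CategoryTheory CategoryTheory.Limits AlgebraicGeometry IsLocalRing
open scoped TensorProduct

noncomputable section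

namespace Groth.Agent.NodalQ

variable (k : Type u) [Field k] (X : Scheme.{u}) [X.Over (Spec (CommRingCat.of k))]
  [LocallyOfFiniteType (X ↘ Spec (CommRingCat.of k))]

/-- A closed point with separable residue field satisfying the criterion is a node. -/
theorem isNode_of_qcrit (x : X) (hx : IsClosed ({x} : Set X))
    (hsep : letI := Curv2.resAlgebra k X x; Algebra.IsSeparable k (X.residueField x))
    (hq : QCrit (X.presheaf.stalk x)) : Curv2.IsNode k X x := by
  haveI : IsLocallyNoetherian X := LocallyOfFiniteType.isLocallyNoetherian (X ↘ Spec (CommRingCat.of k))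
  let K := AlgebraicClosure k
  let f := Curv2.bcFst k X K
  let g := Spec.map (CommRingCat.ofHom (algebraMap k K))
  obtain ⟨v, hv⟩ : ∃ v, f v = x := by
    obtain ⟨v, hv, -⟩ := Scheme.Pullback.exists_preimage_pullback (f := X ↘ Spec (CommRingCat.of k)) (g := g) x
      (IsLocalRing.closedPoint K) (Subsingleton.elim (α := PrimeSpectrum k) _ _)
    exact ⟨v, hv⟩
  subst hv
  refine ⟨hx, v, rfl, ?_⟩
  letI := Curv2.resAlgebra k X (f v)
  haveI := hsep
  let W := Curv2.bc k X K
  letI : W.Over (Spec (CommRingCat.of K)) := ⟨Curv2.bcSnd k X K⟩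
  haveI : LocallyOfFiniteType (W ↘ Spec (CommRingCat.of K)) :=
    inferInstanceAs (LocallyOfFiniteType (pullback.snd (X ↘ Spec (CommRingCat.of k)) g))
  haveI : IsLocallyNoetherian W := LocallyOfFiniteType.isLocallyNoetherian (W ↘ Spec (CommRingCat.of K))
  haveI : Flat f := MorphismProperty.pullback_fst (X ↘ Spec (CommRingCat.of k)) g inferInstance
  letI := Curv2.stalkAlgebra K W v
  haveI : _root_.IsReduced (K ⊗[k] X.residueField (f v)) :=
    GrpSchLib.isReduced_field_tensor k (X.residueField (f v)) K
  haveI : _root_.IsReduced (X.residueField (f v) ⊗[k] K) :=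
    isReduced_of_injective (Algebra.TensorProduct.comm k (X.residueField (f v)) K).toRingHom
      (Algebra.TensorProduct.comm k (X.residueField (f v)) K).injective
  have hm := map_maximalIdeal_of_isReduced_tensor k X K v hx inferInstance
  have hv := isClosed_of_over k X K v hx
  haveI : IsLocalHom (f.stalkMap v).hom := f.toLRSHom.prop v
  haveI : IsAlgClosed (ResidueField (W.presheaf.stalk v)) :=
    IsAlgClosed.of_ringEquiv K _ (RingEquiv.ofBijective (Curv2.resMap K W v)
      ⟨(Curv2.resMap K W v).injective, CurveSection.surjective_resMap K hv⟩)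
  exact (NodalLib.isOrdDoublePt_iff_crit (NodalLib.exists_sub_mem_of_closed hv)).2
    (QCrit.crit (QCrit.map (f.stalkMap v).hom (Flat.stalkMap f v) hm hq))

section Closed

/-- A reduced local quotient with two-dimensional cotangent space of a ring satisfying the criterion satisfies it. -/
theorem QCrit.of_surjective {A B : Type u} [CommRing A] [IsLocalRing A] [CommRing B] [IsLocalRing B]
    [IsNoetherianRing B] [_root_.IsReduced B] (φ : A →+* B) (hφ : Function.Surjective φ) (hA : QCrit A)
    (hnp : ¬ (maximalIdeal B).IsPrincipal) : QCrit B := by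
  obtain ⟨x, y, a, b, c, hspan, hdisc, hrel, -⟩ := hA
  haveI : IsLocalHom φ := IsLocalHom.of_surjective φ hφ
  have hm : (maximalIdeal A).map φ = maximalIdeal B := map_maximalIdeal_of_surjective φ hφ
  have hspanB : Ideal.span {φ x, φ y} = maximalIdeal B := by
    rw [← Set.image_pair, ← Ideal.map_span, hspan, hm]
  refine qcrit_of_socle (a := φ a) (b := φ b) (c := φ c) hspanB ?_ ?_ ?_ ?_
  · suffices key : ∀ {u v s t : B}, Ideal.span {u, v} = maximalIdeal B → s * u + t * v ∈ maximalIdeal B ^ 2 →
        s ∈ maximalIdeal B by
      exact fun s t h => ⟨key hspanB h, key (u := φ y) (v := φ x) (s := t) (t := s)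
        (by rw [Set.pair_comm, hspanB]) (by rwa [add_comm])⟩
    intro u v s t huv h
    by_contra hs
    have hsu : IsUnit s := by
      by_contra h'
      exact hs ((mem_maximalIdeal s).2 h')
    refine hnp ⟨v, le_antisymm (PSQuad.maximalIdeal_le_of_le_sup_sq ?_) ?_⟩
    · conv_lhs => rw [← huv]
      rw [Ideal.span_le]
      rintro z (hz | hz) <;> rw [hz]
      · refine (Ideal.unit_mul_mem_iff_mem _ hsu).1 ?_
        rw [show s * u = -t * v + (s * u + t * v) by ring]
        exact Submodule.add_mem_sup (Ideal.mem_span_singleton'.2 ⟨-t, rfl⟩) h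
      · exact Submodule.mem_sup_left (Ideal.mem_span_singleton_self v)
    · rw [← huv]
      exact Ideal.span_mono (by simp)
  · have := (residue_ne_zero_iff_isUnit _).2 (((residue_ne_zero_iff_isUnit _).1 hdisc).map φ)
    simpa only [map_sub, map_mul, map_pow, map_ofNat] using this
  · rw [← hm, ← Ideal.map_pow]
    simpa only [map_add, map_mul, map_pow] using Ideal.mem_map_of_mem φ hrel
  · intro z hz
    refine eq_zero_of_pow_mul (fun h => hnp (h ▸ bot_isPrincipal)) 1 z ?_
    rwa [pow_one]

end Closed

end Groth.Agent.NodalQ
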