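import Groth.Agent.NodalQ.Locus
import Groth.Agent.SmoothField.FibreCrit
import Groth.Agent.DescLib.LocalDim

/-!
# The locus of smooth points and nodes of fibres is open
-/

set_option autoImplicit false
set_option linter.style.haveILetI false
set_option linter.unusedSectionVars false
set_option backward.isDefEq.respectTransparency false
set_option backward.isDefEq.respectTransparency.types false
set_option maxHeartbeats 1000000

universe u

open CategoryTheory CategoryTheory.Limits AlgebraicGeometry TopologicalSpace Groth.Agent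
open scoped TensorProduct

noncomputable section

namespace Groth.Agent.NodalQ

/-- Smooth near the point or a node of the fibre through it. -/
def SmoothOrNode {C S : Scheme.{u}} (π : C ⟶ S) (p : C) : Prop :=
  (∃ U : C.Opens, p ∈ U ∧ Smooth (U.ι ≫ π)) ∨
    @Curv2.IsNode (S.residueField (π.base p)) _ (π.fiber (π.base p)) ⟨π.fiberToSpecResidueField (π.base p)⟩ (π.asFiber p)

theorem exists_smooth_iff {C S : Scheme.{u}} (π : C ⟶ S) [LocallyOfFinitePresentation π] (x : C) :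
    (∃ U : C.Opens, x ∈ U ∧ Smooth (U.ι ≫ π)) ↔ x ∈ π.smoothLocus := by
  constructor
  · rintro ⟨U, hxU, hU⟩
    have h1 : (⟨x, hxU⟩ : (U : Scheme.{u})) ∈ U.ι ⁻¹ᵁ π.smoothLocus := by
      rw [Scheme.Hom.preimage_smoothLocus_eq, Scheme.Hom.smoothLocus_eq_top]
      trivial
    exact h1
  · intro hx
    refine ⟨π.smoothLocus, hx, Scheme.Hom.smoothLocus_eq_top_iff.1 ?_⟩
    rw [← Scheme.Hom.preimage_smoothLocus_eq]
    exact π.smoothLocus.ι_preimage_self

theorem fibreDimAt_eq_one {C S : Scheme.{u}} (π : C ⟶ S) [LocallyOfFiniteType π] (x : C)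
    (h : ∀ Z ∈ irreducibleComponents (↥(π.fiber (π x)) : Type u), topologicalKrullDim Z = 1) :
    FlatMor.fibreDimAt π x = (1 : WithBot ℕ∞) := by
  obtain ⟨z, -, hfz, hmax, he⟩ := FibDim.exists_fibMax_generization π x
  have hmem : ((FibDim.rd π z : ℕ∞) : WithBot ℕ∞) ∈
      (fun z => ((FibDim.rd π z : ℕ∞) : WithBot ℕ∞)) '' {w : C | π w = π x ∧ FibDim.FibMax π w} := ⟨z, ⟨hfz, hmax⟩, rfl⟩
  rw [← FibDim.fiber_component_dims π (π x)] at hmem
  obtain ⟨T, hT, hTd⟩ := hmem
  rw [he, ← hTd]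
  exact h T hT

section Chart

variable {C S : Scheme.{u}} (π : C ⟶ S) [Flat π] [LocallyOfFinitePresentation π]
  {U : C.Opens} (hU : IsAffineOpen U) {V : S.Opens} (hV : IsAffineOpen V) (hUV : U ≤ π ⁻¹ᵁ V)
include hU hV hUV

/-- Smoothness of relative dimension one on a chart is the nonvanishing of the first Fitting ideal. -/
theorem smooth_iff_chart {x : C} (hxU : x ∈ U) (hd : FlatMor.fibreDimAt π x = (1 : WithBot ℕ∞)) :
    letI := (π.appLE V U hUV).hom.toAlgebra
    (∃ W : C.Opens, x ∈ W ∧ Smooth (W.ι ≫ π)) ↔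
      ¬ Fitt.ideal Γ(C, U) (KaehlerDifferential Γ(S, V) Γ(C, U)) 1 ≤ (hU.primeIdealOf ⟨x, hxU⟩).asIdeal := by
  letI : Algebra Γ(S, V) Γ(C, U) := (π.appLE V U hUV).hom.toAlgebra
  haveI : Algebra.FinitePresentation Γ(S, V) Γ(C, U) := π.finitePresentation_appLE hV hU hUV
  haveI : Module.Flat Γ(S, V) Γ(C, U) := Flat.flat_appLE π hV hU hUV
  let q := hU.primeIdealOf ⟨x, hxU⟩
  have hq : FlatMor.fibreDimAt (Spec.map (π.appLE V U hUV)) q = (1 : WithBot ℕ∞) := by
    rw [← hd]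
    haveI : LocallyOfFiniteType (Spec.map (π.appLE V U hUV)) := by
      rw [HasRingHomProperty.Spec_iff (P := @LocallyOfFiniteType)]
      exact π.finiteType_appLE hV hU hUV
    refine Eq.trans (DescLib.fibreDimAt_eq_of_etale π (Spec.map (π.appLE V U hUV))
      hU.fromSpec hV.fromSpec (IsAffineOpen.SpecMap_appLE_fromSpec π hV hU hUV) q).symm ?_
    exact congrArg (FlatMor.fibreDimAt π) (hU.fromSpec_primeIdealOf ⟨x, hxU⟩)
  rw [exists_smooth_iff, Scheme.Hom.mem_smoothLocus, formallySmooth_stalkMap_iff V hV U hU hUV hxU,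
    FittX.not_le_iff_fiber]
  constructor
  · intro hsm
    haveI : Algebra.IsSmoothAt Γ(S, V) q.asIdeal := hsm
    have h1 := SmoothField.fibreDimAt_eq_of_isSmoothAt (R := Γ(S, V)) q.asIdeal
      q.asIdeal.ResidueField (Ideal.ker_algebraMap_residueField _)
    rw [show FlatMor.fibreDimAt (Spec.map (CommRingCat.ofHom (algebraMap Γ(S, V) Γ(C, U))))
      ⟨q.asIdeal, inferInstance⟩ = (1 : WithBot ℕ∞) from hq] at h1
    exact (by exact_mod_cast h1.symm : _ = 1).le
  · intro hle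
    refine SmoothField.isSmoothAt_of_flat_of_finrank_le q.asIdeal ?_
    refine le_of_le_of_eq ?_ hq.symm
    exact_mod_cast hle

/-- The locus on a chart. -/
theorem isOpen_smoothOrNode_chart (hd : ∀ x ∈ U, FlatMor.fibreDimAt π x = (1 : WithBot ℕ∞)) :
    IsOpen {x : C | x ∈ U ∧ SmoothOrNode π x} := by
  letI : Algebra Γ(S, V) Γ(C, U) := (π.appLE V U hUV).hom.toAlgebra
  haveI : Algebra.FinitePresentation Γ(S, V) Γ(C, U) := π.finitePresentation_appLE hV hU hUV
  haveI : Module.Flat Γ(S, V) Γ(C, U) := Flat.flat_appLE π hV hU hUV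
  let F := Fitt.ideal Γ(C, U) (KaehlerDifferential Γ(S, V) Γ(C, U)) 1
  let ι := PrimeSpectrum.comap (Ideal.Quotient.mk F)
  have hι : Topology.IsClosedEmbedding ι :=
    PrimeSpectrum.isClosedEmbedding_comap_of_surjective _ _ Ideal.Quotient.mk_surjective
  let Ram : Set (PrimeSpectrum Γ(C, U)) := ι '' (Algebra.unramifiedLocus Γ(S, V) (Γ(C, U) ⧸ F))ᶜ
  let Φ : Set (Spec Γ(C, U)) := (PrimeSpectrum.zeroLocus (F : Set Γ(C, U)))ᶜ ∪
    ({q | GeomRedFlat5.E (Spec.map (CommRingCat.ofHom (algebraMap Γ(S, V) Γ(C, U)))) q} ∩ Ramᶜ)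
  have hΦ : IsOpen Φ := by
    refine IsOpen.union (PrimeSpectrum.isClosed_zeroLocus _).isOpen_compl (IsOpen.inter ?_ ?_)
    · exact GeomRedFlat5.isOpen_E_of_flat
    · exact (hι.isClosedMap _ Algebra.isOpen_unramifiedLocus.isClosed_compl).isOpen_compl
  have hsq : hU.fromSpec ≫ π = Spec.map (CommRingCat.ofHom (algebraMap Γ(S, V) Γ(C, U))) ≫ hV.fromSpec :=
    (IsAffineOpen.SpecMap_appLE_fromSpec π hV hU hUV).symm
  have key : ∀ q : Spec Γ(C, U), SmoothOrNode π (hU.fromSpec q) ↔ q ∈ Φ := by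
    intro q
    have hxU : hU.fromSpec q ∈ U := (Set.ext_iff.1 hU.range_fromSpec _).1 (Set.mem_range_self q)
    have hpq : hU.primeIdealOf ⟨_, hxU⟩ = q :=
      hU.fromSpec.isOpenEmbedding.injective (hU.fromSpec_primeIdealOf ⟨_, hxU⟩)
    have hsm := smooth_iff_chart π hU hV hUV hxU (hd _ hxU)
    rw [hpq] at hsm
    by_cases hF : F ≤ q.asIdeal
    · have hns : ¬ ∃ W : C.Opens, hU.fromSpec q ∈ W ∧ Smooth (W.ι ≫ π) := fun h => hsm.1 h hF
      obtain ⟨qb, hqb⟩ : q ∈ Set.range ι := by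
        show q ∈ Set.range (PrimeSpectrum.comap (Ideal.Quotient.mk F))
        rw [range_comap_of_surjective _ _ Ideal.Quotient.mk_surjective, Ideal.mk_ker,
          PrimeSpectrum.mem_zeroLocus]
        exact hF
      have hnode := node_iff_chart π hU.fromSpec hV.fromSpec hsq (hU.fromSpec q) q rfl qb hqb
      have hE := GeomRedFlat5.E_chart π (CommRingCat.ofHom (algebraMap Γ(S, V) Γ(C, U))) hU.fromSpec hV.fromSpec hsq q
      refine (or_iff_right hns).trans (hnode.trans ?_)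
      have hz : q ∈ PrimeSpectrum.zeroLocus (F : Set Γ(C, U)) := hF
      have hR : q ∈ Ramᶜ ↔ Algebra.IsUnramifiedAt Γ(S, V) qb.asIdeal := by
        rw [← hqb, Set.mem_compl_iff, hι.injective.mem_set_image, Set.mem_compl_iff, not_not]
        rfl
      simp only [Φ, Set.mem_union, Set.mem_compl_iff, hz, not_true, false_or, Set.mem_inter_iff, Set.mem_ofPred_eq]
      rw [← Set.mem_compl_iff, hR]
      exact and_congr hE Iff.rfl
    · exact iff_of_true (.inl (hsm.2 hF)) (.inl fun h => hF h)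
  convert! hU.fromSpec.isOpenEmbedding.isOpenMap _ hΦ using 1
  ext x
  constructor
  · rintro ⟨hxU, hx⟩
    obtain ⟨q, rfl⟩ := (Set.ext_iff.1 hU.range_fromSpec x).2 hxU
    exact ⟨q, (key q).1 hx, rfl⟩
  · rintro ⟨q, hq, rfl⟩
    exact ⟨(Set.ext_iff.1 hU.range_fromSpec _).1 (Set.mem_range_self q), (key q).2 hq⟩

end Chart

/-- Openness when all fibres are curves near the points considered. -/
theorem isOpen_smoothOrNode_of_dim {C S : Scheme.{u}} (π : C ⟶ S) [Flat π] [LocallyOfFinitePresentation π]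
    (W : C.Opens) (hd : ∀ x ∈ W, FlatMor.fibreDimAt π x = (1 : WithBot ℕ∞)) :
    IsOpen {x : C | x ∈ W ∧ SmoothOrNode π x} := by
  rw [isOpen_iff_forall_mem_open]
  intro x hx
  obtain ⟨V, hV, hxV, -⟩ := exists_isAffineOpen_mem_and_subset (U := (⊤ : S.Opens)) (x := π x) trivial
  obtain ⟨U, hU, hxU, hUW⟩ := exists_isAffineOpen_mem_and_subset (U := W ⊓ π ⁻¹ᵁ V) (x := x) ⟨hx.1, hxV⟩
  exact ⟨_, fun y hy => ⟨(hUW hy.1).1, hy.2⟩, isOpen_smoothOrNode_chart π hU hV (fun y hy => (hUW hy).2)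
    (fun y hy => hd y (hUW hy).1), hxU, hx.2⟩

theorem isOpen_smoothOrNode {C S : Scheme.{u}} (π : C ⟶ S) [Flat π] [LocallyOfFinitePresentation π]
    (hfib : ∀ s : S, ∀ Z ∈ irreducibleComponents (↥(π.fiber s) : Type u), topologicalKrullDim Z = 1) :
    IsOpen {x : C | SmoothOrNode π x} := by
  simpa using isOpen_smoothOrNode_of_dim π ⊤ fun x _ => fibreDimAt_eq_one π x (hfib _)

end Groth.Agent.NodalQ
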