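import Groth.Agent.NodalQ.JacobianIff
import Groth.Agent.PSQuad.Hypersurface
import Groth.Agent.NodalQ.FittJac

/-!
# Completions at rational points of affine schemes
-/

set_option autoImplicit false
set_option linter.style.haveILetI false
set_option linter.unusedSectionVars false
set_option backward.isDefEq.respectTransparency false
set_option backward.isDefEq.respectTransparency.types false
set_option maxHeartbeats 1000000

universe u

open IsLocalRing Groth.Agent.NodalLib

noncomputable section

namespace Groth.Agent.NodalQ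

variable {k : Type u} [Field k] {n : ℕ}

local notation "Poly" => MvPolynomial (Fin n) k
local notation "P" => MvPowerSeries (Fin n) k
local notation "𝔪" => maximalIdeal (MvPowerSeries (Fin n) k)

theorem isAdicComplete_psQuot (I : Ideal P) [IsLocalRing (P ⧸ I)] :
    IsAdicComplete (maximalIdeal (P ⧸ I)) (P ⧸ I) := by
  haveI : IsAdicComplete 𝔪 P := (CohenLib.isRegular_complete_mvPowerSeries (Λ := k) (Or.inl (Field.toIsField k)) n).2.2
  exact CILib.isAdicComplete_quotient _

theorem mk_mem_max {m : ℕ} (f : Fin m → P) (hf : ∀ j, f j ∈ 𝔪) [IsLocalRing (P ⧸ Ideal.span (Set.range f))] (i : Fin n) :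
    Ideal.Quotient.mk (Ideal.span (Set.range f)) (MvPowerSeries.X i) ∈ maximalIdeal _ := by
  rw [← map_max f hf]
  exact Ideal.mem_map_of_mem _ (X_mem i)

/-- A local algebra with first order coordinates satisfying the given equations completes to the quotient of
power series. -/
theorem exists_completion_equiv (S : Type u) [CommRing S] [IsLocalRing S] [IsNoetherianRing S] [Algebra k S]
    (hres : ∀ s : S, ∃ a : k, s - algebraMap k S a ∈ maximalIdeal S)
    {m : ℕ} (g : Fin m → Poly) (hg : ∀ j, (g j : P) ∈ 𝔪) (u : Poly →ₐ[k] S)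
    (huv : (MvPolynomial.idealOfVars (Fin n) k).map u = maximalIdeal S) (hug : ∀ j, u (g j) = 0)
    (Φ0 : S →ₐ[k] P ⧸ Ideal.span (Set.range fun j => (g j : P)))
    (hΦ0 : ∀ p : Poly, Φ0 (u p) = Ideal.Quotient.mk _ (p : P)) :
    ∃ e : (P ⧸ Ideal.span (Set.range fun j => (g j : P))) ≃ₐ[k] AdicCompletion (maximalIdeal S) S,
      ∀ p : Poly, e (Ideal.Quotient.mk _ (p : P)) = algebraMap S (AdicCompletion (maximalIdeal S) S) (u p) := by
  classical
  let Q := P ⧸ Ideal.span (Set.range fun j => (g j : P))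
  haveI : IsLocalRing Q := isLocalRing_quot _ hg
  haveI : IsAdicComplete (maximalIdeal Q) Q := isAdicComplete_psQuot _
  let Cp := AdicCompletion (maximalIdeal S) S
  have : IsAdicComplete (maximalIdeal Cp) Cp := NodeLib.isAdicComplete_maximalIdeal S
  have : IsNoetherianRing Cp := LC.Canon.isNoetherianRing_completion (R := S)
  have hmC : maximalIdeal Cp = (maximalIdeal S).map (algebraMap S Cp) := AdicCompletion.maximalIdeal_eq_map
  have hb : ∀ i, algebraMap S Cp (u (MvPolynomial.X i)) ∈ maximalIdeal Cp := fun i => by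
    rw [hmC]
    exact Ideal.mem_map_of_mem _ (huv ▸ Ideal.mem_map_of_mem _ (Ideal.subset_span ⟨i, rfl⟩))
  obtain ⟨Ψ, hΨ⟩ := PSLib.exists_algHom (R := k) (maximalIdeal Cp) _ hb
  have hΨp : ∀ p : Poly, Ψ (p : P) = algebraMap S Cp (u p) := by
    intro p
    have : Ψ.comp (MvPolynomial.coeToMvPowerSeries.algHom k) = (IsScalarTower.toAlgHom k S Cp).comp u :=
      MvPolynomial.algHom_ext fun i => by simp [hΨ]
    simpa using AlgHom.congr_fun this p
  have hsurj : Function.Surjective Ψ := by
    refine PSLib.surjective_of_span (K := k) (n := n) (R := Cp) ?_ Ψ (fun i => (hΨ i).symm ▸ hb i) ?_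
    · intro r
      obtain ⟨z, rfl⟩ := IsLocalRing.residue_surjective r
      obtain ⟨s, hs⟩ := Adic7.exists_sub_algebraMap_mem (maximalIdeal S) (IsNoetherian.noetherian _) z 1
      rw [pow_one, ← hmC] at hs
      obtain ⟨a, ha⟩ := hres s
      have h3 : z - algebraMap k Cp a ∈ maximalIdeal Cp := by
        rw [show z - algebraMap k Cp a =
          (z - algebraMap S Cp s) + algebraMap S Cp (s - algebraMap k S a) by
            rw [map_sub, ← IsScalarTower.algebraMap_apply]; ring]
        exact add_mem hs (hmC ▸ Ideal.mem_map_of_mem _ ha)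
      refine ⟨a, ?_⟩
      rw [RingHom.comp_apply, eq_comm, ← sub_eq_zero, ← map_sub, residue_eq_zero_iff]
      exact h3
    · refine le_trans ?_ le_sup_left
      rw [hmC, show (maximalIdeal S).map (algebraMap S Cp) = _ from congrArg (Ideal.map (algebraMap S Cp)) huv.symm]
      simp only [MvPolynomial.idealOfVars, Ideal.map_span, ← Set.range_comp]
      refine Ideal.span_mono (Set.range_subset_iff.2 fun i => ⟨i, (hΨ i)⟩)
  have hΦm : (maximalIdeal S).map Φ0 ≤ maximalIdeal Q := by
    rw [← huv]
    simp only [MvPolynomial.idealOfVars, Ideal.map_span, Ideal.span_le]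
    rintro _ ⟨_, ⟨_, ⟨i, rfl⟩, rfl⟩, rfl⟩
    rw [SetLike.mem_coe, hΦ0, MvPolynomial.coe_X]
    exact mk_mem_max (fun j => (g j : P)) hg i
  obtain ⟨Φ, hΦ⟩ := Adic7.exists_lift_completion (R := k) (maximalIdeal S) (maximalIdeal Q) Φ0 hΦm
  have hX : ∀ i, Φ (Ψ (MvPowerSeries.X i)) = Ideal.Quotient.mk _ (MvPowerSeries.X i) := fun i => by
    rw [hΨ, hΦ, hΦ0, MvPolynomial.coe_X]
  have hcomp : Φ.comp Ψ = Ideal.Quotient.mkₐ k (Ideal.span (Set.range fun j => (g j : P))) := by
    refine PSLib.algHom_ext (I := maximalIdeal Q) _ _ (fun i => ?_) hX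
    rw [AlgHom.comp_apply, hX]
    exact mk_mem_max (fun j => (g j : P)) hg i
  have hker : RingHom.ker Ψ = Ideal.span (Set.range fun j => (g j : P)) := by
    refine le_antisymm (fun x hx => ?_) (Ideal.span_le.2 (Set.range_subset_iff.2 fun j => ?_))
    · rw [← Ideal.Quotient.eq_zero_iff_mem]
      have := AlgHom.congr_fun hcomp x
      rw [AlgHom.comp_apply, RingHom.mem_ker.1 hx, map_zero] at this
      exact this.symm
    · show Ψ (g j : P) = 0
      rw [hΨp, hug, map_zero]
  exact ⟨(Ideal.quotientEquivAlgOfEq k hker.symm).trans (Ideal.quotientKerAlgEquivOfSurjective hsurj), fun p => hΨp p⟩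

omit n in
/-- The node criterion at a rational point, with a depth form of the converse. -/
theorem crit_point {K : Type u} [Field K] [IsAlgClosed K] (C : Type u) [CommRing C] [Algebra K C]
    [Algebra.FiniteType K C] (v : Ideal C) [v.IsMaximal] :
    (Crit (Localization.AtPrime v) → (_root_.IsReduced (Localization.AtPrime v) ∧
      (Fitt.ideal C (KaehlerDifferential K C) 1).map (algebraMap C (Localization.AtPrime v)) =
        maximalIdeal (Localization.AtPrime v))) ∧
    (((_root_.IsReduced (Localization.AtPrime v) ∨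
        maximalIdeal (Localization.AtPrime v) ∉ associatedPrimes (Localization.AtPrime v) (Localization.AtPrime v)) ∧
      (Fitt.ideal C (KaehlerDifferential K C) 1).map (algebraMap C (Localization.AtPrime v)) =
        maximalIdeal (Localization.AtPrime v)) → Crit (Localization.AtPrime v)) := by
  classical
  let S := Localization.AtPrime v
  haveI : IsNoetherianRing C := Algebra.FiniteType.isNoetherianRing K C
  haveI : IsNoetherianRing S := IsLocalization.isNoetherianRing v.primeCompl S inferInstance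
  -- the point is rational
  letI : Field (C ⧸ v) := Ideal.Quotient.field v
  haveI : Module.Finite K (C ⧸ v) := finite_of_finite_type_of_isJacobsonRing K (C ⧸ v)
  let e0 : K ≃ₐ[K] C ⧸ v := AlgEquiv.ofBijective (Algebra.ofId K (C ⧸ v)) IsAlgClosed.algebraMap_bijective_of_isIntegral
  let ev : C →ₐ[K] K := e0.symm.toAlgHom.comp (Ideal.Quotient.mkₐ K v)
  have hev : ∀ c, c ∈ v ↔ ev c = 0 := fun c => by
    show c ∈ v ↔ e0.symm (Ideal.Quotient.mk v c) = 0
    rw [map_eq_zero_iff _ e0.symm.injective, Ideal.Quotient.eq_zero_iff_mem]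
  obtain ⟨n, π₀, hπ₀⟩ := Algebra.FiniteType.iff_quotient_mvPolynomial''.1 (inferInstance : Algebra.FiniteType K C)
  let x : Fin n → C := fun i => π₀ (MvPolynomial.X i) - algebraMap K C (ev (π₀ (MvPolynomial.X i)))
  let π : MvPolynomial (Fin n) K →ₐ[K] C := MvPolynomial.aeval x
  have hπ : Function.Surjective π := by
    rw [← AlgHom.range_eq_top, eq_top_iff, ← (AlgHom.range_eq_top π₀).2 hπ₀, ← Algebra.map_top, ← MvPolynomial.adjoin_range_X,
      AlgHom.map_adjoin, Algebra.adjoin_le_iff]
    rintro _ ⟨_, ⟨i, rfl⟩, rfl⟩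
    exact ⟨MvPolynomial.X i + MvPolynomial.C (ev (π₀ (MvPolynomial.X i))), by simp [π, x]⟩
  have hevπ : ∀ p, ev (π p) = MvPolynomial.constantCoeff p := by
    have h : ev.comp π = MvPolynomial.aeval (0 : Fin n → K) := MvPolynomial.algHom_ext fun i => by simp [π, x]
    intro p
    have := AlgHom.congr_fun h p
    simpa using this
  obtain ⟨m, g, hg⟩ := Submodule.fg_iff_exists_fin_generating_family.1 (IsNoetherian.noetherian (RingHom.ker π))
  have hg0 : ∀ j, π (g j) = 0 := fun j => RingHom.mem_ker.1 (hg ▸ Submodule.subset_span ⟨j, rfl⟩)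
  let fh : Fin m → MvPowerSeries (Fin n) K := fun j => (g j : MvPowerSeries (Fin n) K)
  have hcc : ∀ p : MvPolynomial (Fin n) K,
      MvPowerSeries.constantCoeff (p : MvPowerSeries (Fin n) K) = MvPolynomial.constantCoeff p := fun p => by
    rw [← MvPowerSeries.coeff_zero_eq_constantCoeff_apply, MvPolynomial.coeff_coe, MvPolynomial.constantCoeff_eq]
  have hfh : ∀ j, fh j ∈ maximalIdeal (MvPowerSeries (Fin n) K) := fun j => by
    rw [mem_max_iff, hcc, ← hevπ, hg0, map_zero]
  let I : Ideal (MvPowerSeries (Fin n) K) := Ideal.span (Set.range fh)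
  let Q := MvPowerSeries (Fin n) K ⧸ I
  haveI : IsLocalRing Q := isLocalRing_quot fh hfh
  let u : MvPolynomial (Fin n) K →ₐ[K] S := (IsScalarTower.toAlgHom K C S).comp π
  have huv : (MvPolynomial.idealOfVars (Fin n) K).map u = maximalIdeal S := by
    rw [← Localization.AtPrime.map_eq_maximalIdeal]
    rw [show (MvPolynomial.idealOfVars (Fin n) K).map u =
      ((MvPolynomial.idealOfVars (Fin n) K).map π).map (algebraMap C S) from
        (Ideal.map_map (π : MvPolynomial (Fin n) K →+* C) (algebraMap C S)).symm]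
    refine congrArg (Ideal.map (algebraMap C S)) (le_antisymm ?_ fun c hc => ?_)
    · rw [Ideal.map_le_iff_le_comap, MvPolynomial.idealOfVars, Ideal.span_le]
      rintro _ ⟨i, rfl⟩
      show π (MvPolynomial.X i) ∈ v
      rw [hev, hevπ, MvPolynomial.constantCoeff_X]
    · obtain ⟨p, rfl⟩ := hπ c
      refine Ideal.mem_map_of_mem _ ?_
      rw [hev, hevπ] at hc
      rw [← pow_one (MvPolynomial.idealOfVars (Fin n) K), MvPolynomial.mem_pow_idealOfVars_iff']
      intro d hd
      rw [(Finsupp.degree_eq_zero_iff d).1 (by omega), ← MvPolynomial.constantCoeff_eq, hc]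
  have hevu : ∀ b : v.primeCompl, IsUnit (ev (b : C)) := fun b => isUnit_iff_ne_zero.2 fun h => b.2 ((hev _).2 h)
  let evS : S →ₐ[K] K := IsLocalization.liftAlgHom hevu
  have hres : ∀ s : S, ∃ a : K, s - algebraMap K S a ∈ maximalIdeal S := fun s => ⟨evS s, by
    rw [mem_maximalIdeal]
    intro hu
    have := hu.map evS
    rw [map_sub, AlgHom.commutes, Algebra.algebraMap_self, RingHom.id_apply, sub_self] at this
    exact not_isUnit_zero this⟩
  let Φp : MvPolynomial (Fin n) K →ₐ[K] Q := (Ideal.Quotient.mkₐ K I).comp (MvPolynomial.coeToMvPowerSeries.algHom K)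
  have hΦp : ∀ p, Φp p = Ideal.Quotient.mk I (p : MvPowerSeries (Fin n) K) := fun p => by
    show Ideal.Quotient.mk I (MvPolynomial.coeToMvPowerSeries.algHom K p) = _
    simp
  have hker : RingHom.ker π ≤ RingHom.ker Φp := by
    intro p hp
    rw [← hg] at hp
    rw [RingHom.mem_ker]
    refine Submodule.span_induction (p := fun p _ => Φp p = 0) ?_ (map_zero _) (fun a b _ _ ha hb => by simp [ha, hb])
      (fun r a _ ha => by simp [smul_eq_mul, ha]) hp
    rintro _ ⟨j, rfl⟩
    rw [hΦp, Ideal.Quotient.eq_zero_iff_mem]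
    exact Ideal.subset_span ⟨j, rfl⟩
  let ΦC : C →ₐ[K] Q := π.liftOfSurjective hπ Φp hker
  have hΦC : ∀ p, ΦC (π p) = Φp p := fun p => AlgHom.liftOfSurjective_apply π hπ Φp hker p
  have hΦu : ∀ b : v.primeCompl, IsUnit (ΦC (b : C)) := fun ⟨b, hb⟩ => by
    obtain ⟨p, rfl⟩ := hπ b
    show IsUnit (ΦC (π p))
    rw [hΦC, hΦp]
    refine IsUnit.map _ ?_
    rw [MvPowerSeries.isUnit_iff_constantCoeff, hcc, ← hevπ]
    exact hevu ⟨_, hb⟩
  let Φ0 : S →ₐ[K] Q := IsLocalization.liftAlgHom hΦu
  have hΦ0 : ∀ p, Φ0 (u p) = Ideal.Quotient.mk I (p : MvPowerSeries (Fin n) K) := fun p => by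
    show Φ0 (algebraMap C S (π p)) = _
    rw [IsLocalization.liftAlgHom_apply, IsLocalization.lift_eq]
    exact (hΦC p).trans (hΦp p)
  obtain ⟨eQ, heQ⟩ := exists_completion_equiv S hres g hfh u huv (fun j => by
    show algebraMap C S (π (g j)) = 0
    rw [hg0, map_zero]) Φ0 hΦ0
  let Sh := AdicCompletion (maximalIdeal S) S
  haveI : IsNoetherianRing Sh := LC.Canon.isNoetherianRing_completion (R := S)
  let es : Sh ≃+* Q := eQ.symm.toRingEquiv
  haveI : IsLocalHom (es : Sh →+* Q) := inferInstance
  let ψ : S →+* Q := (es : Sh →+* Q).comp (algebraMap S Sh)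
  haveI : IsLocalHom ψ := inferInstance
  have hflat : ψ.Flat := RingHom.Flat.comp completion_flat (RingHom.Flat.of_bijective es.bijective)
  have hm : (maximalIdeal S).map ψ = maximalIdeal Q := by
    rw [← Ideal.map_map, completion_map]
    exact map_maximalIdeal_of_surjective _ es.surjective
  have hdense : ∀ (N : ℕ) (z : Q), ∃ r : S, z - ψ r ∈ maximalIdeal Q ^ N := fun N z => by
    obtain ⟨r, hr⟩ := completion_dense S N (es.symm z)
    refine ⟨r, ?_⟩
    rw [← map_maximalIdeal_of_surjective (es : Sh →+* Q) es.surjective, ← Ideal.map_pow]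
    have := Ideal.mem_map_of_mem (es : Sh →+* Q) hr
    simpa [ψ] using this
  have hψu : ∀ p, ψ (u p) = Ideal.Quotient.mk I (p : MvPowerSeries (Fin n) K) := fun p => by
    show eQ.symm (algebraMap S Sh (u p)) = _
    rw [← heQ, AlgEquiv.symm_apply_apply]
  -- the Fitting ideal becomes the ideal of the minors
  have hFitt : ((Fitt.ideal C (KaehlerDifferential K C) 1).map (algebraMap C S)).map ψ =
      (minors fh).map (Ideal.Quotient.mk I) := by
    rw [fitting_kaehler g π hπ hg.symm 1]
    simp only [minors, Ideal.map_span, ← Set.image_comp]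
    congr 1
    have hdet : ∀ (ρ : Fin (n - 1) → Fin m) (γ : Fin (n - 1) → Fin n),
        ((((Matrix.of fun (j : Fin m) (i : Fin n) => MvPolynomial.pderiv i (g j)).submatrix ρ γ).det :
          MvPolynomial (Fin n) K) : MvPowerSeries (Fin n) K) = ((jac fh).submatrix ρ γ).det := fun ρ γ => by
      rw [← MvPolynomial.coeToMvPowerSeries.ringHom_apply, RingHom.map_det]
      congr 1
      refine Matrix.ext fun a b => ?_
      simp [jac, fh, MvPowerSeries.pderiv_coe]
    ext z
    constructor
    · rintro ⟨_, ⟨ρ, γ, hρ, hγ, rfl⟩, rfl⟩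
      refine ⟨_, ⟨ρ, γ, hρ, hγ, rfl⟩, ?_⟩
      show Ideal.Quotient.mk I _ = ψ (u _)
      rw [hψu, hdet]
    · rintro ⟨_, ⟨ρ, γ, hρ, hγ, rfl⟩, rfl⟩
      refine ⟨_, ⟨ρ, γ, hρ, hγ, rfl⟩, ?_⟩
      show ψ (u _) = Ideal.Quotient.mk I _
      rw [hψu, hdet]
  letI : Algebra S Q := ψ.toAlgebra
  haveI : Module.Flat S Q := hflat
  haveI : IsLocalHom (algebraMap S Q) := ‹IsLocalHom ψ›
  haveI : Module.FaithfullyFlat S Q := Module.FaithfullyFlat.of_flat_of_isLocalHom
  haveI : IsAlgClosed (ResidueField S) := by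
    have hb : Function.Bijective ((residue S).comp (algebraMap K S)) := by
      refine ⟨RingHom.injective _, fun z => ?_⟩
      obtain ⟨a, rfl⟩ := residue_surjective z
      obtain ⟨c, hc⟩ := hres a
      exact ⟨c, (Ideal.Quotient.eq.2 hc).symm⟩
    exact IsAlgClosed.of_ringEquiv K _ (RingEquiv.ofBijective _ hb)
  constructor
  · intro h
    have hq : QCrit S := QCrit.of_crit (RingHom.id S) (RingHom.Flat.id S) (Ideal.map_id _) h
    haveI : Algebra.IsSeparable K (ResidueField S) := ⟨fun z => by
      obtain ⟨a, rfl⟩ := residue_surjective z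
      obtain ⟨c, hc⟩ := hres a
      rw [show residue S a = algebraMap K (ResidueField S) c from Ideal.Quotient.eq.2 hc]
      exact isSeparable_algebraMap _⟩
    obtain ⟨a, b, c, hd, e, -⟩ := exists_iso K hq
    haveI := (model_spec a b c hd).2
    haveI : _root_.IsReduced Q := isReduced_of_injective (es.symm.trans e).toRingHom (es.symm.trans e).injective
    obtain ⟨-, hmin, -⟩ := spec_of_qcrit fh hfh (QCrit.map ψ hflat hm hq)
    refine ⟨(qcrit_of_iso hd e).2, ?_⟩
    refine (Ideal.comap_map_eq_self_of_faithfullyFlat (B := Q) _).symm.trans ?_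
    rw [show algebraMap S Q = ψ from rfl, hFitt,
      show (minors fh).map (Ideal.Quotient.mk I) = maximalIdeal Q by
        rw [← map_max fh hfh, ← hmin, Ideal.map_sup, Ideal.map_quotient_self, sup_bot_eq], ← hm]
    exact Ideal.comap_map_eq_self_of_faithfullyFlat (B := Q) _
  · rintro ⟨hdep, hFm⟩
    have hmin : maximalIdeal (MvPowerSeries (Fin n) K) ≤ minors fh ⊔ I := by
      have h1 : (maximalIdeal (MvPowerSeries (Fin n) K)).map (Ideal.Quotient.mk I) = (minors fh).map (Ideal.Quotient.mk I) := by
        rw [map_max fh hfh, ← hm, ← hFitt, hFm]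
      have h2 := congrArg (Ideal.comap (Ideal.Quotient.mk I)) h1
      rw [Ideal.comap_map_of_surjective _ Ideal.Quotient.mk_surjective, Ideal.comap_map_of_surjective _
        Ideal.Quotient.mk_surjective, ← RingHom.ker_eq_comap_bot, Ideal.mk_ker] at h2
      exact le_sup_left.trans h2.le
    have hmin' : minors fh ⊔ I ≤ maximalIdeal (MvPowerSeries (Fin n) K) := by
      refine sup_le (fun z hz => ?_) (span_le_max fh hfh)
      have h1 : Ideal.Quotient.mk I z ∈ maximalIdeal Q := by
        rw [← hm, ← hFm, hFitt]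
        exact Ideal.mem_map_of_mem _ hz
      rw [← pow_one (maximalIdeal Q)] at h1
      have := mem_of_mk_mem_pow fh hfh h1
      rwa [pow_one, sup_eq_right.2 (span_le_max fh hfh)] at this
    obtain ⟨F⟩ := nonempty_frame fh hfh (finrank_eq_two_of_minors fh hfh hmin hmin')
    have hsoc : ∀ z : Q, (∀ t ∈ maximalIdeal Q, t * z = 0) → z = 0 := by
      intro z hz
      by_cases hass : maximalIdeal S ∈ associatedPrimes S S
      · exfalso
        rcases hdep with hred | hno
        swap
        · exact hno hass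
        obtain ⟨-, w, hw⟩ := Alg6.mem_ass_iff.1 hass
        by_cases hwm : w ∈ maximalIdeal S
        · have hw0 : w = 0 := hred.eq_zero w ⟨2, by rw [sq]; exact (hw w).1 hwm⟩
          exact (mem_maximalIdeal _).1 ((hw 1).2 (by simp [hw0])) isUnit_one
        · obtain ⟨w', hw'⟩ := (not_not.1 (mt (mem_maximalIdeal w).2 hwm) : IsUnit w).exists_right_inv
          have h0 : maximalIdeal Q = ⊥ := by
            rw [← hm, Ideal.map_eq_bot_iff_le_ker]
            intro t ht
            have ht0 : t * w = 0 := (hw t).1 ht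
            have : t = 0 := by rw [← mul_one t, ← hw', ← mul_assoc, ht0, zero_mul]
            simp [this]
          have hU : Ideal.Quotient.mk I (MvPowerSeries.X F.p) = 0 := by
            rw [← Ideal.mem_bot, ← h0]; exact mk_mem_max fh hfh _
          exact (mem_maximalIdeal _).1 (F.indep hfh (s := 1) (t := 0) (by rw [hU]; simp)).1 isUnit_one
      · obtain ⟨r, hr, hreg⟩ := (Alg6.exists_isSMulRegular_mem_iff (M := S) (maximalIdeal S)).2
          (fun p hp hle => hass (by
            rwa [(maximalIdeal.isMaximal S).eq_of_le (IsAssociatedPrime.isPrime hp).ne_top hle]))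
        have hregQ : IsSMulRegular Q (algebraMap S Q r) := IsSMulRegular.of_flat hreg
        have hψr : ψ r ∈ maximalIdeal Q := hm ▸ Ideal.mem_map_of_mem ψ hr
        exact hregQ (show ψ r * z = ψ r * 0 by rw [hz _ hψr, mul_zero])
    obtain ⟨a, b, c, hd, ⟨e⟩⟩ := exists_iso_of_minors fh hfh hmin hmin' hsoc
    haveI : IsLocalHom (e.symm.toRingEquiv : (MvPowerSeries (Fin 2) K ⧸ Ideal.span {qf K a b c}) →+* Q) := inferInstance
    have hqQ : QCrit Q := QCrit.map (e.symm.toRingEquiv : (MvPowerSeries (Fin 2) K ⧸ Ideal.span {qf K a b c}) →+* Q)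
      (RingHom.Flat.of_bijective e.symm.bijective) (map_maximalIdeal_of_surjective _ e.symm.surjective) (model_spec a b c hd).1
    exact (QCrit.comap ψ hflat hm hdense hqQ).crit

omit n in
/-- The node criterion at a rational point. -/
theorem crit_iff_point {K : Type u} [Field K] [IsAlgClosed K] (C : Type u) [CommRing C] [Algebra K C]
    [Algebra.FiniteType K C] (v : Ideal C) [v.IsMaximal] :
    Crit (Localization.AtPrime v) ↔ (_root_.IsReduced (Localization.AtPrime v) ∧
      (Fitt.ideal C (KaehlerDifferential K C) 1).map (algebraMap C (Localization.AtPrime v)) =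
        maximalIdeal (Localization.AtPrime v)) :=
  ⟨(crit_point C v).1, fun h => (crit_point C v).2 ⟨Or.inl h.1, h.2⟩⟩

end Groth.Agent.NodalQ
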