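import Groth.Agent.NodalQ.MaxOpen
import Groth.Agent.OmegaUniv.Unram
import Groth.Agent.FittX.Sheaf

/-!
# Unramifiedness of the singular locus cut out by the first Fitting ideal, in charts
-/

set_option autoImplicit false
set_option linter.style.haveILetI false
set_option backward.isDefEq.respectTransparency false
set_option backward.isDefEq.respectTransparency.types false
set_option maxHeartbeats 1000000

universe u

open CategoryTheory CategoryTheory.Limits AlgebraicGeometry TopologicalSpace Groth.Agent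

noncomputable section

namespace Groth.Agent.NodalQ

variable {X S : Scheme.{u}} (f : X ⟶ S) [LocallyOfFiniteType f] (Ω : X.Modules) (d : OmegaSh.Der f Ω)
  (hd : OmegaSh.IsUniversal d)

include hd in
theorem isFT_of_isUniversal : CohB1.IsFT Ω := by
  choose U hU V hV hxU e using Synt29.OmegaStalk.exists_charts f
  refine QCoh.isFT_of_finite (Synt29.OmegaStalk.isQCoh_of_isUniversal hd) U
    (eq_top_iff.mpr fun x _ => Opens.mem_iSup.mpr ⟨x, hxU x⟩) hU fun x => ?_
  let _ := (f.appLE (V x) (U x) (e x)).hom.toAlgebra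
  haveI : Algebra.FiniteType Γ(S, V x) Γ(X, U x) := f.finiteType_appLE (hV x) (hU x) (e x)
  obtain ⟨l⟩ := Synt29.OmegaStalk.exists_linearEquiv_sections hd (hU x) (hV x) (e x)
  exact Module.Finite.equiv l.symm

include hd in
theorem sheafIdeal_fitting (r : ℕ) {U : X.Opens} (hU : IsAffineOpen U) {V : S.Opens} (hV : IsAffineOpen V)
    (e : U ≤ f ⁻¹ᵁ V) :
    letI := (f.appLE V U e).hom.toAlgebra
    (Fitt.sheafIdeal Ω r).ideal ⟨U, hU⟩ = Fitt.ideal Γ(X, U) (KaehlerDifferential Γ(S, V) Γ(X, U)) r := by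
  let _ := (f.appLE V U e).hom.toAlgebra
  have hM := Synt29.OmegaStalk.isQCoh_of_isUniversal hd
  have hft := isFT_of_isUniversal f Ω d hd
  haveI := QCoh.finite_of_isFT hM hft hU
  obtain ⟨l⟩ := Synt29.OmegaStalk.exists_linearEquiv_sections hd hU hV e
  rw [FittX.sheafIdeal_ideal hM hft]
  exact FittX.ideal_congr l r

include hd in
/-- The singular subscheme is unramified over the base iff it is so in every chart. -/
theorem formallyUnramified_sing_iff :
    FormallyUnramified ((Fitt.sheafIdeal Ω 1).subschemeι ≫ f) ↔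
      ∀ (U : X.Opens) (_ : IsAffineOpen U) (V : S.Opens) (_ : IsAffineOpen V) (e : U ≤ f ⁻¹ᵁ V),
        letI := (f.appLE V U e).hom.toAlgebra
        Algebra.FormallyUnramified Γ(S, V)
          (Γ(X, U) ⧸ Fitt.ideal Γ(X, U) (KaehlerDifferential Γ(S, V) Γ(X, U)) 1) := by
  let I := Fitt.sheafIdeal Ω 1
  have key : ∀ (U : X.Opens) (hU : IsAffineOpen U) (V : S.Opens) (hV : IsAffineOpen V) (e : U ≤ f ⁻¹ᵁ V),
      (letI := (f.appLE V U e).hom.toAlgebra
      Algebra.FormallyUnramified Γ(S, V)
          (Γ(X, U) ⧸ Fitt.ideal Γ(X, U) (KaehlerDifferential Γ(S, V) Γ(X, U)) 1)) ↔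
        FormallyUnramified (I.subschemeCover.f ⟨U, hU⟩ ≫ I.subschemeι ≫ f) := by
    intro U hU V hV e
    let _ := (f.appLE V U e).hom.toAlgebra
    rw [← sheafIdeal_fitting f Ω d hd 1 hU hV e]
    have h1 : I.subschemeCover.f ⟨U, hU⟩ ≫ I.subschemeι ≫ f =
        Spec.map (CommRingCat.ofHom (algebraMap Γ(S, V) (Γ(X, U) ⧸ I.ideal ⟨U, hU⟩))) ≫ hV.fromSpec := by
      rw [← Category.assoc, I.subschemeCover_map_subschemeι]
      show ((Spec.map (CommRingCat.ofHom (Ideal.Quotient.mk (I.ideal ⟨U, hU⟩))) ≫ hU.isoSpec.inv) ≫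
        Scheme.Opens.ι (X := X) U) ≫ f = _
      rw [Category.assoc, Category.assoc]
      erw [IsAffineOpen.isoSpec_inv_ι_assoc]
      rw [← IsAffineOpen.SpecMap_appLE_fromSpec f hV hU e, ← Category.assoc, ← Spec.map_comp]
      rfl
    rw [h1]
    refine ⟨fun h => ?_, fun h => ?_⟩
    · haveI : FormallyUnramified (Spec.map (CommRingCat.ofHom (algebraMap Γ(S, V) (Γ(X, U) ⧸ I.ideal ⟨U, hU⟩)))) :=
        (HasRingHomProperty.Spec_iff (P := @FormallyUnramified)).2 (RingHom.formallyUnramified_algebraMap.2 h)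
      exact MorphismProperty.comp_mem _ _ _ inferInstance inferInstance
    · haveI := h
      haveI h2 : FormallyUnramified (Spec.map (CommRingCat.ofHom (algebraMap Γ(S, V) (Γ(X, U) ⧸ I.ideal ⟨U, hU⟩)))) :=
        FormallyUnramified.of_comp _ hV.fromSpec
      exact RingHom.formallyUnramified_algebraMap.1 ((HasRingHomProperty.Spec_iff (P := @FormallyUnramified)).1 h2)
  constructor
  · intro h U hU V hV e
    rw [key U hU V hV e]
    haveI := h
    exact MorphismProperty.comp_mem _ _ _ inferInstance h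
  · intro h
    choose U hU V hV hxU e using Synt29.OmegaStalk.exists_charts f
    let 𝒰 : I.subscheme.OpenCover := Scheme.Cover.mkOfCovers I.subscheme
      (fun z => Spec (I.subschemeCover.X ⟨U (I.subschemeι z), hU _⟩))
      (fun z => I.subschemeCover.f ⟨U (I.subschemeι z), hU _⟩)
      (fun z => ⟨z, (I.opensRange_subschemeCover_map ⟨U (I.subschemeι z), hU _⟩).ge (hxU _)⟩)
      (fun z => inferInstance)
    exact (IsZariskiLocalAtSource.iff_of_openCover (P := @FormallyUnramified) 𝒰).2 fun z =>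
      (key _ (hU _) _ (hV _) (e _)).1 (h _ (hU _) _ (hV _) (e _))

end Groth.Agent.NodalQ
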