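import Groth.Agent.NodalQ.Univ
import Groth.Agent.NodalQ.Sing
import Groth.Agent.CIBaseChange.Field
import Groth.Agent.KRegLib.CIMor
import Groth.Agent.LC.GorLCI
import Groth.Agent.Synt29.FieldMor
import Groth.Agent.Synt29.Fibres
import Groth.Agent.NodalLib.Descent

/-!
# Nodal families are the syntomic curves with unramified singular locus
-/

set_option autoImplicit false
set_option linter.style.haveILetI false
set_option linter.unusedSectionVars false
set_option backward.isDefEq.respectTransparency false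
set_option backward.isDefEq.respectTransparency.types false
set_option maxHeartbeats 1000000

universe u

open CategoryTheory CategoryTheory.Limits AlgebraicGeometry TopologicalSpace IsLocalRing Groth.Agent
open scoped TensorProduct

attribute [local instance] Algebra.TensorProduct.rightAlgebra

noncomputable section

namespace Groth.Agent.NodalQ

theorem isCI_of_isRegularLocalRing (A : Type u) [CommRing A] [IsRegularLocalRing A] :
    Pi1.IsCompleteIntersection A := by
  refine (CILib.isCI_iff_ciKer (RingHom.id A) Function.surjective_id).2 ⟨0, Fin.elim0, ?_, by simp⟩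
  rw [(RingHom.injective_iff_ker_eq_bot (RingHom.id A)).1 Function.injective_id,
    Set.range_eq_empty, Ideal.span_empty]

theorem isGorensteinRing_field (K : Type u) [Field K] : LocCoh.IsGorensteinRing K := by
  refine { isGorensteinLocalRing_localization := fun p _ => ?_ }
  haveI : IsRegularLocalRing (Localization.AtPrime p) := IsRegularRing.isRegularLocalRing_localization p
  exact LC.gorenstein_of_isRegularLocalRing

theorem isCI_of_completion {A : Type u} [CommRing A] [IsLocalRing A] {κ : Type u} [Field κ] {a b c : κ}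
    (hd : 4 * a * c - b ^ 2 ≠ 0)
    (e : AdicCompletion (maximalIdeal A) A ≃+* (MvPowerSeries (Fin 2) κ ⧸ Ideal.span {qf κ a b c})) :
    Pi1.IsCompleteIntersection A := by
  obtain ⟨-, hreg, -⟩ := CohenLib.isRegular_complete_mvPowerSeries (Λ := κ) (Or.inl (Field.toIsField κ)) 2
  have hmem : qf κ a b c ∈ maximalIdeal (MvPowerSeries (Fin 2) κ) := by
    rw [mem_max_iff, qf]
    simp
  have hne : qf κ a b c ≠ 0 := fun h0 => by
    classical
    have hX : MvPowerSeries.X (0 : Fin 2) * MvPowerSeries.X 1 =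
        MvPowerSeries.monomial (Finsupp.single (0 : Fin 2) 1 + Finsupp.single 1 1) (1 : κ) := by
      rw [MvPowerSeries.X_def, MvPowerSeries.X_def, MvPowerSeries.monomial_mul_monomial, mul_one]
    have ha := congrArg (MvPowerSeries.coeff (Finsupp.single (0 : Fin 2) 2)) h0
    have hb := congrArg (MvPowerSeries.coeff (Finsupp.single (0 : Fin 2) 1 + Finsupp.single 1 1)) h0
    simp [qf, mul_assoc, hX, MvPowerSeries.coeff_C_mul, MvPowerSeries.X_pow_eq, MvPowerSeries.coeff_monomial,
      Finsupp.ext_iff] at ha hb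
    refine hd ?_
    rw [ha, hb]
    ring
  refine ⟨MvPowerSeries (Fin 2) κ, inferInstance, hreg, [qf κ a b c], fun r hr => ?_, ?_, ⟨?_⟩⟩
  · rw [List.mem_singleton.1 hr]; exact hmem
  · refine RingTheory.Sequence.IsRegular.of_isWeaklyRegular_of_mem_maximalIdeal _ (fun r hr => ?_) ?_
    · rw [List.mem_singleton.1 hr]; exact hmem
    · rw [RingTheory.Sequence.isWeaklyRegular_singleton_iff]
      haveI := RegLoc6.isDomain_of_isRegularLocalRing (MvPowerSeries (Fin 2) κ)
      exact (isRegular_of_ne_zero hne).left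
  · exact e.trans (Ideal.quotEquivOfEq (congrArg Ideal.span (Set.ext fun r => by simp)))

theorem isCI_stalk_of_node (k : Type u) [Field k] (X : Scheme.{u}) [X.Over (Spec (CommRingCat.of k))]
    [LocallyOfFiniteType (X ↘ Spec (CommRingCat.of k))] (hdim : topologicalKrullDim X ≤ 1) (x : X)
    (h : Curv2.IsNode k X x) : Pi1.IsCompleteIntersection (X.presheaf.stalk x) := by
  haveI : IsLocallyNoetherian X := LocallyOfFiniteType.isLocallyNoetherian (X ↘ Spec (CommRingCat.of k))
  obtain ⟨v, rfl⟩ : ∃ v, Curv2.bcFst k X (AlgebraicClosure k) v = x := by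
    obtain ⟨v, hv, -⟩ := h.2
    exact ⟨v, hv⟩
  let x := Curv2.bcFst k X (AlgebraicClosure k) v
  have hsep := isSeparable_of_node k X hdim x h
  letI := Curv2.stalkAlgebra k X x
  haveI : Algebra.IsSeparable k (IsLocalRing.ResidueField (X.presheaf.stalk x)) := by
    letI := Curv2.resAlgebra k X x
    exact @Algebra.IsSeparable.of_equiv_equiv k (X.residueField x) k (IsLocalRing.ResidueField (X.presheaf.stalk x)) _ _ _ _
      (Curv2.resAlgebra k X x) _ (RingEquiv.refl k) (RingEquiv.refl _) (RingHom.ext fun t => rfl) hsep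
  obtain ⟨a, b, c, hd, e, -⟩ := exists_iso k (node_spec k X hdim v h).2
  exact isCI_of_completion hd e

/-- A curve with at worst nodes is a local complete intersection. -/
theorem isSyntomicMor_of_atWorstNodal (k : Type u) [Field k] (X : Scheme.{u}) [X.Over (Spec (CommRingCat.of k))]
    [LocallyOfFiniteType (X ↘ Spec (CommRingCat.of k))] (hdim : topologicalKrullDim X ≤ 1)
    (hX : Curv2.AtWorstNodal k X) : Synt.IsSyntomicMor (X ↘ Spec (CommRingCat.of k)) := by
  let p := X ↘ Spec (CommRingCat.of k)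
  haveI : IsLocallyNoetherian X := LocallyOfFiniteType.isLocallyNoetherian p
  haveI : JacobsonSpace X := LocallyOfFiniteType.jacobsonSpace p
  have hCI : ∀ x : X, IsClosed ({x} : Set X) → Pi1.IsCompleteIntersection (X.presheaf.stalk x) := by
    intro x hx
    rcases hX x hx with hs | hn
    · haveI : LocallyOfFinitePresentation p := inferInstance
      haveI := SmoothReg.isRegularLocalRing_stalk_of_mem_smoothLocus p ((exists_smooth_iff _ _).1 hs)
      exact isCI_of_isRegularLocalRing _
    · exact isCI_stalk_of_node k X hdim x hn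
  refine Synt29.isSyntomicMor_of_lci k p fun x => ?_
  obtain ⟨U, hU, hxU, -⟩ := exists_isAffineOpen_mem_and_subset (U := (⊤ : X.Opens)) (x := x) trivial
  refine ⟨⟨U, hU⟩, hxU, ?_⟩
  letI := (Synt29.secHom k p U).toAlgebra
  haveI : Algebra.FiniteType k Γ(X, U) := Synt29.finiteType_secHom k p ⟨U, hU⟩
  refine Synt29.isLCIOver_iff_forall_maximal.2 fun m => ?_
  let q : PrimeSpectrum Γ(X, U) := ⟨m.asIdeal, inferInstance⟩
  have hy : hU.fromSpec q ∈ U := hU.range_fromSpec.le ⟨q, rfl⟩
  have hq : hU.primeIdealOf ⟨hU.fromSpec q, hy⟩ = q :=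
    hU.fromSpec.isOpenEmbedding.injective (hU.fromSpec_primeIdealOf _)
  have hcl : IsClosed ({hU.fromSpec q} : Set X) := by
    have h1 : IsClosed ({q} : Set (PrimeSpectrum Γ(X, U))) :=
      (PrimeSpectrum.isClosed_singleton_iff_isMaximal q).2 m.isMaximal
    have h2 := Set.ext_iff.1 hU.fromSpec.isOpenEmbedding.preimage_closedPoints q
    exact mem_closedPoints_iff.1 (h2.2 (mem_closedPoints_iff.2 h1))
  letI := X.presheaf.algebra_section_stalk ⟨hU.fromSpec q, hy⟩
  haveI := hU.isLocalization_stalk ⟨hU.fromSpec q, hy⟩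
  haveI : IsNoetherianRing Γ(X, U) := Algebra.FiniteType.isNoetherianRing k _
  haveI : Algebra.EssFiniteType k (Localization.AtPrime m.asIdeal) :=
    haveI := Algebra.EssFiniteType.of_isLocalization (R := Γ(X, U)) (Localization.AtPrime m.asIdeal) m.asIdeal.primeCompl
    Algebra.EssFiniteType.comp k Γ(X, U) _
  have hqm : (hU.primeIdealOf ⟨hU.fromSpec q, hy⟩).asIdeal.primeCompl = m.asIdeal.primeCompl := by rw [hq]
  haveI : IsLocalization m.asIdeal.primeCompl (X.presheaf.stalk (hU.fromSpec q)) :=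
    hqm ▸ hU.isLocalization_stalk ⟨hU.fromSpec q, hy⟩
  exact (CIBaseChange.isCI_iff_isCIOver k _).1 (CIBaseChange.ci_of_ringEquiv
    (IsLocalization.algEquiv m.asIdeal.primeCompl (X.presheaf.stalk (hU.fromSpec q))
      (Localization.AtPrime m.asIdeal)).toRingEquiv (hCI _ hcl))

theorem ringKrullDim_stalk_ne_zero {P S : Scheme.{u}} (q : P ⟶ S) [LocallyOfFiniteType q] [Subsingleton ↥S] (z : P)
    (hz : FibDim.rd q z = 0) (hd : FlatMor.fibreDimAt q z = (1 : WithBot ℕ∞)) :
    ringKrullDim (P.presheaf.stalk z) ≠ 0 := by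
  intro h0
  obtain ⟨w, hwz, -, -, he⟩ := FibDim.exists_fibMax_generization q z
  have hne : w ≠ z := by
    rintro rfl
    rw [hz] at he
    rw [he] at hd
    norm_num at hd
  have hlt : z < w := lt_of_le_not_ge hwz fun h => hne (Specializes.antisymm hwz h).eq
  rw [ringKrullDim_stalk_eq_coheight] at h0
  have h2 := Order.coheight_add_one_le hlt
  have h3 : Order.coheight z = 0 := by exact_mod_cast h0
  rw [h3] at h2
  exact absurd h2 (by simp)

/-- A closed point of a syntomic curve over a field is not embedded. -/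
theorem notMem_ass_of_syntomic {K : Type u} [Field K] {P : Scheme.{u}} (q : P ⟶ Spec (CommRingCat.of K))
    [LocallyOfFiniteType q] (h : Synt.IsSyntomicMor q) (z : P) (hz : IsClosed ({z} : Set P))
    (hd : FlatMor.fibreDimAt q z = (1 : WithBot ℕ∞)) :
    maximalIdeal (P.presheaf.stalk z) ∉ associatedPrimes (P.presheaf.stalk z) (P.presheaf.stalk z) := by
  haveI : IsLocallyNoetherian P := LocallyOfFiniteType.isLocallyNoetherian q
  obtain ⟨U, hU, hzU, -⟩ := exists_isAffineOpen_mem_and_subset (U := (⊤ : P.Opens)) (x := z) trivial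
  letI := (Synt29.secHom K q U).toAlgebra
  have hS := Synt29.isSyntomic_of_isLCIOver (Synt29.isLCIOver_of_isSyntomicMor K q h ⟨U, hU⟩)
  haveI hG : LocCoh.IsGorensteinRing Γ(P, U) :=
    LC.gorensteinRing_of_isLCI K Γ(P, U) (isGorensteinRing_field K) (Synt29.isLCI_of_isSyntomic hS)
  let m := (hU.primeIdealOf ⟨z, hzU⟩).asIdeal
  haveI := hG.isGorensteinLocalRing_localization m
  have hCM : LocCoh.IsCohenMacaulayLocalRing (Localization.AtPrime m) := LC.isCohenMacaulayLocalRing_of_gorenstein
  letI := P.presheaf.algebra_section_stalk ⟨z, hzU⟩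
  haveI := hU.isLocalization_stalk ⟨z, hzU⟩
  let e := (IsLocalization.algEquiv m.primeCompl (P.presheaf.stalk z) (Localization.AtPrime m)).toRingEquiv
  haveI : Subsingleton ↥(Spec (CommRingCat.of K)) := inferInstanceAs (Subsingleton (PrimeSpectrum K))
  letI : P.Over (Spec (CommRingCat.of K)) := ⟨q⟩
  haveI : LocallyOfFiniteType (P ↘ Spec (CommRingCat.of K)) := ‹LocallyOfFiniteType q›
  have hne := ringKrullDim_stalk_ne_zero q z ((NodalLib.isClosed_iff_rd_eq_zero (k := K) z).1 hz) hd
  rw [ringKrullDim_eq_of_ringEquiv e] at hne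
  intro hass
  have hass' := maximalIdeal_mem_ass_of_ringEquiv e hass
  have h1 : ¬ (1 : ℕ∞) ≤ LocCoh.depth (Localization.AtPrime m) (Localization.AtPrime m) := fun h =>
    Alg6.one_le_depth_iff.1 h hass'
  apply hne
  rw [← Module.supportDim_self_eq_ringKrullDim, hCM.supportDim_eq_depth, Order.lt_one_iff.1 (not_le.1 h1)]
  rfl

section Family

variable {X S : Scheme.{u}} (f : X ⟶ S) [Flat f] [LocallyOfFinitePresentation f]

theorem isSyntomicMor_of_isNodalFamily (h : Curv2.IsNodalFamily f) : Synt.IsSyntomicMor f := by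
  refine Synt29.isSyntomicMor_of_fibres f fun s => ?_
  obtain ⟨hd, hn⟩ := h.2.2 s
  letI : (f.fiber s).Over (Spec (CommRingCat.of (S.residueField s))) := ⟨f.fiberToSpecResidueField s⟩
  haveI : LocallyOfFiniteType ((f.fiber s) ↘ Spec (CommRingCat.of (S.residueField s))) :=
    inferInstanceAs (LocallyOfFiniteType (pullback.snd f (S.fromSpecResidueField s)))
  refine isSyntomicMor_of_atWorstNodal (S.residueField s) (f.fiber s) ?_ hn
  let str := (f.fiber s) ↘ Spec (CommRingCat.of (S.residueField s))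
  haveI : Subsingleton ↥(Spec (CommRingCat.of (S.residueField s))) :=
    inferInstanceAs (Subsingleton (PrimeSpectrum (S.residueField s)))
  rw [FibDim.topologicalKrullDim_eq_iSup_rd str]
  refine iSup_le fun z => ?_
  obtain ⟨C, hC, hsub⟩ := exists_mem_irreducibleComponents_subset_of_isIrreducible (closure {z})
    isIrreducible_singleton.closure
  rw [← FibDim.topologicalKrullDim_closure str z, ← hd C hC]
  exact Topology.IsInducing.topologicalKrullDim_le (f := Set.inclusion hsub) (Topology.IsEmbedding.inclusion hsub).toIsInducing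

theorem unramified_sing_of_nodalPts (h : nodalPts f = Set.univ) {U : X.Opens} (hU : IsAffineOpen U) {V : S.Opens}
    (hV : IsAffineOpen V) (e : U ≤ f ⁻¹ᵁ V) :
    letI := (f.appLE V U e).hom.toAlgebra
    Algebra.FormallyUnramified Γ(S, V) (Γ(X, U) ⧸ Fitt.ideal Γ(X, U) (KaehlerDifferential Γ(S, V) Γ(X, U)) 1) := by
  letI := (f.appLE V U e).hom.toAlgebra
  haveI : Algebra.FinitePresentation Γ(S, V) Γ(X, U) := f.finitePresentation_appLE hV hU e
  refine Algebra.formallyUnramified_iff_forall.2 fun qb => ?_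
  let q := PrimeSpectrum.comap (Ideal.Quotient.mk _) qb
  have hy : hU.fromSpec q ∈ U := hU.range_fromSpec.le ⟨q, rfl⟩
  have hq : hU.primeIdealOf ⟨hU.fromSpec q, hy⟩ = q :=
    hU.fromSpec.isOpenEmbedding.injective (hU.fromSpec_primeIdealOf _)
  obtain ⟨hd, hx⟩ := h.ge (Set.mem_univ (hU.fromSpec q))
  have hns : ¬ ∃ W : X.Opens, hU.fromSpec q ∈ W ∧ Smooth (W.ι ≫ f) := fun hs => by
    refine (smooth_iff_chart f hU hV e hy hd).1 hs ?_
    rw [hq]
    intro b hb
    show Ideal.Quotient.mk _ b ∈ qb.asIdeal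
    rw [Ideal.Quotient.eq_zero_iff_mem.2 hb]
    exact qb.asIdeal.zero_mem
  exact ((node_iff_chart f hU.fromSpec hV.fromSpec (IsAffineOpen.SpecMap_appLE_fromSpec f hV hU e).symm
    (hU.fromSpec q) q rfl qb rfl).1 (hx.resolve_left hns)).2

theorem nodalPts_eq_univ_of_syntomic (hs : Synt.IsSyntomicMor f)
    (hd : ∀ x, FlatMor.fibreDimAt f x = (1 : WithBot ℕ∞))
    (hu : ∀ (U : X.Opens) (_ : IsAffineOpen U) (V : S.Opens) (_ : IsAffineOpen V) (e : U ≤ f ⁻¹ᵁ V),
      letI := (f.appLE V U e).hom.toAlgebra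
      Algebra.FormallyUnramified Γ(S, V)
        (Γ(X, U) ⧸ Fitt.ideal Γ(X, U) (KaehlerDifferential Γ(S, V) Γ(X, U)) 1)) :
    nodalPts f = Set.univ := by
  refine Set.eq_univ_of_forall fun x => ⟨hd x, ?_⟩
  by_cases hsm : ∃ W : X.Opens, x ∈ W ∧ Smooth (W.ι ≫ f)
  · exact Or.inl hsm
  refine Or.inr ?_
  obtain ⟨V, hV, hxV, -⟩ := exists_isAffineOpen_mem_and_subset (x := f x) (U := ⊤) trivial
  obtain ⟨U, hU, hxU, e⟩ := exists_isAffineOpen_mem_and_subset (x := x) (U := f ⁻¹ᵁ V) hxV
  letI := (f.appLE V U e).hom.toAlgebra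
  haveI : Algebra.FinitePresentation Γ(S, V) Γ(X, U) := f.finitePresentation_appLE hV hU e
  obtain ⟨qb, hqb⟩ := mem_range_comap_mk (q := hU.primeIdealOf ⟨x, hxU⟩)
    (not_not.1 fun hF => hsm ((smooth_iff_chart f hU hV e hxU (hd x)).2 hF))
  refine (node_chart f hU.fromSpec hV.fromSpec (IsAffineOpen.SpecMap_appLE_fromSpec f hV hU e).symm x _
    (hU.fromSpec_primeIdealOf ⟨x, hxU⟩) qb hqb).2 ?_ (Algebra.formallyUnramified_iff_forall.1 (hu U hU V hV e) qb)
  intro z hzx hzc
  refine notMem_ass_of_syntomic (pullback.snd f _) (KRegLib.isSyntomicMor_of_isPullback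
    (IsPullback.of_hasPullback f _) hs) z hzc ?_
  rw [FibDim.fibreDimAt_baseChange (IsPullback.of_hasPullback f _) z, hzx]
  exact hd x

end Family

theorem localFibreDim_eq {X S : Scheme.{u}} (f : X ⟶ S) (x : X) :
    Dual3.localFibreDim f x = FlatMor.fibreDimAt f x := by
  show (⨅ (U : (f.fiber (f x)).Opens) (_ : f.asFiber x ∈ U), topologicalKrullDim ↥U) = _
  rw [iInf_subtype']
  rfl

theorem atWorstNodal_pullback_iff (k : Type u) [Field k] (X : Scheme.{u}) [X.Over (Spec (CommRingCat.of k))]
    [LocallyOfFiniteType (X ↘ Spec (CommRingCat.of k))] (K : Type u) [Field K] [Algebra k K]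
    (g : Spec (CommRingCat.of K) ⟶ Spec (CommRingCat.of k)) (hg : g = Spec.map (CommRingCat.ofHom (algebraMap k K))) :
    ((∀ Z ∈ irreducibleComponents (↥(pullback (X ↘ Spec (CommRingCat.of k)) g) : Type u), topologicalKrullDim Z = 1) ∧
        @Curv2.AtWorstNodal K _ (pullback (X ↘ Spec (CommRingCat.of k)) g) ⟨pullback.snd _ g⟩) ↔
      ((∀ Z ∈ irreducibleComponents (X : Type u), topologicalKrullDim Z = 1) ∧ Curv2.AtWorstNodal k X) := by
  subst hg
  exact ⟨fun h => NodalLib.nodal_of_bc k X K h.1 h.2, fun h => NodalLib.nodal_bc k X K h.1 h.2⟩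

theorem isNodalFamily_field_iff (k : Type u) [Field k] (X : Scheme.{u}) [X.Over (Spec (CommRingCat.of k))]
    [LocallyOfFiniteType (X ↘ Spec (CommRingCat.of k))] :
    Curv2.IsNodalFamily (X ↘ Spec (CommRingCat.of k)) ↔
      ((∀ Z ∈ irreducibleComponents (X : Type u), topologicalKrullDim Z = 1) ∧ Curv2.AtWorstNodal k X) := by
  let S := Spec (CommRingCat.of k)
  haveI : Subsingleton ↥S := inferInstanceAs (Subsingleton (PrimeSpectrum k))
  have key : ∀ s : S,
      ((∀ Z ∈ irreducibleComponents (↥((X ↘ S).fiber s) : Type u), topologicalKrullDim Z = 1) ∧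
        @Curv2.AtWorstNodal (S.residueField s) _ ((X ↘ S).fiber s) ⟨(X ↘ S).fiberToSpecResidueField s⟩) ↔
      ((∀ Z ∈ irreducibleComponents (X : Type u), topologicalKrullDim Z = 1) ∧ Curv2.AtWorstNodal k X) := fun s => by
    letI : Algebra k (S.residueField s) := (Spec.preimage (S.fromSpecResidueField s)).hom.toAlgebra
    exact atWorstNodal_pullback_iff k X (S.residueField s) (S.fromSpecResidueField s) (Spec.map_preimage _).symm
  exact ⟨fun h => (key (default : PrimeSpectrum k)).1 (h.2.2 _),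
    fun h => ⟨inferInstance, inferInstance, fun s => (key s).2 h⟩⟩

/-- Nodal families are the syntomic families of curves with unramified singular locus. -/
theorem isNodalFamily_iff_syntomic {X S : Scheme.{u}} (f : X ⟶ S) [LocallyOfFiniteType f] (Ω : X.Modules)
    (d : OmegaSh.Der f Ω) (hd : OmegaSh.IsUniversal d) :
    Curv2.IsNodalFamily f ↔
      (Synt.IsSyntomicMor f ∧ (∀ x : X, FlatMor.fibreDimAt f x = (1 : WithBot ℕ∞)) ∧
        FormallyUnramified ((Fitt.sheafIdeal Ω 1).subschemeι ≫ f)) := by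
  constructor
  · intro h
    haveI := h.1
    haveI := h.2.1
    have hn := (isNodalFamily_iff_univ f).1 h
    exact ⟨isSyntomicMor_of_isNodalFamily f h, fun x => (hn.ge (Set.mem_univ x)).1,
      (formallyUnramified_sing_iff f Ω d hd).2 fun U hU V hV e => unramified_sing_of_nodalPts f hn hU hV e⟩
  · rintro ⟨hs, hdim, hu⟩
    haveI := Synt29.flat_of_isSyntomicMor f hs
    haveI := KRegLib.lfp_of_isSyntomicMor f hs
    exact (isNodalFamily_iff_univ f).2
      (nodalPts_eq_univ_of_syntomic f hs hdim ((formallyUnramified_sing_iff f Ω d hd).1 hu))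

end Groth.Agent.NodalQ
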